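import Cfsg.Agent.GWDihedral.Setting

/-!
Simple groups with dihedral Sylow 2-subgroups: the cases for a maximal subgroup over the centraliser of `t`,
by the number of four-groups of the frame it rotates (notes/gw_dihedral_max_h5.md).
-/

set_option autoImplicit false

namespace Cfsg.Lib.GWD

open Subgroup
open Cfsg.Lib.GW (Core)

universe u

variable {G : Type u} [Group G]

namespace Frame

variable (F : Frame G)

/-- A maximal subgroup over `C` rotates at most one of the four-groups. -/
def BothRotSpec : Prop :=
  ∀ M : Subgroup G, IsCoatom M → F.C ≤ M → Rot F.four₁ M → ¬ Rot F.four₂ M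

/-- A maximal subgroup over `C` rotating no four-group is `C`. -/
def NoRotSpec : Prop :=
  ∀ M : Subgroup G, IsCoatom M → F.C ≤ M → ¬ Rot F.four₁ M → ¬ Rot F.four₂ M → M = F.C

/-- A maximal subgroup with top `S₄` whose odd core is centralised by the rotated four-group, of index 15, 35
or 63; the ratio `w₁ / w₂` is 1, 3, 5 in these cases. -/
def SFourLeft (M : Subgroup G) : Prop :=
  (Core M).relIndex M = 24 ∧ F.four₁.U ≤ centralizer (Core M : Set G) ∧
    ((M.index = 15 ∧ F.w₁ = F.w₂) ∨ (M.index = 35 ∧ F.w₁ = 3 * F.w₂) ∨ (M.index = 63 ∧ F.w₁ = 5 * F.w₂))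

/-- A maximal subgroup over `C` rotating only the first four-group: the group is known, or the top is `S₄`
with one of three indices. -/
def OneRotSpec : Prop :=
  F.four₁.W ≠ ⊥ ∨ F.four₂.W ≠ ⊥ → ∀ M : Subgroup G, IsCoatom M → F.C ≤ M → Rot F.four₁ M → ¬ Rot F.four₂ M →
    IsDihType G ∨ F.SFourLeft M

end Frame

end Cfsg.Lib.GWD
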