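import Cfsg.Agent.GWDihedral.Maximal.OnePrime
import Cfsg.Agent.GWDihedral.Maximal.Spec
import Cfsg.Agent.GWDihedral.Basic

/-!
Simple groups with dihedral Sylow 2-subgroups: a maximal subgroup over `C(t)` rotating neither four-group of the
frame is `C(t)`.
-/

set_option autoImplicit false
set_option linter.unusedSectionVars false
set_option linter.style.haveILetI false

namespace Cfsg.Lib.GWD

open Subgroup
open Cfsg.Lib.GenDihedral (mul_self_of_two inv_of_two)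
open Cfsg.Lib.GW (Core core_le le_normalizer_core)
open Cfsg.Lib.Misc.BenderPair (cr cr_le cr_normalizer isPGroup_cr)
open Cfsg.Lib.Coprime (conjMap)
open Cfsg.Lib.GW.MaxCent (Data)

universe u

variable {G : Type u} [Group G] [Finite G]

namespace Frame

variable (F : Frame G)

/-- The central involution is the only one in the cyclic part. -/
theorem eq_t_of_mem_zpowers {u : G} (hu : u ∈ zpowers F.s) (hu2 : orderOf u = 2) : u = F.t := by
  obtain ⟨i, rfl⟩ := mem_zpowers_iff.1 hu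
  obtain ⟨k, hk⟩ : ∃ k, F.n = k + 2 := ⟨F.n - 2, by have := F.three_le; omega⟩
  have h2 : F.s ^ (2 * i) = 1 := by rw [two_mul, zpow_add]; exact mul_self_of_two hu2
  have hd : ((2 ^ (k + 1) : ℕ) : ℤ) ∣ 2 * i := by
    have h := orderOf_dvd_iff_zpow_eq_one.2 h2
    rwa [F.s_order, hk, show k + 2 - 1 = k + 1 by omega] at h
  rw [pow_succ, Nat.cast_mul, mul_comm (2 : ℤ), Nat.cast_two] at hd
  obtain ⟨j, rfl⟩ := Int.dvd_of_mul_dvd_mul_right (by norm_num) hd
  rw [Nat.cast_pow, Nat.cast_two, _root_.zpow_mul, show (2 : ℤ) ^ k = ((2 ^ k : ℕ) : ℤ) by push_cast; rfl,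
    zpow_natCast, show F.s ^ 2 ^ k = F.t by rw [Frame.t, hk, Nat.add_sub_cancel]] at hu2 ⊢
  rcases Int.even_or_odd' j with ⟨l, rfl | rfl⟩
  · rw [_root_.zpow_mul, zpow_two, mul_self_of_two F.t_order, one_zpow, orderOf_one] at hu2
    omega
  · rw [zpow_add, zpow_one, _root_.zpow_mul, zpow_two, mul_self_of_two F.t_order, one_zpow, one_mul]

/-- A subgroup over `C` rotating some four-group rotates one of the frame. -/
theorem rot_of_rot (hm : Minimal G) {M : Subgroup G} (hC : F.C ≤ M) {W : Cfsg.Lib.GW.Frame G} (hW : Rot W M) :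
    Rot F.four₁ M ∨ Rot F.four₂ M := by
  haveI : Fact (Nat.Prime 2) := ⟨Nat.prime_two⟩
  have hS : F.S ≤ M := F.S_le_C.trans hC
  -- into the Sylow subgroup
  obtain ⟨T, hT⟩ := (W.isPGroup_U.comap_subtype (K := M)).exists_le_sylow
  let P : Sylow 2 M := F.sylow.subtype (N := M) (by rw [F.coe_sylow]; exact hS)
  obtain ⟨m, hm'⟩ := MulAction.exists_smul_eq M T P
  have hW' : Rot (conjFrame (m : G) W) M :=
    hW.conj (m : G) fun x hx => mul_mem (mul_mem m.2 hx) (inv_mem m.2)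
  have hUS : (conjFrame (m : G) W).U ≤ F.S := by
    rw [conjFrame_U]
    rintro _ ⟨x, hx, rfl⟩
    have h1 : m * ⟨x, hW.1 hx⟩ * m⁻¹ ∈ (P : Subgroup M) := by
      rw [← hm']; exact ⟨_, hT (mem_subgroupOf.2 hx), rfl⟩
    rw [show (P : Subgroup M) = F.S.subgroupOf M by
      show ((F.sylow.subtype (N := M) _ : Sylow 2 M) : Subgroup M) = _
      rw [Sylow.coe_subtype, F.coe_sylow]] at h1
    exact mem_subgroupOf.1 h1
  have htU : F.four₁.t ∈ (conjFrame (m : G) W).U := t_mem_of_le hm (F := F.four₁) (hUS.trans F.S_le_C)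
  obtain ⟨V, hVt, hVU, hR⟩ := exists_frame_through hW' htU F.four₁.t_ne_one
  change V.t = F.t at hVt
  -- its second involution is a reflection
  have huS : V.u ∈ F.S := hUS (hVU ▸ V.u_mem_U)
  rcases F.S_cases huS with hz | hz
  · exact absurd ((F.eq_t_of_mem_zpowers hz V.u_order).trans hVt.symm).symm V.t_ne_u
  obtain ⟨i, hi⟩ := mem_zpowers_iff.1 hz
  have hu : V.u = F.s ^ i * F.r := by rw [hi, mul_assoc, mul_self_of_two F.r_order, mul_one]
  have hmem : ∀ {c : G}, c ∈ F.S → ∀ x ∈ M, c * x * c⁻¹ ∈ M := fun hc x hx =>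
    mul_mem (mul_mem (hS hc) hx) (inv_mem (hS hc))
  have hst : ∀ k : ℤ, F.s ^ k * F.t * (F.s ^ k)⁻¹ = F.t := fun k =>
    mul_inv_eq_iff_eq_mul.2 (((Commute.refl F.s).zpow_left k).pow_right _).eq
  have hsr : ∀ k : ℤ, F.s ^ k * (F.s ^ i * F.r) * (F.s ^ k)⁻¹ = F.s ^ (2 * k + i) * F.r := fun k => by
    have h1 : F.r * (F.s ^ k)⁻¹ * F.r⁻¹ = F.s ^ k := by rw [← conj_inv, ← conj_zpow, F.rel, inv_zpow, inv_inv]
    calc F.s ^ k * (F.s ^ i * F.r) * (F.s ^ k)⁻¹
        = F.s ^ k * F.s ^ i * (F.r * (F.s ^ k)⁻¹ * F.r⁻¹) * F.r := by group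
      _ = F.s ^ (2 * k + i) * F.r := by rw [h1, ← zpow_add, ← zpow_add]; congr 2; ring
  have finish : ∀ (k : ℤ) (V' : Cfsg.Lib.GW.Frame G), V'.t = F.t → V'.u = F.s ^ (2 * k + i) * F.r → Rot V' M := by
    intro k V' ht' hu'
    obtain ⟨hU, g, hg, h1, h2⟩ := hR.conj (F.s ^ k) (hmem (zpow_mem F.s_mem_S k))
    change g * (F.s ^ k * V.t * (F.s ^ k)⁻¹) * g⁻¹ = F.s ^ k * V.u * (F.s ^ k)⁻¹ at h1
    change g * (F.s ^ k * V.u * (F.s ^ k)⁻¹) * g⁻¹ = F.s ^ k * V.t * (F.s ^ k)⁻¹ * (F.s ^ k * V.u * (F.s ^ k)⁻¹) at h2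
    rw [hVt, hst, hu, hsr, ← hu', ← ht'] at h1 h2
    refine ⟨V'.U_le_iff.2 ⟨ht' ▸ hS F.t_mem_S, ?_⟩, g, hg, h1, h2⟩
    rw [hu']; exact hS (mul_mem (zpow_mem F.s_mem_S _) F.r_mem_S)
  rcases Int.even_or_odd' i with ⟨l, rfl | rfl⟩
  · refine Or.inl (finish (-l) F.four₁ rfl ?_)
    rw [show 2 * -l + 2 * l = (0 : ℤ) by ring, zpow_zero, one_mul]
  · refine Or.inr (finish (-(l + 1)) F.four₂ rfl ?_)
    rw [show 2 * -(l + 1) + (2 * l + 1) = (-1 : ℤ) by ring, zpow_neg, zpow_one]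
    show F.r * F.s = F.s⁻¹ * F.r
    rw [← F.rel, inv_mul_cancel_right]

/-- With a non-trivial 2-core a 2-nilpotent maximal subgroup over `C` is `C`. -/
theorem eq_C_of_two (hm : Minimal G) {M : Subgroup G} (hC : F.C ≤ M)
    (hnil : IsPGroup 2 (M ⧸ Cfsg.oddCore M)) (h2 : cr 2 M ≠ ⊥) : M = F.C := by
  haveI : Fact (Nat.Prime 2) := ⟨Nat.prime_two⟩
  have hS : F.S ≤ M := F.S_le_C.trans hC
  have hE : cr 2 M ≤ F.S := by
    have hP : IsPGroup 2 ↥(cr 2 M ⊔ F.S) :=
      (isPGroup_cr (p := 2) M).to_sup_of_normal_left' F.isPGroup_S (hS.trans (cr_normalizer 2 M))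
    have := F.sylow.is_maximal' hP (by rw [F.coe_sylow]; exact le_sup_right)
    rw [F.coe_sylow] at this
    exact le_sup_left.trans this.le
  haveI : ((cr 2 M).subgroupOf F.S).Normal :=
    (normal_subgroupOf_iff_le_normalizer hE).2 (hS.trans (cr_normalizer 2 M))
  obtain ⟨z, hzU, hz1, ⟨hzS, hzE⟩, hzc⟩ := exists_central F.four₁ hm F.isPGroup_S
    (F.four₁.U_le_iff.2 ⟨F.t_mem_S, F.r_mem_S⟩) (N := (cr 2 M).subgroupOf F.S)
    (by rw [ne_eq, subgroupOf_eq_bot, disjoint_iff, inf_eq_left.2 hE]; exact h2)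
  have hzs : F.s * z = z * F.s := mem_centralizer_singleton_iff.1 (hzc F.s_mem_S)
  have hrs : ¬ F.s * F.r = F.r * F.s := fun e => by
    have h := F.rel
    rw [← e, mul_inv_cancel_right] at h
    have h2 : F.s ^ 2 = 1 := by rw [pow_two]; exact mul_eq_one_iff_eq_inv.2 h
    have := Nat.le_of_dvd two_pos (orderOf_dvd_of_pow_eq_one h2)
    rw [F.s_order] at this
    have h3 := F.three_le
    have := Nat.pow_le_pow_right two_pos (show 2 ≤ F.n - 1 by omega)
    omega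
  have hzt : z = F.t := by
    rcases (F.four₁.mem_U.1 hzU).resolve_left hz1 with e | e | e
    · exact e
    · exact absurd (by rw [e] at hzs; exact hzs : F.s * F.r = F.r * F.s) hrs
    · refine absurd (mul_left_cancel (a := F.t) ?_) hrs
      rw [e] at hzs
      rw [← mul_assoc, ← F.S_comm_t F.s_mem_S, mul_assoc, ← mul_assoc F.t]
      exact hzs
  have htE : F.t ∈ cr 2 M := hzt ▸ mem_subgroupOf.1 hzE
  -- `M = Core M ⊔ S`
  have hsup : Core M ⊔ F.S = M := by
    refine le_antisymm (sup_le (core_le M) hS) ?_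
    rw [← relIndex_eq_one]
    have h1 : (Core M ⊔ F.S).relIndex M ∣ (Core M).relIndex M := relIndex_dvd_of_le_left M le_sup_left
    have h3 : (Core M).relIndex M = Nat.card (M ⧸ Cfsg.oddCore M) := by
      rw [Subgroup.relIndex, ← index_eq_card]
      congr 1
      ext x
      rw [mem_subgroupOf]
      exact ⟨fun ⟨y, hy, e⟩ => (Subtype.ext e : y = x) ▸ hy, fun hx => ⟨x, hx, rfl⟩⟩
    obtain ⟨k, hk⟩ := IsPGroup.iff_card.1 hnil
    rw [h3, hk] at h1
    have h4 : ¬ 2 ∣ (Core M ⊔ F.S).relIndex M := fun hd => F.sylow.not_dvd_index (by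
      rw [F.coe_sylow, ← Subgroup.relIndex_mul_index hS]
      exact (hd.trans (relIndex_dvd_of_le_left M le_sup_right)).mul_right _)
    exact Nat.eq_one_of_dvd_coprimes ((Nat.prime_two.coprime_iff_not_dvd.2 h4).pow_left k) h1 dvd_rfl
  have hdis : Disjoint (Core M) (cr 2 M) := by
    refine disjoint_iff.2 (Cfsg.Lib.Coprime.inf_eq_bot_of_coprime ?_)
    obtain ⟨n, hn⟩ := IsPGroup.iff_card.1 (isPGroup_cr (p := 2) M)
    rw [hn]
    exact (Nat.coprime_two_right.2 (Cfsg.Lib.GW.Frame.odd_card_core M)).pow_right n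
  refine le_antisymm ?_ hC
  rw [← hsup]
  exact sup_le (fun x hx => F.mem_C.2 (Cfsg.Lib.GW.MaxCent.commute_of_disjoint hdis hx htE
    (cr_normalizer 2 M (core_le M hx)) (le_normalizer_core M (cr_le 2 M htE))).eq) F.S_le_C

/-- A maximal subgroup over `C` rotating no four-group of the frame is `C`. -/
theorem noRotSpec (hm : Minimal G) : F.NoRotSpec := by
  intro M hM hC hR1 hR2
  haveI := hm.simple
  haveI : Fact (Nat.Prime 2) := ⟨Nat.prime_two⟩
  have hnoR : ∀ W : Cfsg.Lib.GW.Frame G, ¬ Rot W M := fun W h => (F.rot_of_rot hm hC h).elim hR1 hR2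
  have hS : F.S ≤ M := F.S_le_C.trans hC
  have hU : F.four₁.U ≤ M := F.four₁.U_le_iff.2 ⟨hS F.t_mem_S, hS F.r_mem_S⟩
  have hnil := nil_of F.four₁ (hm.splitSpec _) hM.1 hU hnoR
  by_cases h2 : cr 2 M = ⊥
  swap
  · exact F.eq_C_of_two hm hC hnil h2
  exfalso
  have hsol : Group.IsSolvable M := by
    haveI : Group.IsNilpotent (M ⧸ Cfsg.oddCore M) := hnil.isNilpotent
    refine Cfsg.Lib.GenDihedral.solvable_ext (Cfsg.oddCore M) ?_ inferInstance
    refine Cfsg.Lib.GenDihedral.solvable_of_odd ?_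
    rw [← card_map_of_injective M.subtype_injective]
    exact Cfsg.Lib.GW.Frame.odd_card_core M
  have D : Data M F.four₁.t F.four₁.u F.four₁.σ :=
    { coatom := hM, tt := F.four₁.t_sq, uu := F.four₁.u_sq, tne := F.four₁.t_ne_one, comm := F.four₁.comm
      cent := hC, conj_t := F.four₁.σ_t, conj_u := F.four₁.σ_u
      out := fun hσ => hR1 ⟨hU, F.σ₁, hσ, F.four₁.σ_t, F.four₁.σ_u⟩
      sol := hsol
      odd := ⟨Core M, core_le M, le_normalizer_core M, Cfsg.Lib.GW.Frame.odd_card_core M,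
        fun x hx ho _ => mem_core_of_nil hnil hx ho⟩
      two := h2 }
  -- `s ^ 2 ^ (n - 3)` exchanges `r` and `t r`
  obtain ⟨k, hk⟩ : ∃ k, F.n = k + 3 := ⟨F.n - 3, by have := F.three_le; omega⟩
  set a := F.s ^ 2 ^ k with ha
  have hat : a * F.four₁.t = F.four₁.t * a := ((Commute.refl F.s).pow_pow _ _).eq
  have hau : a * F.four₁.u * a⁻¹ = F.four₁.t * F.four₁.u := by
    have ht : F.t = a * a := by
      rw [Frame.t, hk, ha, ← pow_add]; congr 1
      rw [show k + 3 - 2 = k + 1 by omega, pow_succ]; ring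
    have hr : F.r * a⁻¹ * F.r⁻¹ = a := by rw [← conj_inv, ha, ← conj_pow, F.rel, inv_pow, inv_inv]
    show a * F.r * a⁻¹ = F.t * F.r
    calc a * F.r * a⁻¹ = a * (F.r * a⁻¹ * F.r⁻¹) * F.r := by group
      _ = F.t * F.r := by rw [hr, ht]
  obtain ⟨p, hp, v, hv, hvt⟩ := D.exists_moved
  have hone : ∀ q : ℕ, q.Prime → q ≠ p → cr q M = ⊥ := fun q hq hqp => by
    by_contra hqM
    refine D.false_of_two_primes hm.nonab (layerHyp hm F.four₁ D hat hau) hp hq (Ne.symm hqp) (fun e => ?_) hqM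
    rw [e, mem_bot] at hv
    exact hvt (hv ▸ Commute.one_left _)
  refine false_of_onePrime F.four₁ hm D hnil (fun W g hR => hnoR _ (hR.conj g⁻¹ fun x hx => ?_))
    (fun g hUg c hc => ?_) hat hau hp hone
  · have := Cfsg.Lib.GW.MaxCent.mem_conjMap_iff.1 hx
    rwa [inv_inv]
  · -- a four-group in a conjugate of `M` has its centraliser there
    have hU' : ∀ x ∈ F.four₁.U, g⁻¹ * x * g ∈ M := fun x hx => Cfsg.Lib.GW.MaxCent.mem_conjMap_iff.1 (hUg hx)
    let V' := conjFrame g⁻¹ F.four₁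
    have hV'M : V'.U ≤ M := by
      rw [conjFrame_U]
      rintro _ ⟨x, hx, rfl⟩
      simpa using hU' x hx
    obtain ⟨T, hT⟩ := (V'.isPGroup_U.comap_subtype (K := M)).exists_le_sylow
    let P : Sylow 2 M := F.sylow.subtype (N := M) (by rw [F.coe_sylow]; exact hS)
    obtain ⟨m, hm'⟩ := MulAction.exists_smul_eq M T P
    have hV''C : (conjFrame (m : G) V').U ≤ F.C := by
      rw [conjFrame_U]
      rintro _ ⟨x, hx, rfl⟩
      have h1 : m * ⟨x, hV'M hx⟩ * m⁻¹ ∈ (P : Subgroup M) := by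
        rw [← hm']; exact ⟨_, hT (mem_subgroupOf.2 hx), rfl⟩
      rw [show (P : Subgroup M) = F.S.subgroupOf M by
        show ((F.sylow.subtype (N := M) _ : Sylow 2 M) : Subgroup M) = _
        rw [Sylow.coe_subtype, F.coe_sylow]] at h1
      exact F.S_le_C (mem_subgroupOf.1 h1)
    have htU : F.four₁.t ∈ (conjFrame (m : G) V').U := t_mem_of_le hm (F := F.four₁) hV''C
    rw [conjFrame_U, conjFrame_U] at htU
    obtain ⟨_, ⟨u, hu, rfl⟩, ht⟩ := htU
    rw [Cfsg.Lib.GW.MaxCent.mem_conjMap_iff]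
    set h := (m : G) * g⁻¹ with hh
    have hut : h * u * h⁻¹ = F.t := by
      rw [hh]; simp only [MulEquiv.coe_toMonoidHom, MulAut.conj_apply, inv_inv] at ht
      rw [← ht]; group
    have hcu : h * c * h⁻¹ ∈ F.C := F.mem_C.2 (by
      rw [← hut, conj_mul, conj_mul, mem_centralizer_iff.1 hc u hu])
    have := mul_mem (mul_mem (inv_mem m.2) (hC hcu)) m.2
    rwa [hh, show (m : G)⁻¹ * ((m : G) * g⁻¹ * c * ((m : G) * g⁻¹)⁻¹) * (m : G) = g⁻¹ * c * g by group] at this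

end Frame

end Cfsg.Lib.GWD
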