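import Cfsg.Agent.GWDihedral.Local.Two
import Cfsg.Agent.FourGroupGW.MaxCent.Data
import Cfsg.Agent.FourGroupGW.LocalZJ
import Cfsg.Agent.Components.ZJ.Closed
import Cfsg.Agent.Coprime.Sylow
import Cfsg.Agent.GenDihedral.Maximal

/-!
Simple groups with dihedral Sylow 2-subgroups: a solvable maximal subgroup with a single odd prime in its Fitting
subgroup is the normaliser of the `ZJ` of each of its Sylow subgroups for that prime, which are Sylow in the group.
-/

set_option autoImplicit false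
set_option linter.unusedSectionVars false
set_option linter.style.haveILetI false

namespace Cfsg.Lib.GWD

open Subgroup
open Cfsg.Lib.Misc.BenderPair (cr cr_le cr_normalizer isPGroup_cr)
open Cfsg.Lib.Coprime (conjMap)
open scoped Pointwise

universe u

variable {G : Type u} [Group G] [Finite G]

/-- `M` is the normaliser of the `ZJ` of its Sylow `p`-subgroups, which are Sylow in `G`. -/
theorem Minimal.sylow_of_onePrime (hm : Minimal G) {M : Subgroup G} (hM : IsCoatom M) (hM1 : M ≠ ⊥)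
    (hsol : Group.IsSolvable M) {p : ℕ} [Fact p.Prime] (hp : p ≠ 2) (hne : cr p M ≠ ⊥)
    (hone : ∀ q : ℕ, q.Prime → q ≠ p → cr q M = ⊥) (T : Sylow p M) :
    ∃ S : Sylow p G, (S : Subgroup G) = (T : Subgroup M).map M.subtype ∧ cr p M ≤ (S : Subgroup G) ∧
      normalizer (Cfsg.centerThompsonAOf (S : Subgroup G) : Set G) = M ∧
      normalizer ((S : Subgroup G) : Set G) ≤ M := by
  haveI := hsol
  haveI := hm.simple
  have hcent : centralizer (Cfsg.pCore p M : Set M) ≤ Cfsg.pCore p M := by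
    intro x hx
    have hxF : zpowers x ≤ centralizer (Cfsg.fittingSubgroup M : Set M) := by
      refine Cfsg.Lib.Misc.BenderPair.fitting_le_centralizer_iff fun r hr => ?_
      by_cases h : r = p
      · rw [h]; exact zpowers_le.2 hx
      · rw [(map_eq_bot_iff_of_injective _ M.subtype_injective).1 (hone r hr h), zpowers_le, mem_centralizer_iff]
        intro y hy
        rw [SetLike.mem_coe, mem_bot] at hy
        rw [hy, one_mul, mul_one]
    have hxF' : x ∈ Cfsg.fittingSubgroup M := Cfsg.Lib.Coprime.centralizer_fitting_le (zpowers_le.1 hxF)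
    have hle : Cfsg.fittingSubgroup M ≤ Cfsg.pCore p M := by
      rw [Cfsg.Lib.Components.fitting_eq_iSup_pCore]
      refine iSup_le fun r => ?_
      by_cases h : r.1 = p
      · rw [h]
      · rw [(map_eq_bot_iff_of_injective _ M.subtype_injective).1 (hone r.1 r.2 h)]
        exact bot_le
    exact hle hxF'
  have hodd : Odd (Nat.card (centralizer (Cfsg.pCore p M : Set M))) :=
    ((Cfsg.Lib.GW.MaxCent.odd_card_of_isPGroup hp (Cfsg.Lib.Components.isPGroup_pCore (G := M) p))).of_dvd_nat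
      (card_dvd_of_le hcent)
  have htop := Cfsg.Lib.GW.sup_normalizer_zj_of_qd hp (qdFree (hm.dc_sub M) hp) hodd T
  have hc0 : Cfsg.pPrimeCore p M = ⊥ := by
    rw [eq_bot_iff]
    intro x hx
    have hdis : Disjoint (Cfsg.pPrimeCore p M) (Cfsg.pCore p M) := by
      refine disjoint_iff.2 (Cfsg.Lib.Coprime.inf_eq_bot_of_coprime ?_)
      obtain ⟨k, hk⟩ := IsPGroup.iff_card.1 (Cfsg.Lib.Components.isPGroup_pCore (G := M) p)
      rw [hk]
      exact Nat.Coprime.pow_right k (Cfsg.Lib.Components.coprime_card_pPrimeCore (G := M) p)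
    have hxc : x ∈ centralizer (Cfsg.pCore p M : Set M) := mem_centralizer_iff.2 fun y hy =>
      (Subgroup.commute_of_normal_of_disjoint _ _ inferInstance inferInstance hdis x y hx hy).eq.symm
    exact disjoint_def.1 hdis hx (hcent hxc) ▸ one_mem _
  rw [hc0, bot_sup_eq] at htop
  set S := (T : Subgroup M).map M.subtype with hS
  have hSp : IsPGroup p S := T.2.map _
  have hSM : S ≤ M := map_subtype_le _
  have hRS : cr p M ≤ S :=
    map_mono (Cfsg.Lib.Thompson.le_sylow_of_normal (Cfsg.Lib.Components.isPGroup_pCore p) T)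
  have hS1 : S ≠ ⊥ := fun e => hne (eq_bot_iff.2 (hRS.trans e.le))
  set Z := Cfsg.centerThompsonAOf S with hZ
  have hZmap : (Cfsg.centerThompsonAOf (T : Subgroup M)).map M.subtype = Z := by
    rw [hZ, hS, Cfsg.Lib.ZJ.centerThompsonAOf_map_injOn M.subtype_injective.injOn]
  have hMZ : M ≤ normalizer (Z : Set G) := by
    rw [← hZmap]
    intro g hg
    have h := htop ▸ mem_top (⟨g, hg⟩ : M)
    refine mem_normalizer_iff.2 fun x => ⟨?_, ?_⟩
    · rintro ⟨y, hy, rfl⟩
      exact ⟨⟨g, hg⟩ * y * ⟨g, hg⟩⁻¹, (mem_normalizer_iff.1 h y).1 hy, rfl⟩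
    · rintro ⟨y, hy, e⟩
      refine ⟨⟨g, hg⟩⁻¹ * y * ⟨g, hg⟩, (mem_normalizer_iff.1 h _).2 (by simpa [mul_assoc] using hy), ?_⟩
      show g⁻¹ * (y : G) * g = x
      rw [show (y : G) = g * x * g⁻¹ from e]; group
  have hZM : Z ≤ M := hZmap ▸ map_subtype_le _
  have hNZ : normalizer (Z : Set G) = M := Cfsg.Lib.BenderSE.Crit2.normalizer_eq_of_coatom hM hZM hMZ
    (Cfsg.Lib.ZJ.centerThompsonAOf_ne_bot hSp hS1)
  have hnS : normalizer (S : Set G) ≤ M := fun g hg => by
    have h : normalizer ((Cfsg.centerThompsonAOf (conjMap g S) : Subgroup G) : Set G) = conjMap g M := by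
      rw [conjMap, ← Cfsg.Lib.ZJ.centerThompsonAOf_map]
      show normalizer ((conjMap g Z : Subgroup G) : Set G) = conjMap g M
      rw [Cfsg.Lib.Coprime.normalizer_conjMap, hNZ]
    rw [Cfsg.Lib.Coprime.conjMap_eq_self hg, ← hZ, hNZ] at h
    have hgn : g ∈ normalizer (M : Set G) := Cfsg.Lib.Coprime.conjMap_eq_self_iff.1 h.symm
    rwa [Cfsg.Lib.BenderSE.Crit2.normalizer_eq_of_coatom hM le_rfl le_normalizer hM1] at hgn
  refine ⟨⟨S, hSp, fun {Q} hQ hle => ?_⟩, rfl, hRS, hNZ, hnS⟩
  by_contra hne'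
  have hlt := Cfsg.Lib.GenDihedral.lt_inf_normalizer hQ (lt_of_le_of_ne hle (Ne.symm hne'))
  have hmem : Q ⊓ normalizer (S : Set G) ≤ M := inf_le_right.trans hnS
  have he := T.3 ((hQ.to_le inf_le_left).comap_of_injective M.subtype M.subtype_injective) fun x hx =>
    show (x : G) ∈ Q ⊓ normalizer (S : Set G) from hlt.le (mem_map_of_mem _ hx)
  refine hlt.not_ge fun x hx => ?_
  exact ⟨⟨x, hmem hx⟩, he ▸ (show (⟨x, hmem hx⟩ : M) ∈ (Q ⊓ normalizer (S : Set G)).comap M.subtype from hx), rfl⟩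

end Cfsg.Lib.GWD
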