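import Cfsg.Agent.GWDihedral.Proper.Top
import Cfsg.Agent.FourGroupGW.MaxCent.TheoremA

/-!
Simple groups with dihedral Sylow 2-subgroups: the layer hypothesis of Theorem A for a maximal subgroup over `C(t)`
which omits a rotation of a four-group through `t`.
-/

set_option autoImplicit false
set_option linter.unusedSectionVars false
set_option linter.style.haveILetI false

namespace Cfsg.Lib.GWD

open Subgroup
open Cfsg.Lib.GenDihedral (mul_self_of_two inv_of_two mem_of_sq)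
open Cfsg.Lib.GW (Core qmap qmap_eq qmap_eq_one core_le le_normalizer_core)
open Cfsg.Lib.Misc.BenderPair (cr cr_le cr_normalizer isPGroup_cr)
open Cfsg.Lib.Coprime (conjMap)
open Cfsg.Lib.GW.MaxCent (Data LayerHyp odd_card_of_isPGroup odd_orderOf_of_mem cr_conjMap mem_conjMap_iff)

universe u

variable {G : Type u} [Group G] [Finite G]

/-- The `q`-core of a subgroup lies in its odd core. -/
theorem cr_le_core {q : ℕ} [Fact q.Prime] (hq : q ≠ 2) (M : Subgroup G) : cr q M ≤ Core M :=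
  map_mono (le_sSup ⟨inferInstance, Nat.coprime_two_right.2 (by
    rw [← card_map_of_injective (K := Cfsg.pCore q M) M.subtype_injective]
    exact odd_card_of_isPGroup hq (isPGroup_cr M))⟩)

/-- The four-group with its first two involutions exchanged. -/
@[reducible] def exchangeFrame (V : Cfsg.Lib.GW.Frame G) : Cfsg.Lib.GW.Frame G where
  t := V.u
  u := V.t
  σ := V.σ⁻¹
  t_order := V.u_order
  u_order := V.t_order
  t_ne_u := V.t_ne_u.symm
  comm := V.comm.symm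
  σ_t := by rw [← V.σ_t]; group
  σ_u := by
    rw [← V.comm, inv_inv]
    nth_rw 1 [← V.σ_v]
    group

/-- An invariant odd subgroup fixed by the involution outside a component containing the other one. -/
theorem kill_fixed (hm : Minimal G) (V : Cfsg.Lib.GW.Frame G) {H : Subgroup G} (hH : H ≠ ⊤) (hU : V.U ≤ H)
    (hnr : ¬ Rot V H) {L : Subgroup G} (hLH : L ≤ H) (hLp : ⁅L, L⁆ = L) (htL : V.t ∈ L)
    {K : Subgroup G} (hKH : K ≤ H) (hKN : ∀ x ∈ H, x * V.t = V.t * x → x ∈ normalizer (K : Set G))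
    (hfix : ∀ k ∈ K, k⁻¹ * (V.u * k * V.u⁻¹) ∈ Core H) {d : G} (hd : d ∈ K) (hdc : d ∉ Core H)
    (hdo : Odd (orderOf d)) (hdt : V.t * d * V.t⁻¹ = d⁻¹) : False := by
  have F4 := V.four_q hU
  have hr := hm.rankTwo_q V hU
  -- the image of `L`
  set Lb := (L.subgroupOf H).map (qmap H)
  have hLbp : ⁅Lb, Lb⁆ = Lb := by
    rw [← map_commutator]
    congr 1
    refine map_injective H.subtype_injective ?_
    rw [map_commutator, map_subgroupOf_eq_of_le hLH, hLp]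
  have htLb : V.tb hU ∈ Lb := mem_map_of_mem _ (mem_subgroupOf.2 htL)
  have hLb1 : Lb ≠ ⊥ := fun e => by
    have h := F4.z2
    have h' : V.tb hU = 1 := by rw [e] at htLb; exact mem_bot.1 htLb
    rw [h', orderOf_one] at h
    omega
  have hnsol : ¬ Group.IsSolvable (H ⧸ Cfsg.oddCore H) := fun hs => by
    haveI := hs
    have h := Group.IsSolvable.commutator_lt_of_ne_bot hLb1
    rw [hLbp] at h
    exact lt_irrefl _ h
  rcases hm.shape H hH with h2 | ⟨P, hP, hK, hCP, hi⟩ | ⟨N, hN, hT, h4, hCN⟩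
  · haveI : Fact (Nat.Prime 2) := ⟨Nat.prime_two⟩
    haveI : Group.IsNilpotent (H ⧸ Cfsg.oddCore H) := h2.isNilpotent
    exact hnsol inferInstance
  · haveI := hP
    refine hnsol (Cfsg.Lib.GenDihedral.solvable_ext P
      (Group.isSolvable_of_comm fun a b => Cfsg.Lib.GWFour.comm_of_klein a b) ?_)
    refine Cfsg.Lib.GenDihedral.solvable_of_not_four ?_
    rw [← index_eq_card]; omega
  haveI := hN
  have hle : Lb ≤ N := by
    haveI : Group.IsSolvable ((H ⧸ Cfsg.oddCore H) ⧸ N) :=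
      Cfsg.Lib.GenDihedral.solvable_of_not_four (by rwa [← index_eq_card])
    have h1 : Lb.map (QuotientGroup.mk' N) = ⊥ := by
      by_contra h
      have h2 := Group.IsSolvable.commutator_lt_of_ne_bot h
      rw [← map_commutator, hLbp] at h2
      exact lt_irrefl _ h2
    rwa [Subgroup.map_eq_bot_iff, QuotientGroup.ker_mk'] at h1
  rcases hT with ⟨F, i, j, hodd, -, ⟨e⟩⟩ | ⟨⟨e⟩⟩
  swap
  · obtain ⟨hN', D⟩ := topData_of_alt e hCN hr
    subst hN'
    exact hnr ((rot_iff V hU D).2 ⟨mem_top _, mem_top _⟩)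
  have D := topData_of_psl hodd e hCN hr
  have KL := l2Like_of_psl hodd e hCN hr
  have huN : V.ub hU ∉ N := fun h => hnr ((rot_iff V hU D).2 ⟨hle htLb, h⟩)
  -- a second involution of `N` commuting with `t`
  obtain ⟨a, b, haN, hbN, hab⟩ := D.four
  obtain ⟨l, -, hl⟩ := D.conj a (V.tb hU) hab.z2 F4.z2 haN (hle htLb)
  set β := l * b * l⁻¹ with hβ
  have hβN : β ∈ N := Subgroup.Normal.conj_mem inferInstance b hbN l
  have hβ2 : β * β = 1 := by rw [hβ, _root_.conj_mul, mul_self_of_two hab.t2, mul_one, mul_inv_cancel]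
  have hβt : β * V.tb hU = V.tb hU * β := by
    rw [hβ, ← hl, _root_.conj_mul, _root_.conj_mul, hab.comm]
  obtain ⟨x, hx, hxβ⟩ : β ∈ ((H ⊓ V.C).subgroupOf H).map (qmap H) := by
    rw [V.map_cent_t hU]; exact mem_centralizer_singleton_iff.2 hβt
  have hxN := hKN (x : G) x.2 (V.mem_C.1 (mem_subgroupOf.1 hx).2)
  -- the image of `K` is centralised by `u`
  have hKu : ∀ (k : G) (hk : k ∈ K), qmap H ⟨k, hKH hk⟩ * V.ub hU = V.ub hU * qmap H ⟨k, hKH hk⟩ := fun k hk => by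
    have h : qmap H ((⟨k, hKH hk⟩ : H)⁻¹ * (⟨V.u, (V.U_le_iff.1 hU).2⟩ * ⟨k, hKH hk⟩ *
        (⟨V.u, (V.U_le_iff.1 hU).2⟩ : H)⁻¹)) = 1 := qmap_eq_one.2 (hfix k hk)
    rw [map_mul, map_mul, map_mul, map_inv, map_inv, inv_mul_eq_one, eq_mul_inv_iff_mul_eq] at h
    exact h
  set d' := qmap H ⟨d, hKH hd⟩ with hd'
  have hdo' : Odd (orderOf d') :=
    hdo.of_dvd_nat ((orderOf_map_dvd _ _).trans (Subgroup.orderOf_mk d (hKH hd)).dvd)
  have hd'1 : d' ≠ 1 := fun e' => hdc (qmap_eq_one.1 e')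
  have hd'N : d' ∈ N := KL.mem_of_inverted F4.z2 hdo' (by
    rw [Cfsg.Lib.GW.Frame.tb, hd', ← map_inv, ← map_inv, ← map_mul, ← map_mul]
    exact congrArg _ (Subtype.ext hdt))
  have h1 : β⁻¹ * V.ub hU * β = V.ub hU := by
    refine KL.uniq _ _ d' ?_ F4.t2 hd'N hdo' hd'1 ?_ (hKu d hd)
    · rw [show β⁻¹ * V.ub hU * β = β⁻¹ * V.ub hU * β⁻¹⁻¹ by group, ← MulAut.conj_apply, MulEquiv.orderOf_eq,
        F4.t2]
    · have h := hKu _ ((mem_normalizer_iff.1 hxN d).1 hd)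
      have e2 : qmap H ⟨(x : G) * d * (x : G)⁻¹, hKH ((mem_normalizer_iff.1 hxN d).1 hd)⟩ = β * d' * β⁻¹ := by
        rw [← hxβ, hd', ← map_inv, ← map_mul, ← map_mul]; rfl
      rw [e2] at h
      calc d' * (β⁻¹ * V.ub hU * β) = β⁻¹ * (β * d' * β⁻¹ * V.ub hU) * β := by group
        _ = β⁻¹ * (V.ub hU * (β * d' * β⁻¹)) * β := by rw [h]
        _ = β⁻¹ * V.ub hU * β * d' := by group
  have h2 : β * V.ub hU = V.ub hU * β := by
    calc β * V.ub hU = β * (β⁻¹ * V.ub hU * β) := by rw [h1]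
      _ = V.ub hU * β := by group
  rcases hr (V.tb hU) β (V.ub hU) (mul_self_of_two F4.z2) hβ2 (mul_self_of_two F4.t2) hβt.symm F4.comm h2 with
    e' | e' | e' | e' | e' | e' | e'
  · have := F4.z2; rw [e', orderOf_one] at this; omega
  · have := hab.t2
    rw [show b = 1 from conj_eq_one_iff.1 e', orderOf_one] at this
    omega
  · exact hab.ne_zt ((MulAut.conj l).injective (hl.trans e'))
  all_goals refine huN ?_; rw [e']
  exacts [one_mem _, hle htLb, hβN, mul_mem (hle htLb) hβN]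

/-- The layer hypothesis, for an element fixed by `u`. -/
theorem layer_of_fixed (hm : Minimal G) (V : Cfsg.Lib.GW.Frame G) {M : Subgroup G} (D : Data M V.t V.u V.σ)
    {a : G} (hat : a * V.t = V.t * a) (hau : a * V.u * a⁻¹ = V.t * V.u) {H : Subgroup G} (hH : IsCoatom H)
    (htH : V.t ∈ H) (huH : V.u ∈ H) {q : ℕ} (hq : q.Prime)
    (hp₂ : ∀ c ∈ cr q M, Commute c (V.t * V.u) → V.σ * c * V.σ⁻¹ ∈ H) {d : G} (hdM : d ∈ cr q M) (hdH : d ∈ H)
    (hd1 : d ≠ 1) (hdt : V.t * d * V.t = d⁻¹) (hdu : Commute d V.u) : Cfsg.layer H = ⊥ := by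
  haveI := Fact.mk hq
  have hq2 : q ≠ 2 := by
    rintro rfl
    rw [D.two, mem_bot] at hdM
    exact hd1 hdM
  have hUH : V.U ≤ H := V.U_le_iff.2 ⟨htH, huH⟩
  by_contra hlay
  have hne : Cfsg.generalizedFittingSubgroup H ≠ Cfsg.fittingSubgroup H := by
    intro e
    apply hlay
    rw [eq_bot_iff]
    refine sSup_le fun L hL => absurd ?_ (Cfsg.Lib.Components.comp_not_isSolvable hL)
    exact Cfsg.Lib.Coprime.isSolvable_of_le
      ((le_sSup hL).trans (Cfsg.Lib.Components.layer_le_genFitting.trans e.le))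
      Cfsg.Lib.Components.isSolvable_fitting
  obtain ⟨L, hLH, hHL, hLp, hUL, hKL, -⟩ := hm.compSpec V H hH.1 hUH hne
  have haM : a ∈ M := D.mem_of_comm hat
  -- the element inverted by `u`
  set d₂ := a * d * a⁻¹ with hd₂
  have hd₂M : d₂ ∈ cr q M := (mem_normalizer_iff.1 (cr_normalizer q M haM) d).1 hdM
  have hd₂v : Commute d₂ (V.t * V.u) := by
    show d₂ * (V.t * V.u) = V.t * V.u * d₂
    rw [← hau, hd₂, _root_.conj_mul, _root_.conj_mul, hdu.eq]
  have hd₂t : V.t * d₂ * V.t = d₂⁻¹ := by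
    have e : a * V.t * a⁻¹ = V.t := mul_inv_eq_iff_eq_mul.2 hat
    calc V.t * d₂ * V.t = a * V.t * a⁻¹ * (a * d * a⁻¹) * (a * V.t * a⁻¹) := by rw [hd₂, e]
      _ = a * (V.t * d * V.t) * a⁻¹ := by group
      _ = d₂⁻¹ := by rw [hdt, hd₂]; group
  set e := V.σ * d₂ * V.σ⁻¹ with he
  have heH : e ∈ H := hp₂ d₂ hd₂M hd₂v
  have heR : e ∈ cr q M := by
    have h := D.swap.mem_cr_two hd₂M hd₂t hd₂v
    rw [cr_conjMap, mem_conjMap_iff, inv_inv] at h
    exact h
  have het : e * V.t = V.t * e := by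
    rw [← V.σ_v, he, _root_.conj_mul, _root_.conj_mul, hd₂v.eq]
  have heu : V.u * e * V.u⁻¹ = e⁻¹ := by
    rw [V.u_inv, he, show (V.σ * d₂ * V.σ⁻¹)⁻¹ = V.σ * d₂⁻¹ * V.σ⁻¹ by group, ← hd₂t, ← V.σ_t]
    group
  have hdt' : V.t * d * V.t⁻¹ = d⁻¹ := by rw [V.t_inv]; exact hdt
  have hdo := odd_orderOf_of_mem (odd_card_of_isPGroup hq2 (isPGroup_cr M)) hdM
  have heo := odd_orderOf_of_mem (odd_card_of_isPGroup hq2 (isPGroup_cr M)) heR
  have he1 : e ≠ 1 := fun h => hd1 (conj_eq_one_iff.1 (conj_eq_one_iff.1 h))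
  have hvi : (V.t * V.u)⁻¹ = V.t * V.u := inv_eq_of_mul_eq_one_left V.v_sq
  have hdv : V.t * V.u * d * (V.t * V.u)⁻¹ = d⁻¹ := by
    rw [show V.t * V.u * d * (V.t * V.u)⁻¹ = V.t * (V.u * d * V.u⁻¹) * V.t⁻¹ by group,
      mul_inv_eq_iff_eq_mul.2 hdu.symm.eq, hdt']
  have hev : V.t * V.u * e * (V.t * V.u)⁻¹ = e⁻¹ := by
    rw [show V.t * V.u * e * (V.t * V.u)⁻¹ = V.t * (V.u * e * V.u⁻¹) * V.t⁻¹ by group, heu,
      mul_inv_eq_iff_eq_mul.2 ((show Commute e V.t from het).inv_left).symm.eq]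
  -- moved elements
  have hout : ∀ {x s : G}, Odd (orderOf x) → x ≠ 1 → s * x * s⁻¹ = x⁻¹ → s ∈ L → x ∉ Core H := by
    intro x s hxo hx1 hx hs hxc
    have h : s * x = x * s := mem_centralizer_iff.1 (hKL hxc) s hs
    rw [h, mul_inv_cancel_right] at hx
    exact hx1 (Cfsg.Lib.GW.MaxCent.eq_one_of_mul_self hxo (mul_eq_one_iff_eq_inv.2 hx))
  have hno : ∀ {x s : G}, Odd (orderOf x) → x ∉ Core H → s * x * s⁻¹ = x⁻¹ →
      x⁻¹ * (s * x * s⁻¹) ∉ Core H := fun {x s} hxo hxc hx h => hxc (by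
    rw [hx] at h
    exact inv_mem_iff.1 (mem_of_sq (by rwa [orderOf_inv]) h))
  -- `t u` is not in the component
  have hv : V.t * V.u ∉ L := by
    intro hv
    have hd' := hout hdo hd1 hdv hv
    have he' := hout heo he1 hev hv
    obtain ⟨s, hs, hs1, hfix⟩ := hm.oddSpec V H hH.1 hUH (Core M ⊓ H) inf_le_right
      ((Cfsg.Lib.GW.Frame.odd_card_core M).of_dvd_nat (card_dvd_of_le inf_le_left))
      (Cfsg.Lib.Coprime.le_normalizer_inf ((V.U_le_iff.2 ⟨D.t_mem, D.u_mem⟩).trans (le_normalizer_core M))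
        (hUH.trans le_normalizer))
    rcases (V.mem_U.1 hs).resolve_left hs1 with rfl | rfl | rfl
    · exact hno hdo hd' hdt' (hfix d ⟨cr_le_core hq2 M hdM, hdH⟩)
    · exact hno heo he' heu (hfix e ⟨cr_le_core hq2 M heR, heH⟩)
    · exact hno hdo hd' hdv (hfix d ⟨cr_le_core hq2 M hdM, hdH⟩)
  obtain ⟨z, ⟨hzU, hzL⟩, hz1⟩ := (V.U ⊓ L).bot_or_exists_ne_one.resolve_left hUL
  have hnr : ¬ Rot V H := by
    rintro ⟨-, g, hg, h1, h2⟩
    have hcl : ∀ y ∈ L, g * y * g⁻¹ ∈ L := fun y hy => (mem_normalizer_iff.1 (hHL hg) y).1 hy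
    rcases (V.mem_U.1 hzU).resolve_left hz1 with rfl | rfl | rfl
    · exact hv (h2 ▸ hcl _ (h1 ▸ hcl _ hzL))
    · exact hv (h2 ▸ hcl _ hzL)
    · exact hv hzL
  rcases (V.mem_U.1 hzU).resolve_left hz1 with rfl | rfl | rfl
  · -- `t` in the component
    have hd' := hout hdo hd1 hdt' hzL
    set K := Core M ⊓ H
    have hdK : d ∈ K := ⟨cr_le_core hq2 M hdM, hdH⟩
    obtain ⟨s, hs, hs1, hfix⟩ := hm.oddSpec V H hH.1 hUH K inf_le_right
      ((Cfsg.Lib.GW.Frame.odd_card_core M).of_dvd_nat (card_dvd_of_le inf_le_left))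
      (Cfsg.Lib.Coprime.le_normalizer_inf ((V.U_le_iff.2 ⟨D.t_mem, D.u_mem⟩).trans (le_normalizer_core M))
        (hUH.trans le_normalizer))
    rcases (V.mem_U.1 hs).resolve_left hs1 with rfl | rfl | rfl
    · exact hno hdo hd' hdt' (hfix d hdK)
    · refine kill_fixed hm V hH.1 hUH hnr hLH hLp hzL (inf_le_right : K ≤ H) (fun x hx hxt => ?_) hfix hdK hd' hdo
        hdt'
      exact Cfsg.Lib.Coprime.le_normalizer_inf (H := M ⊓ H) (inf_le_left.trans (le_normalizer_core M))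
        (inf_le_right.trans le_normalizer) ⟨D.mem_of_comm hxt, hx⟩
    · exact hno hdo hd' hdv (hfix d hdK)
  · -- `u` in the component
    have he' := hout heo he1 heu hzL
    set M₂ := conjMap V.σ M with hM₂
    set K := Core M₂ ⊓ H
    have hUM₂ : V.U ≤ M₂ := V.U_le_iff.2 ⟨D.mem_two V.comm, D.mem_two (Commute.refl _)⟩
    have heK : e ∈ K := ⟨cr_le_core hq2 M₂ (by
      rw [hM₂, cr_conjMap, mem_conjMap_iff, he]
      rwa [show V.σ⁻¹ * (V.σ * d₂ * V.σ⁻¹) * V.σ = d₂ by group]), heH⟩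
    obtain ⟨s, hs, hs1, hfix⟩ := hm.oddSpec V H hH.1 hUH K inf_le_right
      ((Cfsg.Lib.GW.Frame.odd_card_core M₂).of_dvd_nat (card_dvd_of_le inf_le_left))
      (Cfsg.Lib.Coprime.le_normalizer_inf (hUM₂.trans (le_normalizer_core M₂)) (hUH.trans le_normalizer))
    rcases (V.mem_U.1 hs).resolve_left hs1 with rfl | rfl | rfl
    · have hU' : (exchangeFrame V).U ≤ H := (exchangeFrame V).U_le_iff.2 ⟨huH, htH⟩
      refine kill_fixed hm (exchangeFrame V) hH.1 hU' (fun hR => hnr ?_) hLH hLp hzL (inf_le_right : K ≤ H)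
        (fun x hx hxu => ?_) hfix heK he' heo heu
      · obtain ⟨-, g, hg, h1, h2⟩ := hR
        change g * V.u * g⁻¹ = V.t at h1
        change g * V.t * g⁻¹ = V.u * V.t at h2
        refine ⟨hUH, g⁻¹, inv_mem hg, ?_, ?_⟩
        · rw [← h1]; group
        · have h3 : g * (V.t * V.u) * g⁻¹ = V.u := by
            rw [← _root_.conj_mul, h1, h2, mul_assoc, V.t_sq, mul_one]
          calc g⁻¹ * V.u * g⁻¹⁻¹ = g⁻¹ * (g * (V.t * V.u) * g⁻¹) * g⁻¹⁻¹ := by rw [h3]
            _ = V.t * V.u := by group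
      · exact Cfsg.Lib.Coprime.le_normalizer_inf (H := M₂ ⊓ H) (inf_le_left.trans (le_normalizer_core M₂))
          (inf_le_right.trans le_normalizer) ⟨D.mem_two hxu, hx⟩
    · exact hno heo he' heu (hfix e heK)
    · exact hno heo he' hev (hfix e heK)
  · exact hv hzL

/-- The layer hypothesis of Theorem A. -/
theorem layerHyp (hm : Minimal G) (V : Cfsg.Lib.GW.Frame G) {M : Subgroup G} (D : Data M V.t V.u V.σ)
    {a : G} (hat : a * V.t = V.t * a) (hau : a * V.u * a⁻¹ = V.t * V.u) : LayerHyp M V.t V.u V.σ := by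
  intro H hH htH huH q hq hp₁ hp₂ d hdM hdH hd1 hdt hd
  rcases hd with hd | hd
  · exact layer_of_fixed hm V D hat hau hH htH huH hq hp₂ hdM hdH hd1 hdt hd
  -- the four-group with `u` and `t u` exchanged
  let V' : Cfsg.Lib.GW.Frame G :=
    { t := V.t, u := V.t * V.u, σ := V.σ⁻¹
      t_order := V.t_order, u_order := V.v_order
      t_ne_u := fun e => V.u_ne_one (mul_eq_left.1 e.symm)
      comm := D.swap.comm
      σ_t := D.swap.conj_t
      σ_u := D.swap.conj_u }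
  refine layer_of_fixed hm V' D.swap (a := a⁻¹) ((show Commute a V.t from hat).inv_left).eq ?_ hH htH
    (mul_mem htH huH) hq (fun c hc hcu => ?_) hdM hdH hd1 hdt hd
  · show a⁻¹ * (V.t * V.u) * a⁻¹⁻¹ = V.t * (V.t * V.u)
    rw [← mul_assoc V.t V.t, V.t_sq, one_mul]
    calc a⁻¹ * (V.t * V.u) * a⁻¹⁻¹ = a⁻¹ * (a * V.u * a⁻¹) * a⁻¹⁻¹ := by rw [hau]
      _ = V.u := by group
  · show V.σ⁻¹ * c * V.σ⁻¹⁻¹ ∈ H
    rw [inv_inv]
    refine hp₁ c hc ?_
    change Commute c (V.t * (V.t * V.u)) at hcu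
    rwa [← mul_assoc, V.t_sq, one_mul] at hcu

end Cfsg.Lib.GWD
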