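import Cfsg.Agent.GWDihedral.Maximal.Fused
import Cfsg.Agent.GWDihedral.Maximal.Layer
import Cfsg.Agent.GWDihedral.Maximal.Factor
import Cfsg.Agent.GenDihedral.Red.Tools
import Mathlib.GroupTheory.SpecificGroups.Alternating.Simple

/-!
Simple groups with dihedral Sylow 2-subgroups: a maximal subgroup over `C(t)` rotating only the first four-group
leads to `A₇` or has top `S₄` and odd core centralised by that four-group.
-/

set_option autoImplicit false
set_option linter.unusedSectionVars false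
set_option linter.style.haveILetI false

namespace Cfsg.Lib.GWD

open Subgroup
open Cfsg.Lib.GenDihedral (mul_self_of_two inv_of_two)
open Cfsg.Lib.GW (Core qmap qmap_eq qmap_eq_one core_le le_normalizer_core card_image)
open Cfsg.Lib.Misc.BenderPair (cr cr_le cr_normalizer isPGroup_cr)
open Cfsg.Lib.GW.MaxCent (Data odd_card_of_isPGroup)

universe u

section embed

variable {G : Type u} [Group G] [Finite G] [IsSimpleGroup G]

/-- A simple group embeds in the permutations of the cosets of a proper subgroup. -/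
theorem injective_toPerm {M : Subgroup G} (hM : M ≠ ⊤) : Function.Injective (MulAction.toPermHom G (G ⧸ M)) := by
  rw [← MonoidHom.ker_eq_bot_iff, ← Subgroup.normalCore_eq_ker]
  exact (IsSimpleGroup.eq_bot_or_eq_top_of_normal _ inferInstance).resolve_right
    fun e => hM (top_le_iff.1 (e ▸ M.normalCore_le))

/-- The order of a simple group divides the factorial of the index of a proper subgroup. -/
theorem card_dvd_factorial {M : Subgroup G} (hM : M ≠ ⊤) : Nat.card G ∣ M.index.factorial := by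
  classical
  have := card_dvd_of_injective _ (injective_toPerm hM)
  rwa [Nat.card_perm, ← index_eq_card] at this

/-- A non-abelian simple group acts by even permutations. -/
theorem exists_alt_embedding (hna : ¬ IsMulCommutative G) {M : Subgroup G} (hM : M ≠ ⊤) :
    ∃ f : G →* alternatingGroup (Fin M.index), Function.Injective f := by
  classical
  have e : (G ⧸ M) ≃ Fin M.index := Finite.equivFinOfCardEq (index_eq_card M).symm
  set π : G →* Equiv.Perm (Fin M.index) := e.permCongrHom.toMonoidHom.comp (MulAction.toPermHom G (G ⧸ M))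
  have hinj : Function.Injective π := e.permCongrHom.injective.comp (injective_toPerm hM)
  have hsign : ∀ g, π g ∈ alternatingGroup (Fin M.index) := by
    rcases IsSimpleGroup.eq_bot_or_eq_top_of_normal (Equiv.Perm.sign.comp π).ker inferInstance with h | h
    · exact absurd ⟨⟨fun a b => (MonoidHom.ker_eq_bot_iff _).1 h (by rw [map_mul, map_mul, mul_comm])⟩⟩ hna
    · exact fun g => Equiv.Perm.mem_alternatingGroup.2 (MonoidHom.mem_ker.1 (h ▸ mem_top g :
        g ∈ (Equiv.Perm.sign.comp π).ker))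
  exact ⟨π.codRestrict (alternatingGroup (Fin M.index)) hsign, fun a b h => hinj (congrArg Subtype.val h)⟩

end embed

variable {G : Type u} [Group G] [Finite G]

namespace Fused

variable {F : Frame G} {M : Subgroup G} (h : Fused F M)
include h

theorem ne_C : M ≠ F.C := by
  obtain ⟨-, g, hg, hgt, -⟩ := h.rot₁
  intro e
  rw [show g * F.four₁.t * g⁻¹ = F.t from mul_inv_eq_iff_eq_mul.2 (F.mem_C.1 (e ▸ hg))] at hgt
  exact F.t_ne_r hgt

/-- Index seven gives `A₇`. -/
theorem seven (hW : F.four₁.W ≠ ⊥ ∨ F.four₂.W ≠ ⊥) (hI : M.index = 7) : IsDihType G := by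
  haveI := h.hm.simple
  suffices hc : Nat.card G = 2520 by
    obtain ⟨f, hf⟩ : ∃ f : G →* alternatingGroup (Fin 7), Function.Injective f :=
      hI ▸ exists_alt_embedding h.hm.nonab h.max.1
    refine Or.inr ⟨MulEquiv.ofBijective f ⟨hf, ?_⟩⟩
    refine ((Nat.bijective_iff_injective_and_card f).2 ⟨hf, ?_⟩).2
    rw [hc, nat_card_alternatingGroup, Nat.card_fin]; rfl
  obtain ⟨f, hf⟩ : ∃ f : G →* alternatingGroup (Fin 7), Function.Injective f :=
    hI ▸ exists_alt_embedding h.hm.nonab h.max.1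
  have h7 : Nat.card (alternatingGroup (Fin 7)) = 2520 := by
    rw [nat_card_alternatingGroup, Nat.card_fin]; rfl
  have hR : Nat.card G = Nat.card f.range :=
    Nat.card_congr (MonoidHom.ofInjective hf).toEquiv
  have hidx : Nat.card G * f.range.index = 2520 := by rw [hR, Subgroup.card_mul_index, h7]
  -- `A₇` has no subgroups of index 2 to 6
  have hno : 2520 ∣ f.range.index.factorial ∨ f.range.index = 1 := by
    haveI : IsSimpleGroup (alternatingGroup (Fin 7)) := alternatingGroup.isSimpleGroup (by simp)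
    by_cases e : f.range = ⊤
    · exact Or.inr (by rw [e, index_top])
    · exact Or.inl (h7 ▸ card_dvd_factorial e)
  -- the order of `M`
  have hMG : 7 * Nat.card M = Nat.card G := by rw [← hI, mul_comm]; exact M.card_mul_index
  have hC8 : 2 ^ F.n * Nat.card F.O ∣ Nat.card M := by
    refine dvd_trans (dvd_of_eq ?_) (card_dvd_of_le h.le)
    obtain ⟨i, hi⟩ : ∃ i, F.n = i + 2 := ⟨F.n - 2, by have := F.three_le; omega⟩
    rw [F.card_C, Frame.m, hi, Nat.add_sub_cancel, pow_add]; ring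
  have h8 : 8 ∣ Nat.card M :=
    (Nat.pow_dvd_pow 2 F.three_le).trans ((dvd_mul_right _ _).trans hC8)
  have h3 : 3 ∣ Nat.card M := by
    obtain ⟨-, g, hg, hgt, hgu⟩ := h.rot₁
    refine dvd_trans ?_ (orderOf_dvd_natCard (⟨g, hg⟩ : M))
    rw [Subgroup.orderOf_mk]
    have hv : g * (F.t * F.r) * g⁻¹ = F.t := by
      rw [← conj_mul, hgt, hgu]
      show F.r * (F.t * F.r) = F.t
      rw [← mul_assoc, ← F.r_comm, mul_assoc, mul_self_of_two F.r_order, mul_one]
    have hg3 : g ^ 3 * F.t * (g ^ 3)⁻¹ = F.t := by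
      calc g ^ 3 * F.t * (g ^ 3)⁻¹ = g * (g * (g * F.t * g⁻¹) * g⁻¹) * g⁻¹ := by
            simp only [pow_succ, pow_zero, one_mul]; group
        _ = F.t := by rw [hgt, hgu]; exact hv
    by_contra h3
    have hpow : ∀ k : ℕ, (g ^ 3) ^ k * F.t * ((g ^ 3) ^ k)⁻¹ = F.t := fun k =>
      mul_inv_eq_iff_eq_mul.2 ((show Commute (g ^ 3) F.t from mul_inv_eq_iff_eq_mul.1 hg3).pow_left k).eq
    obtain ⟨k, hk⟩ := exists_pow_eq_self_of_coprime (x := g) (n := 3)
      ((Nat.Prime.coprime_iff_not_dvd Nat.prime_three).2 h3)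
    have := hpow k
    rw [hk, hgt] at this
    exact F.t_ne_r this.symm
  have h24 : 24 ∣ Nat.card M := Nat.Coprime.mul_dvd_of_dvd_of_dvd (by norm_num : Nat.Coprime 8 3) h8 h3
  obtain ⟨c, hc⟩ := h24
  rw [hc] at hMG
  rw [← hMG] at hidx ⊢
  have hkc : c * f.range.index = 15 := by linarith
  have hk15 : f.range.index ∣ 15 := ⟨c, by linarith⟩
  have hk : f.range.index = 1 ∨ f.range.index = 15 := by
    have hle := Nat.le_of_dvd (by norm_num) hk15
    rcases hno with hf' | hf'
    · interval_cases f.range.index <;> first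
        | omega
        | (revert hk15; norm_num; done)
        | (revert hf'; norm_num [Nat.factorial]; done)
    · exact Or.inl hf'
  rcases hk with e | e <;> rw [e] at hkc
  · omega
  exfalso
  have hc1 : c = 1 := by omega
  rw [hc1, mul_one] at hc
  rw [hc] at hC8
  obtain ⟨i, hi⟩ : ∃ i, F.n = i + 3 := ⟨F.n - 3, by have := F.three_le; omega⟩
  rw [hi, pow_add, mul_assoc, show (24 : ℕ) = 8 * 3 by norm_num, show (2 : ℕ) ^ 3 = 8 by norm_num,
    mul_left_comm, Nat.mul_dvd_mul_iff_left (by norm_num)] at hC8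
  rcases (Nat.dvd_prime Nat.prime_three).1 ((dvd_mul_left _ _).trans hC8) with e1 | e1
  · have hO : F.O = ⊥ := Subgroup.eq_bot_of_card_eq _ e1
    exact hW.elim (fun w => w (eq_bot_iff.2 (F.four₁.W_le.trans hO.le)))
      (fun w => w (eq_bot_iff.2 (F.four₂.W_le.trans hO.le)))
  · refine h.ne_C (Subgroup.eq_of_le_of_card_ge h.le ?_).symm
    obtain ⟨j, hj⟩ : ∃ j, F.n = j + 2 := ⟨F.n - 2, by omega⟩
    rw [hc, F.card_C, Frame.m, hj, Nat.add_sub_cancel, e1]
    obtain ⟨j', rfl⟩ : ∃ j', j = j' + 1 := ⟨j - 1, by omega⟩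
    have := Nat.one_le_two_pow (n := j')
    rw [pow_succ]; omega

/-- With a non-trivial 2-core the first four-group centralises the odd core. -/
theorem cent_of_two (h2 : cr 2 M ≠ ⊥) : F.four₁.U ≤ centralizer (Core M : Set G) := by
  haveI : Fact (Nat.Prime 2) := ⟨Nat.prime_two⟩
  have hE : cr 2 M ≤ F.S := by
    have hP : IsPGroup 2 ↥(cr 2 M ⊔ F.S) :=
      (isPGroup_cr (p := 2) M).to_sup_of_normal_left' (IsPGroup.of_card F.card_S)
        (h.S_le.trans (cr_normalizer 2 M))
    have := F.sylow.is_maximal' hP (by rw [F.coe_sylow]; exact le_sup_right)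
    rw [F.coe_sylow] at this
    exact le_sup_left.trans this.le
  have htE : F.t ∈ cr 2 M := by
    have hS : IsPGroup 2 F.S := IsPGroup.of_card F.card_S
    haveI hn : ((cr 2 M).subgroupOf F.S).Normal :=
      (normal_subgroupOf_iff_le_normalizer hE).2 (h.S_le.trans (cr_normalizer 2 M))
    haveI : Nontrivial ↥((cr 2 M).subgroupOf F.S) := by
      rw [nontrivial_iff_ne_bot, ne_eq, subgroupOf_eq_bot, disjoint_iff, inf_eq_left.2 hE]
      exact h2
    haveI := Fintype.ofFinite ↥F.S
    haveI := hS.isNilpotent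
    obtain ⟨⟨x, hx⟩, ⟨hxE, hxz⟩, hx1⟩ :=
      ((cr 2 M).subgroupOf F.S ⊓ center F.S).bot_or_exists_ne_one.resolve_left
        (Cfsg.Lib.Coprime.inf_center_ne_bot _ ((nontrivial_iff_ne_bot _).1 inferInstance))
    rcases h.central hx (fun y hy => by
      obtain ⟨⟨y', hy'⟩, hyS, rfl⟩ := hy
      rw [← map_mul, ← map_mul]
      have hc : y' * x = x * y' :=
        congrArg Subtype.val (mem_center_iff.1 hxz ⟨y', mem_subgroupOf.1 hyS⟩)
      exact congrArg _ (Subtype.ext hc.symm)) with e | e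
    · exact absurd (Subtype.ext e) hx1
    · exact e ▸ mem_subgroupOf.1 hxE
  obtain ⟨-, g, hg, hgt, -⟩ := h.rot₁
  have hrE : F.r ∈ cr 2 M := by
    have := (mem_normalizer_iff.1 (cr_normalizer 2 M hg) F.t).1 htE
    rwa [hgt] at this
  have hdis : Disjoint (Core M) (cr 2 M) := by
    refine disjoint_iff.2 (Cfsg.Lib.Coprime.inf_eq_bot_of_coprime ?_)
    obtain ⟨n, hn⟩ := IsPGroup.iff_card.1 (isPGroup_cr (p := 2) M)
    rw [hn]
    exact (Nat.coprime_two_right.2 (Cfsg.Lib.GW.Frame.odd_card_core M)).pow_right n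
  have key : ∀ x ∈ cr 2 M, x ∈ centralizer (Core M : Set G) := fun x hx => mem_centralizer_iff.2 fun y hy =>
    (Cfsg.Lib.GW.MaxCent.commute_of_disjoint hdis hy hx (cr_normalizer 2 M (core_le M hy))
      (le_normalizer_core M (cr_le 2 M hx))).eq
  exact F.four₁.U_le_iff.2 ⟨key _ htE, key _ hrE⟩

/-- The data of Theorem A at the second four-group. -/
theorem data (h24 : (Core M).relIndex M = 24) (h2 : cr 2 M = ⊥) :
    Data M F.four₂.t F.four₂.u F.four₂.σ := by
  haveI : Fact (Nat.Prime 2) := ⟨Nat.prime_two⟩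
  have hX : Nat.card (M ⧸ Cfsg.oddCore M) = 24 := by rw [← h.relIndex_core, h24]
  have hsol : Group.IsSolvable M := by
    haveI : Group.IsSolvable (M ⧸ Cfsg.oddCore M) := Cfsg.Lib.GenDihedral.solvable_small (by omega)
    exact Cfsg.Lib.GenDihedral.solvable_ext _
      (Cfsg.Lib.GenDihedral.solvable_of_odd (by
      rw [← card_map_of_injective M.subtype_injective]; exact Cfsg.Lib.GW.Frame.odd_card_core M)) inferInstance
  refine
    { coatom := h.max, tt := F.four₂.t_sq, uu := F.four₂.u_sq, tne := F.four₂.t_ne_one, comm := F.four₂.comm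
      cent := h.le, conj_t := F.four₂.σ_t, conj_u := F.four₂.σ_u
      out := fun hσ => h.rot₂ ⟨h.U₂, F.σ₂, hσ, F.four₂.σ_t, F.four₂.σ_u⟩
      sol := hsol
      odd := ⟨Core M, core_le M, le_normalizer_core M, Cfsg.Lib.GW.Frame.odd_card_core M, fun x hx ho hxt => ?_⟩
      two := h2 }
  set C := centralizer ({h.tq} : Set (M ⧸ Cfsg.oddCore M))
  have hne : C ≠ ⊤ := fun e => by
    obtain ⟨-, g, hg, hgt, -⟩ := h.rot₁
    have h1 := mem_centralizer_singleton_iff.1 (e ▸ mem_top (qmap M ⟨g, hg⟩) : qmap M ⟨g, hg⟩ ∈ C)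
    have h2 : h.rq = h.tq := by
      calc h.rq = qmap M ⟨g, hg⟩ * h.tq * (qmap M ⟨g, hg⟩)⁻¹ := by
            rw [tq, ← map_inv, ← map_mul, ← map_mul]
            exact congrArg _ (Subtype.ext hgt.symm)
        _ = h.tq := by rw [h1, mul_inv_cancel_right]
    exact (F.four₁.four_q h.U₁).ne_zt h2.symm
  have hC : Nat.card C = 8 := by
    obtain ⟨a, ha⟩ : 8 ∣ Nat.card C := by
      rw [h.cent_card.1]
      exact (Nat.pow_dvd_pow 2 F.three_le).trans (dvd_mul_right _ _)
    have h1 : Nat.card C * C.index = 24 := by rw [Subgroup.card_mul_index, hX]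
    have h3 : C.index ≠ 1 := fun e => hne (index_eq_one.1 e)
    rw [ha, mul_assoc] at h1
    have h4 : a * C.index = 3 := by omega
    rcases (Nat.dvd_prime Nat.prime_three).1 ⟨_, h4.symm⟩ with e | e
    · rw [ha, e]
    · rw [e] at h4; omega
  have hmem : qmap M ⟨x, hx⟩ ∈ C := by
    rw [mem_centralizer_singleton_iff, tq, ← map_mul, ← map_mul]
    exact congrArg _ (Subtype.ext hxt.eq)
  have hd : orderOf (qmap M ⟨x, hx⟩) ∣ 2 ^ 3 := by
    rw [show (2 : ℕ) ^ 3 = Nat.card C from hC.symm]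
    exact Subgroup.orderOf_mk _ hmem ▸ orderOf_dvd_natCard (⟨_, hmem⟩ : C)
  have hodd : Odd (orderOf (qmap M ⟨x, hx⟩)) :=
    ho.of_dvd_nat ((orderOf_map_dvd _ _).trans (Subgroup.orderOf_mk x hx).dvd)
  have h1 := Nat.eq_one_of_dvd_coprimes ((Nat.coprime_two_left.2 hodd).pow_left 3) hd dvd_rfl
  exact qmap_eq_one.1 (orderOf_eq_one_iff.1 h1)

/-- The three indices above seven need a non-trivial 2-core. -/
theorem two_ne_bot (h24 : (Core M).relIndex M = 24) (hI : M.index = 15 ∨ M.index = 35 ∨ M.index = 63) :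
    cr 2 M ≠ ⊥ := by
  intro h2
  have D := h.data h24 h2
  haveI := h.hm.simple
  obtain ⟨p, hp, v, hv, hvt⟩ := D.exists_moved
  haveI := Fact.mk hp
  have hp2 : p ≠ 2 := by
    rintro rfl
    rw [h2, mem_bot] at hv
    exact hvt (hv ▸ Commute.one_left _)
  have hpne : cr p M ≠ ⊥ := fun e => by
    rw [e, mem_bot] at hv
    exact hvt (hv ▸ Commute.one_left _)
  -- `s ^ 2 ^ (n - 3)` exchanges `r s` and `t r s`
  obtain ⟨k, hk⟩ : ∃ k, F.n = k + 3 := ⟨F.n - 3, by have := F.three_le; omega⟩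
  set a := F.s ^ 2 ^ k with ha
  have hat : a * F.four₂.t = F.four₂.t * a := ((Commute.refl F.s).pow_pow _ _).eq
  have hau : a * F.four₂.u * a⁻¹ = F.four₂.t * F.four₂.u := by
    have ht : F.t = a * a := by
      rw [Frame.t, hk, ha, ← pow_add]; congr 1
      rw [show k + 3 - 2 = k + 1 by omega, pow_succ]; ring
    have hr : F.r * a⁻¹ * F.r⁻¹ = a := by rw [← conj_inv, ha, ← conj_pow, F.rel, inv_pow, inv_inv]
    show a * (F.r * F.s) * a⁻¹ = F.t * (F.r * F.s)
    have hsa : F.s * a⁻¹ = a⁻¹ * F.s := ((Commute.refl F.s).pow_right _).inv_right.eq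
    calc a * (F.r * F.s) * a⁻¹ = a * F.r * (F.s * a⁻¹) := by group
      _ = a * (F.r * a⁻¹ * F.r⁻¹) * F.r * F.s := by rw [hsa]; group
      _ = F.t * (F.r * F.s) := by rw [hr, ht]; group
  have hone : ∀ q : ℕ, q.Prime → q ≠ p → cr q M = ⊥ := fun q hq hqp => by
    by_contra hqM
    exact D.false_of_two_primes h.hm.nonab (layerHyp h.hm F.four₂ D hat hau) hp hq (Ne.symm hqp) hpne hqM
  obtain ⟨T⟩ : Nonempty (Sylow p M) := inferInstance
  obtain ⟨P, hPT, -, -, hNP⟩ :=
    h.hm.sylow_of_onePrime h.max (fun e => F.four₂.t_ne_one (mem_bot.1 (e ▸ D.t_mem))) D.sol hp2 hpne hone T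
  have hPM : (P : Subgroup G) ≤ M := le_normalizer.trans hNP
  have hndvd : ¬ p ∣ M.index := fun hd => P.not_dvd_index (hd.trans (index_dvd_of_le hPM))
  -- `[G : M] ≡ 1 mod p`
  have hmod : M.index ≡ 1 [MOD p] := by
    have h1 := card_sylow_modEq_one p M
    have h2 := card_sylow_modEq_one p G
    rw [P.card_eq_index_normalizer, ← Subgroup.relIndex_mul_index (show normalizer (P : Set G) ≤ M from hNP)] at h2
    have h3 : (normalizer (T : Set M)).index = (normalizer (P : Set G)).relIndex M := by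
      rw [Subgroup.relIndex, show (P : Set G) = ((T : Subgroup M).map M.subtype : Subgroup G) from congrArg SetLike.coe hPT]
      congr 1
      ext y
      simp only [mem_subgroupOf, mem_normalizer_iff]
      constructor
      · intro hy x
        constructor
        · rintro ⟨w, hw, rfl⟩
          exact ⟨y * w * y⁻¹, (hy w).1 hw, rfl⟩
        · rintro ⟨w, hw, e⟩
          refine ⟨y⁻¹ * w * y, (hy _).2 (by simpa [mul_assoc] using hw), ?_⟩
          show (y : G)⁻¹ * (w : G) * y = x
          rw [show (w : G) = y * x * y⁻¹ from e]; push_cast; group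
      · intro hy x
        show x ∈ (T : Subgroup M) ↔ y * x * y⁻¹ ∈ (T : Subgroup M)
        rw [← mem_map_iff_mem (f := M.subtype) M.subtype_injective (K := (T : Subgroup M)) (x := x),
          ← mem_map_iff_mem (f := M.subtype) M.subtype_injective (K := (T : Subgroup M)) (x := y * x * y⁻¹)]
        exact hy _
    rw [T.card_eq_index_normalizer, h3] at h1
    simpa using ((h1.mul_right M.index).symm.trans h2 : 1 * M.index ≡ 1 [MOD p])
  have hp' : (p = 7 ∧ M.index = 15) ∨ (p = 17 ∧ M.index = 35) ∨ (p = 31 ∧ M.index = 63) := by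
    have hd : p ∣ M.index - 1 := (Nat.modEq_iff_dvd' (by omega)).1 hmod.symm
    have key : ∀ q : ℕ, q.Prime → p ∣ 2 * q → p = q := fun q hq hdq =>
      (Nat.prime_dvd_prime_iff_eq hp hq).1 ((hp.dvd_mul.1 hdq).resolve_left fun h' =>
        hp2 ((Nat.prime_dvd_prime_iff_eq hp Nat.prime_two).1 h'))
    rcases hI with e | e | e <;> rw [e] at hd
    exacts [Or.inl ⟨key 7 (by norm_num) hd, e⟩, Or.inr (Or.inl ⟨key 17 (by norm_num) hd, e⟩),
      Or.inr (Or.inr ⟨key 31 (by norm_num) hd, e⟩)]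
  -- `p ^ 3` divides the order of `G`
  set R := cr p M
  have hRodd : Odd (Nat.card R) := odd_card_of_isPGroup hp2 (isPGroup_cr M)
  have hf := F.four₁.card_formula hRodd (h.U₁.trans (cr_normalizer p M))
  obtain ⟨-, g, hg, hgt, hgu⟩ := h.rot₁
  have hconj : ∀ x : G, Nat.card ↥(R ⊓ centralizer {g * x * g⁻¹}) = Nat.card ↥(R ⊓ centralizer {x}) := fun x => by
    rw [← card_map_of_injective (K := R ⊓ centralizer {x}) (f := (MulAut.conj g).toMonoidHom) (MulAut.conj g).injective]
    congr 2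
    ext y
    rw [Subgroup.mem_map_equiv, MulAut.conj_symm_apply, Subgroup.mem_inf, Subgroup.mem_inf,
      mem_centralizer_singleton_iff, mem_centralizer_singleton_iff]
    refine and_congr ?_ ⟨fun h => ?_, fun h => ?_⟩
    · have := (mem_normalizer_iff.1 (cr_normalizer p M hg) (g⁻¹ * y * g))
      rw [show g * (g⁻¹ * y * g) * g⁻¹ = y by group] at this
      exact this.symm
    · calc g⁻¹ * y * g * x = g⁻¹ * (y * (g * x * g⁻¹)) * g := by group
        _ = x * (g⁻¹ * y * g) := by rw [h]; group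
    · calc y * (g * x * g⁻¹) = g * (g⁻¹ * y * g * x) * g⁻¹ := by group
        _ = g * x * g⁻¹ * y := by rw [h]; group
  rw [← hgu, hconj, ← hgt, hconj] at hf
  obtain ⟨i, hi⟩ := IsPGroup.iff_card.1 (show IsPGroup p R from isPGroup_cr M)
  obtain ⟨c, -, hc⟩ := (Nat.dvd_prime_pow hp).1 (hi ▸ card_dvd_of_le (inf_le_left : R ⊓ centralizer {F.four₁.t} ≤ R))
  obtain ⟨b, -, hb⟩ := (Nat.dvd_prime_pow hp).1
    (hi ▸ card_dvd_of_le (inf_le_left : R ⊓ centralizer (F.four₁.U : Set G) ≤ R))
  rw [hi, hc, hb, ← pow_mul, ← pow_add, ← pow_add, ← pow_add, (Nat.pow_right_injective hp.two_le).eq_iff] at hf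
  have hbc : b ≤ c := (Nat.pow_le_pow_iff_right hp.one_lt).1 (by
    rw [← hb, ← hc]
    exact card_le_of_le (inf_le_inf_left R fun x hx =>
      mem_centralizer_singleton_iff.2 (mem_centralizer_iff.1 hx F.four₁.t F.four₁.t_mem_U).symm))
  have hci : c ≠ i := fun e => by
    refine hvt (show Commute v F.four₂.t from ?_)
    have he : R ⊓ centralizer {F.four₁.t} = R :=
      Subgroup.eq_of_le_of_card_ge inf_le_left (by rw [hi, hc, e])
    exact mem_centralizer_singleton_iff.1 (he.symm.le hv).2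
  have h3i : 3 ≤ i := by omega
  have hpG : p ^ 3 ∣ M.index.factorial :=
    ((Nat.pow_dvd_pow p h3i).trans (hi ▸ card_subgroup_dvd_card R)).trans (card_dvd_factorial h.max.1)
  rcases hp' with ⟨rfl, e⟩ | ⟨rfl, e⟩ | ⟨rfl, e⟩ <;> rw [e] at hpG <;>
    exact absurd hpG (by decide +kernel)

end Fused

namespace Frame

variable (F : Frame G)

/-- A maximal subgroup over `C` rotating only the first four-group. -/
theorem oneRotSpec (hm : Minimal G) : F.OneRotSpec := by
  intro hW M hM hC hR1 hR2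
  have h : Fused F M := ⟨hm, hM, hC, hR1, hR2⟩
  obtain ⟨z, ξ, D, E, j, h24, hd⟩ := h.arith
  rcases hd.solutions with ⟨-, e⟩ | ⟨hz, ⟨e, -⟩ | hrest⟩
  · exact Or.inl (h.seven hW (by exact_mod_cast e))
  · exact Or.inl (h.seven hW (by exact_mod_cast e))
  refine Or.inr ⟨h24 hz, h.cent_of_two (h.two_ne_bot (h24 hz) ?_), ?_⟩ <;>
    rcases hrest with ⟨e, e'⟩ | ⟨e, e'⟩ | ⟨e, e'⟩
  exacts [Or.inl (by exact_mod_cast e), Or.inr (Or.inl (by exact_mod_cast e)), Or.inr (Or.inr (by exact_mod_cast e)),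
    Or.inl ⟨by exact_mod_cast e, by exact_mod_cast e'⟩, Or.inr (Or.inl ⟨by exact_mod_cast e, by exact_mod_cast e'⟩),
    Or.inr (Or.inr ⟨by exact_mod_cast e, by exact_mod_cast e'⟩)]

end Frame

end Cfsg.Lib.GWD
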