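import Mathlib

/-!
Simple groups with dihedral Sylow 2-subgroups: the arithmetic of a maximal subgroup over the centraliser of `t`
rotating one four-group.  `z = ε q` is the signed field order of the top, `j` the number of further fixed points
of `t` on the cosets, `I` the index, `w₁ / w₂` the ratio of the two centralisers and `ξ`, `D`, `E` the signed
degrees in the principal block.
-/

set_option autoImplicit false
set_option linter.unusedVariables false

namespace Cfsg.Lib.GWD.MaxArith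

/-- The relations between the parameters. -/
structure Data (z j I w₁ w₂ ξ D E : ℤ) : Prop where
  z_mod : z % 4 = 1
  z_big : 5 ≤ z ∨ z ≤ -3
  j_pos : 0 < j
  w₁_odd : Odd w₁
  w₂_odd : Odd w₂
  w₁_pos : 0 < w₁
  w₂_pos : 0 < w₂
  ratio : w₁ * (z - 1) = w₂ * j * (z + 1)
  I_odd : Odd I
  I_big : 7 ≤ I
  ξ_mod : ξ % 8 = 1
  ξ_big : 9 ≤ ξ ∨ ξ ≤ -7
  D_big : 3 ≤ D ∨ D ≤ -3
  E_big : 3 ≤ E ∨ E ≤ -3
  sum : D + E = -(ξ + 1)
  order : I * (ξ - 1) ^ 2 * (z * (z + 1)) = ((1 + j) * z + (j - 1)) ^ 2 * (ξ * (ξ + 1))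
  second : I * z * (ξ * D * E + D * E + ξ * E + ξ * D) = 4 * j * (z - 1) * (ξ * D * E)

/-- A non-square times a square is no square. -/
theorem sq_coeff {n x y : ℤ} (hn : ¬ IsSquare n) (h : x * x = n * (y * y)) : y = 0 := by
  by_contra hy
  obtain ⟨g, hg⟩ : y ∣ x := by
    rw [← Int.pow_dvd_pow_iff (n := 2) two_ne_zero]
    exact ⟨n, by rw [pow_two, pow_two, h]; ring⟩
  refine hn ⟨g, ?_⟩
  subst hg
  refine mul_right_cancel₀ (mul_ne_zero hy hy) ?_
  linear_combination (-1 : ℤ) * h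

namespace Data

variable {z j I w₁ w₂ ξ D E : ℤ} (h : Data z j I w₁ w₂ ξ D E)
include h

theorem z_succ_ne : z + 1 ≠ 0 := by rcases h.z_big with h' | h' <;> omega
theorem z_ne : z ≠ 0 := by rcases h.z_big with h' | h' <;> omega
theorem ξ_ne : ξ ≠ 0 := by rcases h.ξ_big with h' | h' <;> omega
theorem ξ_pred_ne : ξ - 1 ≠ 0 := by rcases h.ξ_big with h' | h' <;> omega
theorem ξ_succ_ne : ξ + 1 ≠ 0 := by rcases h.ξ_big with h' | h' <;> omega
theorem D_ne : D ≠ 0 := by rcases h.D_big with h' | h' <;> omega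
theorem E_ne : E ≠ 0 := by rcases h.E_big with h' | h' <;> omega

theorem L_ne : (1 + j) * z + (j - 1) ≠ 0 := fun e => by
  have h1 := h.order
  rw [e] at h1
  have hI := h.I_big
  rcases mul_eq_zero.1 (by rw [h1]; ring : I * (ξ - 1) ^ 2 * (z * (z + 1)) = 0) with h2 | h2
  · rcases mul_eq_zero.1 h2 with h3 | h3
    · omega
    · exact h.ξ_pred_ne (pow_eq_zero_iff two_ne_zero |>.1 h3)
  · rcases mul_eq_zero.1 h2 with h3 | h3
    · exact h.z_ne h3
    · exact h.z_succ_ne h3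

/-- The second identity without the index. -/
theorem ident : ((1 - j) * z - (1 + j)) ^ 2 * ((ξ - 1) ^ 2 * (D * E)) =
    ((1 + j) * z + (j - 1)) ^ 2 * (ξ * (D - E) ^ 2) := by
  refine mul_left_cancel₀ h.ξ_ne ?_
  have hE : E = -(ξ + 1) - D := by have := h.sum; omega
  have ho := h.order
  have hs := h.second
  subst hE
  linear_combination (-(ξ + 1) * (D * (-(ξ + 1) - D) - ξ)) * ho + ((ξ - 1) ^ 2 * (z + 1)) * hs

/-- For unequal degrees `ξ D E` is a square. -/
theorem square (hDE : D ≠ E) : IsSquare (ξ * (D * E)) := by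
  by_contra hn
  have hz : ((1 + j) * z + (j - 1)) * (D - E) = 0 := sq_coeff hn
    (x := ((1 - j) * z - (1 + j)) * (ξ - 1) * (D * E)) (by linear_combination (D * E) * h.ident)
  exact hDE (sub_eq_zero.1 ((mul_eq_zero.1 hz).resolve_left h.L_ne))

/-- For positive `ξ` the squared ratio is less than a third. -/
theorem pos_bound (hξ : 9 ≤ ξ) :
    3 * ((1 - j) * z - (1 + j)) ^ 2 < ((1 + j) * z + (j - 1)) ^ 2 := by
  have hi := h.ident
  have hE : E = -(ξ + 1) - D := by have := h.sum; omega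
  have hD := h.D_big
  have hE' := h.E_big
  have hL : 0 < ((1 + j) * z + (j - 1)) ^ 2 := by
    have := h.L_ne; positivity
  set L2 := ((1 + j) * z + (j - 1)) ^ 2
  set M2 := ((1 - j) * z - (1 + j)) ^ 2
  have hM : 0 ≤ M2 := sq_nonneg _
  have hP : 3 * (ξ - 2) ≤ D * E := by
    rcases hD with hD | hD <;> rcases hE' with hE' | hE'
    · omega
    · exfalso
      have h1 : D * E < 0 := mul_neg_of_pos_of_neg (by omega) (by omega)
      nlinarith [mul_pos hL (mul_pos (show (0 : ℤ) < ξ by omega) (pow_pos (show (0 : ℤ) < D - E by omega) 2)),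
        mul_nonneg hM (mul_nonneg (sq_nonneg (ξ - 1)) (neg_nonneg.2 h1.le))]
    · exfalso
      have h1 : D * E < 0 := mul_neg_of_neg_of_pos (by omega) (by omega)
      nlinarith [mul_pos hL (mul_pos (show (0 : ℤ) < ξ by omega) (pow_pos (show (0 : ℤ) < E - D by omega) 2)),
        mul_nonneg hM (mul_nonneg (sq_nonneg (ξ - 1)) (neg_nonneg.2 h1.le))]
    · subst hE
      nlinarith [mul_nonneg (show (0 : ℤ) ≤ -3 - D by omega) (show (0 : ℤ) ≤ D + (ξ - 2) by omega)]
  have hDE : (D - E) ^ 2 = (ξ + 1) ^ 2 - 4 * (D * E) := by rw [hE]; ring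
  rw [hDE] at hi
  have h1 : 3 * ξ * (ξ + 1) ^ 2 < D * E * (ξ ^ 2 + 10 * ξ + 1) := by
    have : 3 * ξ * (ξ + 1) ^ 2 < 3 * (ξ - 2) * (ξ ^ 2 + 10 * ξ + 1) := by nlinarith
    have h2 : 0 ≤ ξ ^ 2 + 10 * ξ + 1 := by nlinarith
    calc _ < _ := this
      _ ≤ _ := mul_le_mul_of_nonneg_right hP h2
  have hpos : 0 < (ξ - 1) ^ 2 * (D * E) := mul_pos (pow_pos (by omega) 2) (by omega)
  refine lt_of_mul_lt_mul_right ?_ hpos.le
  calc 3 * M2 * ((ξ - 1) ^ 2 * (D * E)) = L2 * (3 * ξ * (ξ + 1) ^ 2 - 12 * ξ * (D * E)) := by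
        linear_combination 3 * hi
    _ < L2 * ((ξ - 1) ^ 2 * (D * E)) := mul_lt_mul_of_pos_left (by linarith [h1]) hL

/-- For negative `ξ`. -/
theorem neg_bound (hξ : ξ ≤ -7) (hk : (1 - j) * z - (1 + j) ≠ 0) : D * E ≤ 3 * (ξ - 2) ∧
    D * E * (((1 - j) * z - (1 + j)) ^ 2 * (ξ - 1) ^ 2 + 4 * ξ * ((1 + j) * z + (j - 1)) ^ 2) =
      ξ * (ξ + 1) ^ 2 * ((1 + j) * z + (j - 1)) ^ 2 := by
  have hE : E = -(ξ + 1) - D := by have := h.sum; omega
  have hi := h.ident
  refine ⟨?_, ?_⟩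
  · have hD := h.D_big
    have hE' := h.E_big
    rcases hD with hD | hD <;> rcases hE' with hE' | hE'
    · exfalso
      have h1 : 0 < D * E := mul_pos (by omega) (by omega)
      have h2 : (D - E) ^ 2 * ξ * ((1 + j) * z + (j - 1)) ^ 2 = 0 := by
        have := mul_nonneg (sq_nonneg (D - E)) (sq_nonneg ((1 + j) * z + (j - 1)))
        nlinarith [mul_nonneg (sq_nonneg ((1 - j) * z - (1 + j))) (mul_nonneg (sq_nonneg (ξ - 1)) h1.le)]
      have h3 : D - E = 0 := by
        rcases mul_eq_zero.1 h2 with h4 | h4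
        · rcases mul_eq_zero.1 h4 with h5 | h5
          · exact (pow_eq_zero_iff two_ne_zero).1 h5
          · exact absurd h5 h.ξ_ne
        · exact absurd ((pow_eq_zero_iff two_ne_zero).1 h4) h.L_ne
      rw [h3] at hi
      exact mul_ne_zero (pow_ne_zero 2 hk) (mul_ne_zero (pow_ne_zero 2 h.ξ_pred_ne) (mul_ne_zero h.D_ne h.E_ne))
        (hi.trans (by ring))
    · subst hE
      nlinarith [mul_nonneg (show (0 : ℤ) ≤ D + ξ - 2 by omega) (show (0 : ℤ) ≤ D + 3 by omega)]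
    · subst hE
      nlinarith [mul_nonneg (show (0 : ℤ) ≤ -3 - D by omega) (show (0 : ℤ) ≤ 2 - ξ - D by omega)]
    · omega
  · subst hE
    linear_combination hi

end Data

end Cfsg.Lib.GWD.MaxArith
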