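import Cfsg.Agent.GWDihedral.Maximal.Arith

/-!
Simple groups with dihedral Sylow 2-subgroups: the solutions of the relations for a maximal subgroup rotating
one four-group.
-/

set_option autoImplicit false
set_option linter.unusedVariables false

namespace Cfsg.Lib.GWD.MaxArith

theorem no_sq {n : ℤ} (h : Int.sqrt n * Int.sqrt n ≠ n) : ¬ IsSquare n := fun ⟨g, hg⟩ =>
  h ((Int.exists_mul_self n).1 ⟨g, hg.symm⟩)

/-- The quadratics of the case `j = 4` have no root in the class of `z`, one excepted. -/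
theorem four_table : ∀ I ∈ [17, 19, 21, 23, 25], ∀ μ ∈ [-15, -5, -3, -1, 1, 3, 5, 15],
    ∀ t ∈ (List.range 19).map (fun i : ℕ => (i : ℤ) - 10),
      (25 - I : ℤ) * (16 * t + 9) ^ 2 + (5 * (6 + 3 * μ) - I) * (16 * t + 9) + (3 + μ) * (3 + 2 * μ) = 0 →
        I = 21 ∧ μ = -3 ∧ t = 0 := by
  decide +kernel

theorem u_range {A B C u : ℤ} (hA : 2 ≤ A) (hB : B ≤ 238) (hB' : -230 ≤ B) (hC : C ≤ 600) (hC' : -600 ≤ C)
    (h : A * u ^ 2 + B * u + C = 0) : -150 ≤ u ∧ u ≤ 150 := by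
  constructor
  · by_contra hc
    push Not at hc
    have h1 := mul_le_mul_of_nonneg_right hA (sq_nonneg u)
    have h2 := mul_le_mul_of_nonpos_right hB (show u ≤ 0 by omega)
    have h3 := mul_le_mul_of_nonpos_right hc.le (show u ≤ 0 by omega)
    linarith
  · by_contra hc
    push Not at hc
    have h1 := mul_le_mul_of_nonneg_right hA (sq_nonneg u)
    have h2 := mul_le_mul_of_nonneg_right hB' (show 0 ≤ u by omega)
    have h3 := mul_le_mul_of_nonneg_right hc.le (show 0 ≤ u by omega)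
    linarith

namespace Data

variable {z j I w₁ w₂ ξ D E : ℤ} (h : Data z j I w₁ w₂ ξ D E)
include h

theorem ident' : D * E * (((1 - j) * z - (1 + j)) ^ 2 * (ξ - 1) ^ 2 + 4 * ξ * ((1 + j) * z + (j - 1)) ^ 2) =
    ξ * (ξ + 1) ^ 2 * ((1 + j) * z + (j - 1)) ^ 2 := by
  have hi := h.ident
  have hE : E = -(ξ + 1) - D := by have := h.sum; omega
  subst hE
  linear_combination hi

theorem neg_ratio (hξ : ξ ≤ -7) (hk : (1 - j) * z - (1 + j) ≠ 0) :
    3 * (2 - ξ) * (1 - ξ) ^ 2 * ((1 - j) * z - (1 + j)) ^ 2 ≤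
      -ξ * (5 - ξ) ^ 2 * ((1 + j) * z + (j - 1)) ^ 2 := by
  obtain ⟨hP, hid⟩ := h.neg_bound hξ hk
  set L2 := ((1 + j) * z + (j - 1)) ^ 2 with hL2
  set M2 := ((1 - j) * z - (1 + j)) ^ 2 with hM2
  have hLp : 0 < L2 := by
    rw [hL2]; exact lt_of_le_of_ne (sq_nonneg _) (Ne.symm (pow_ne_zero 2 h.L_ne))
  have hpos : 0 ≤ M2 * (ξ - 1) ^ 2 + 4 * ξ * L2 := by
    by_contra hneg
    push Not at hneg
    have h1 : 0 < D * E * (M2 * (ξ - 1) ^ 2 + 4 * ξ * L2) := mul_pos_of_neg_of_neg (by nlinarith) hneg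
    have h2 : ξ * (ξ + 1) ^ 2 * L2 ≤ 0 :=
      mul_nonpos_of_nonpos_of_nonneg (mul_nonpos_of_nonpos_of_nonneg (by omega) (sq_nonneg _)) hLp.le
    omega
  have h1 := mul_le_mul_of_nonneg_right hP hpos
  rw [hid] at h1
  linarith [h1]

/-- The ratio `w₁ / w₂` lies strictly below `15 / 2`. -/
theorem twelve (hk : (1 - j) * z - (1 + j) ≠ 0) :
    12 * ((1 - j) * z - (1 + j)) ^ 2 ≤ 7 * ((1 + j) * z + (j - 1)) ^ 2 := by
  rcases h.ξ_big with hξ | hξ
  · have := h.pos_bound hξ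
    have := sq_nonneg ((1 + j) * z + (j - 1))
    omega
  · have h1 := h.neg_ratio hξ hk
    have hb : 0 ≤ ((1 + j) * z + (j - 1)) ^ 2 := sq_nonneg _
    have h2 : 12 * (-ξ) * (5 - ξ) ^ 2 ≤ 21 * (2 - ξ) * (1 - ξ) ^ 2 := by
      have h7 : (0 : ℤ) ≤ -7 - ξ := by omega
      nlinarith [mul_nonneg h7 h7, mul_nonneg (mul_nonneg h7 h7) h7]
    have h3 : 0 < 3 * (2 - ξ) * (1 - ξ) ^ 2 := mul_pos (by omega) (pow_pos (by omega) 2)
    refine le_of_mul_le_mul_left ?_ h3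
    have h4 := mul_le_mul_of_nonneg_right h2 hb
    linarith [h4, h1]

/-- The parameters `μ` with `L = μ (ξ - 1)`. -/
theorem exists_mu : ∃ μ : ℤ, (1 + j) * z + (j - 1) = μ * (ξ - 1) ∧ Odd μ ∧
    I * (z * (z + 1)) = μ ^ 2 * (ξ * (ξ + 1)) ∧ μ ^ 2 ∣ I * z := by
  obtain ⟨r, hr⟩ : ∃ r, ξ = 8 * r + 1 := ⟨(ξ - 1) / 8, by have := h.ξ_mod; omega⟩
  obtain ⟨m, hm⟩ : ∃ m, z = 4 * m + 1 := ⟨(z - 1) / 4, by have := h.z_mod; omega⟩
  have ho := h.order
  have hne := h.ξ_pred_ne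
  have hcop : IsCoprime (ξ - 1) (ξ * (4 * r + 1)) :=
    IsCoprime.mul_right ⟨-1, 1, by ring⟩ ⟨2 * r, 1 - 4 * r, by rw [hr]; ring⟩
  have ho' : (ξ - 1) ^ 2 * (I * z * (2 * m + 1)) =
      ((1 + j) * z + (j - 1)) ^ 2 * (ξ * (4 * r + 1)) := by
    refine mul_left_cancel₀ (two_ne_zero (α := ℤ)) ?_
    have e1 : z + 1 = 2 * (2 * m + 1) := by omega
    have e2 : ξ + 1 = 2 * (4 * r + 1) := by omega
    rw [e1, e2] at ho
    linear_combination ho
  obtain ⟨μ, hμ⟩ : (ξ - 1) ∣ (1 + j) * z + (j - 1) :=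
    (Int.pow_dvd_pow_iff two_ne_zero).1 (((hcop.pow_left (m := 2))).dvd_of_dvd_mul_right ⟨_, ho'.symm⟩)
  have he : I * z * (2 * m + 1) = μ ^ 2 * (ξ * (4 * r + 1)) := by
    refine mul_left_cancel₀ (pow_ne_zero 2 hne) ?_
    rw [ho', hμ]; ring
  refine ⟨μ, by rw [hμ]; ring, ?_, ?_, ?_⟩
  · have hodd : Odd (I * z * (2 * m + 1)) :=
      (h.I_odd.mul (Int.odd_iff.2 (by omega))).mul (odd_two_mul_add_one m)
    rw [he, pow_two] at hodd
    exact (Int.odd_mul.1 (Int.odd_mul.1 hodd).1).1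
  · rw [show z + 1 = 2 * (2 * m + 1) by omega, show ξ + 1 = 2 * (4 * r + 1) by omega]
    linear_combination (2 : ℤ) * he
  · have hc : IsCoprime μ (2 * m + 1) := ⟨-4 * r, 1 + j, by rw [hr, hm] at hμ; linarith⟩
    exact (hc.pow_left (m := 2)).dvd_of_dvd_mul_right ⟨ξ * (4 * r + 1), he⟩

/-- The quadratic satisfied by `z`. -/
theorem quad {μ : ℤ} (hμ : (1 + j) * z + (j - 1) = μ * (ξ - 1))
    (he : I * (z * (z + 1)) = μ ^ 2 * (ξ * (ξ + 1))) :
    I * (z * (z + 1)) = ((1 + j) * z + (j - 1) + μ) * ((1 + j) * z + (j - 1) + 2 * μ) := by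
  rw [he, hμ]; ring

theorem I_range : 21 * ((1 + j) * z + (j - 1)) ^ 2 ≤ 32 * (I * (z * (z + 1))) ∧
    32 * (I * (z * (z + 1))) ≤ 45 * ((1 + j) * z + (j - 1)) ^ 2 ∧
      (ξ ≤ -7 → I * (z * (z + 1)) < ((1 + j) * z + (j - 1)) ^ 2) := by
  have ho : (ξ - 1) ^ 2 * (I * (z * (z + 1))) = ((1 + j) * z + (j - 1)) ^ 2 * (ξ * (ξ + 1)) := by
    linear_combination h.order
  have hL : 0 < ((1 + j) * z + (j - 1)) ^ 2 :=
    lt_of_le_of_ne (sq_nonneg _) (Ne.symm (pow_ne_zero 2 h.L_ne))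
  have hp : 0 < (ξ - 1) ^ 2 := lt_of_le_of_ne (sq_nonneg _) (Ne.symm (pow_ne_zero 2 h.ξ_pred_ne))
  have b1 : 21 * (ξ - 1) ^ 2 ≤ 32 * (ξ * (ξ + 1)) := by
    rcases h.ξ_big with h' | h'
    · nlinarith
    · nlinarith [mul_nonneg (show (0 : ℤ) ≤ -7 - ξ by omega) (show (0 : ℤ) ≤ -ξ by omega)]
  have b2 : 32 * (ξ * (ξ + 1)) ≤ 45 * (ξ - 1) ^ 2 := by
    rcases h.ξ_big with h' | h'
    · nlinarith [mul_nonneg (show (0 : ℤ) ≤ ξ - 9 by omega) (show (0 : ℤ) ≤ ξ by omega)]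
    · nlinarith
  refine ⟨le_of_mul_le_mul_left ?_ hp, le_of_mul_le_mul_left ?_ hp, fun hξ => lt_of_mul_lt_mul_left ?_ hp.le⟩
  · linarith [mul_le_mul_of_nonneg_left b1 hL.le, ho]
  · linarith [mul_le_mul_of_nonneg_left b2 hL.le, ho]
  · linarith [mul_lt_mul_of_pos_left (show ξ * (ξ + 1) < (ξ - 1) ^ 2 by nlinarith) hL, ho]

/-- The powers of two in `j` and `z - 1` agree up to one. -/
theorem parity : Even j ∧ ((j = 2 ∨ j = 6 ∨ j = 10 ∨ j = 14) → z % 8 = 5) ∧
    (j = 4 → z % 16 = 9) ∧ (j = 8 → z % 32 = 17) := by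
  obtain ⟨m, hm⟩ : ∃ m, z = 4 * m + 1 := ⟨(z - 1) / 4, by have := h.z_mod; omega⟩
  set B := w₂ * (2 * m + 1) with hB
  have hBo : Odd B := h.w₂_odd.mul (odd_two_mul_add_one m)
  have e : 2 * (m * w₁) = j * B := by
    refine mul_left_cancel₀ (two_ne_zero (α := ℤ)) ?_
    rw [hB]
    have := h.ratio
    rw [hm] at this
    linarith [this]
  have hw := h.w₁_odd
  have hodd : ∀ (c : ℤ) (x : ℤ), x * w₁ = c * B → (Odd x ↔ Odd c) := fun c x hx => by
    constructor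
    · intro hxo
      have h1 := hxo.mul hw
      rw [hx] at h1
      exact (Int.odd_mul.1 h1).1
    · intro hc
      have h1 := hc.mul hBo
      rw [← hx] at h1
      exact (Int.odd_mul.1 h1).1
  refine ⟨?_, fun hj => ?_, fun hj => ?_, fun hj => ?_⟩
  · rcases Int.even_or_odd j with h' | h'
    · exact h'
    · have h1 := h'.mul hBo
      rw [← e] at h1
      exact absurd h1 (Int.not_odd_iff_even.2 (even_two_mul _))
  · obtain ⟨c, hc⟩ : ∃ c, j = 2 * (2 * c + 1) := ⟨(j - 2) / 4, by omega⟩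
    have h1 : Odd m := (hodd (2 * c + 1) m (by rw [hc] at e; linarith [e])).2 (odd_two_mul_add_one c)
    have := Int.odd_iff.1 h1
    omega
  · subst hj
    obtain ⟨m', hm'⟩ : Even m := by
      by_contra hne
      exact absurd ((hodd 2 m (by linarith [e])).1 (Int.not_even_iff_odd.1 hne)) (by decide)
    have h1 : Odd m' := (hodd 1 m' (by subst hm'; linarith [e])).2 odd_one
    have := Int.odd_iff.1 h1
    omega
  · subst hj
    obtain ⟨m', hm'⟩ : Even m := by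
      by_contra hne
      exact absurd ((hodd 4 m (by linarith [e])).1 (Int.not_even_iff_odd.1 hne)) (by decide)
    obtain ⟨m'', hm''⟩ : Even m' := by
      by_contra hne
      exact absurd ((hodd 2 m' (by subst hm'; linarith [e])).1 (Int.not_even_iff_odd.1 hne)) (by decide)
    have h1 : Odd m'' := (hodd 1 m'' (by subst hm'; subst hm''; linarith [e])).2 odd_one
    have := Int.odd_iff.1 h1
    omega

/-- The top `S₄`. -/
theorem case_three (hz : z = -3) : (I = 7 ∧ w₁ = w₂) ∨ (I = 15 ∧ w₁ = w₂) ∨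
    (I = 35 ∧ w₁ = 3 * w₂) ∨ (I = 63 ∧ w₁ = 5 * w₂) := by
  subst hz
  obtain ⟨hev, -⟩ := h.parity
  have hj := h.j_pos
  have hw := h.w₂_pos
  have hr := h.ratio
  have hj' : j ≤ 15 := by
    by_contra hc
    push Not at hc
    have := h.twelve (by omega)
    nlinarith
  obtain ⟨i, hi⟩ := h.I_odd
  have ho := h.order
  have hid := h.ident'
  have hξ8 := h.ξ_mod
  have hξb := h.ξ_big
  obtain ⟨μ, hμ, hμo, -, -⟩ := h.exists_mu
  have hdvd : (ξ - 1).natAbs ∣ ((1 + j) * (-3) + (j - 1)).natAbs := Int.natAbs_dvd_natAbs.2 ⟨μ, by rw [hμ]; ring⟩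
  have hle := Nat.le_of_dvd (by omega) hdvd
  have hjs : j = 2 ∨ j = 6 ∨ j = 10 ∨ j = 14 ∨ j = 4 ∨ j = 8 ∨ j = 12 := by
    obtain ⟨c, hc⟩ := hev; omega
  obtain ⟨-, h2, h4, h8⟩ := h.parity
  rcases hjs with rfl | rfl | rfl | rfl | rfl | rfl | rfl
  case inr.inr.inr.inr.inl => exact absurd (h4 rfl) (by decide)
  case inr.inr.inr.inr.inr.inl => exact absurd (h8 rfl) (by decide)
  case inr.inr.inr.inr.inr.inr =>
    exfalso
    obtain ⟨a, ha⟩ := h.w₁_odd
    omega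
  all_goals
    have hξs : ξ = 9 ∨ ξ = -7 ∨ ξ = 17 ∨ ξ = -15 ∨ ξ = 25 ∨ ξ = -23 ∨ ξ = 33 ∨ ξ = -31 := by omega
    rcases hξs with rfl | rfl | rfl | rfl | rfl | rfl | rfl | rfl <;>
      norm_num at ho hid hle <;> omega

theorem case_two (hz : 5 ≤ z ∨ z ≤ -7) (hj : j = 2) : z = 5 ∧ I = 7 := by
  subst hj
  have h8 := h.parity.2.1 (Or.inl rfl)
  obtain ⟨μ, hμ, hμo, he, hdvd⟩ := h.exists_mu
  have hq := h.quad hμ he
  obtain ⟨hl, hu, -⟩ := h.I_range
  have hI7 := h.I_big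
  have hI : I ≤ 13 := by
    by_contra hc
    push Not at hc
    rcases hz with hz | hz
    · nlinarith [mul_le_mul_of_nonneg_right (show (14 : ℤ) ≤ I by omega) (show (0 : ℤ) ≤ z * (z + 1) by nlinarith)]
    · nlinarith [mul_le_mul_of_nonneg_right (show (14 : ℤ) ≤ I by omega) (show (0 : ℤ) ≤ z * (z + 1) by nlinarith)]
  have hμI : μ ^ 2 ∣ I := by
    have hc : IsCoprime μ z := ⟨ξ - 1, -3, by linarith [hμ]⟩
    exact (hc.pow_left (m := 2)).dvd_of_dvd_mul_right hdvd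
  have h3 : μ ^ 2 ≤ 13 := (Int.le_of_dvd (by omega) hμI).trans hI
  have hμ1 : -3 ≤ μ := by nlinarith
  have hμ2 : μ ≤ 3 := by nlinarith
  have hμs : μ = -3 ∨ μ = -1 ∨ μ = 1 ∨ μ = 3 := by have := Int.odd_iff.1 hμo; omega
  have hzs : z = 5 ∨ 13 ≤ z ∨ z ≤ -11 := by omega
  have hIo := Int.odd_iff.1 h.I_odd
  rcases hzs with rfl | hzs | hzs
  · refine ⟨rfl, ?_⟩
    have hξ8 := h.ξ_mod
    have hξb := h.ξ_big
    rcases hμs with rfl | rfl | rfl | rfl <;> norm_num at hq hμI ⊢ <;> omega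
  all_goals
    exfalso
    rcases (show I = 7 ∨ I = 9 ∨ I = 11 ∨ I = 13 by omega) with rfl | rfl | rfl | rfl <;>
      rcases hμs with rfl | rfl | rfl | rfl <;> norm_num at hμI <;> nlinarith

set_option maxHeartbeats 1000000 in
theorem case_four (hz : 5 ≤ z ∨ z ≤ -7) (hj : j = 4) : False := by
  subst hj
  have h16 := h.parity.2.2.1 rfl
  have hξ8 := h.ξ_mod
  have hIo := Int.odd_iff.1 h.I_odd
  have ho := h.order
  have hid := h.ident'
  obtain ⟨μ, hμ, hμo, he, hdvd⟩ := h.exists_mu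
  rcases h.ξ_big with hξ | hξ
  · have hb := h.pos_bound hξ
    have hz' : z = -7 ∨ z = -23 := by
      have h1 : -29 < z := by nlinarith
      have h2 : z < 0 := by nlinarith
      omega
    rcases hz' with rfl | rfl
    · have hd : (ξ - 1).natAbs ∣ 32 := by
        have := Int.natAbs_dvd_natAbs.2 (show ξ - 1 ∣ (1 + 4) * (-7 : ℤ) + (4 - 1) from ⟨μ, by rw [hμ]; ring⟩)
        simpa using this
      have hle := Nat.le_of_dvd (by norm_num) hd
      have hξs : ξ = 9 ∨ ξ = 17 ∨ ξ = 25 ∨ ξ = 33 := by omega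
      rcases hξs with rfl | rfl | rfl | rfl <;> norm_num at ho hid <;> omega
    · have hd : (ξ - 1).natAbs ∣ 112 := by
        have := Int.natAbs_dvd_natAbs.2 (show ξ - 1 ∣ (1 + 4) * (-23 : ℤ) + (4 - 1) from ⟨μ, by rw [hμ]; ring⟩)
        simpa using this
      have hle := Nat.le_of_dvd (by norm_num) hd
      obtain ⟨r, hr⟩ : ∃ r, ξ = 8 * r + 1 := ⟨(ξ - 1) / 8, by omega⟩
      subst hr
      have hr1 : 1 ≤ r := by omega
      have hr2 : r ≤ 14 := by omega
      interval_cases r <;> norm_num at ho hid <;> omega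
  obtain ⟨hl, -, hu⟩ := h.I_range
  have hu := hu hξ
  have hzz : 0 ≤ z * (z + 1) := by rcases hz with h' | h' <;> nlinarith
  have hI1 : 16 ≤ I := by
    by_contra hc
    push Not at hc
    have := mul_le_mul_of_nonneg_right (show I ≤ 15 by omega) hzz
    rcases hz with h' | h' <;> nlinarith
  have hI2 : I ≤ 25 := by
    by_contra hc
    push Not at hc
    have := mul_le_mul_of_nonneg_right (show 27 ≤ I by omega) hzz
    rcases hz with h' | h' <;> nlinarith
  have hμI : μ ^ 2 ∣ 9 * I := by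
    obtain ⟨c, hc⟩ := hdvd
    exact ⟨(ξ - 1) ^ 2 * I - 10 * μ * (ξ - 1) * c + 25 * z * c, by
      have e : (3 : ℤ) = μ * (ξ - 1) - 5 * z := by linarith [hμ]
      calc 9 * I = (μ * (ξ - 1) - 5 * z) ^ 2 * I := by rw [← e]; ring
        _ = μ ^ 2 * ((ξ - 1) ^ 2 * I) - 10 * μ * (ξ - 1) * (I * z) + 25 * z * (I * z) := by ring
        _ = _ := by rw [hc]; ring⟩
  have h3 : μ ^ 2 ≤ 225 := (Int.le_of_dvd (by omega) hμI).trans (by omega)
  have hμ1 : -15 ≤ μ := by nlinarith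
  have hμ2 : μ ≤ 15 := by nlinarith
  have hμl : μ ∈ ([-15, -5, -3, -1, 1, 3, 5, 15] : List ℤ) := by
    have hodd := Int.odd_iff.1 hμo
    simp only [List.mem_cons, List.not_mem_nil, or_false]
    rcases (show I = 17 ∨ I = 19 ∨ I = 21 ∨ I = 23 ∨ I = 25 by omega) with rfl | rfl | rfl | rfl | rfl <;>
      interval_cases μ <;> first | omega | norm_num at hμI
  have hIl : I ∈ ([17, 19, 21, 23, 25] : List ℤ) := by
    simp only [List.mem_cons, List.not_mem_nil, or_false]; omega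
  have hq := h.quad hμ he
  obtain ⟨t, ht⟩ : ∃ t, z = 16 * t + 9 := ⟨(z - 9) / 16, by omega⟩
  subst ht
  have hC : (3 + μ) * (3 + 2 * μ) ≤ 600 ∧ -600 ≤ (3 + μ) * (3 + 2 * μ) := by
    simp only [List.mem_cons, List.not_mem_nil, or_false] at hμl
    rcases hμl with rfl | rfl | rfl | rfl | rfl | rfl | rfl | rfl <;> norm_num
  have hB1 : 5 * (6 + 3 * μ) - I ≤ 238 := by omega
  have hB2 : -230 ≤ 5 * (6 + 3 * μ) - I := by omega
  have hq' : (25 - I) * (16 * t + 9) ^ 2 + (5 * (6 + 3 * μ) - I) * (16 * t + 9) + (3 + μ) * (3 + 2 * μ) = 0 := by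
    linear_combination -hq
  have htr : -10 ≤ t ∧ t ≤ 8 := by
    rcases (show I = 25 ∨ I ≤ 23 by omega) with rfl | hI
    · simp only [List.mem_cons, List.not_mem_nil, or_false] at hμl
      rcases hμl with rfl | rfl | rfl | rfl | rfl | rfl | rfl | rfl <;> norm_num at hq' <;> constructor <;> omega
    · obtain ⟨hu1, hu2⟩ := u_range (by omega) hB1 hB2 hC.1 hC.2 hq'
      constructor <;> omega
  have htm : t ∈ (List.range 19).map (fun i : ℕ => (i : ℤ) - 10) :=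
    List.mem_map.2 ⟨(t + 10).toNat, List.mem_range.2 (by omega), by omega⟩
  obtain ⟨rfl, rfl, rfl⟩ := four_table I hIl μ hμl t htm hq'
  norm_num at hμ
  obtain rfl : ξ = -15 := by omega
  norm_num at hid
  omega

set_option maxHeartbeats 1000000 in
theorem case_six (hz : 5 ≤ z ∨ z ≤ -7) (hj : j = 6) : False := by
  subst hj
  have h8 := h.parity.2.1 (Or.inr (Or.inl rfl))
  have hk : (1 - 6) * z - (1 + 6) ≠ 0 := by omega
  have h12 := h.twelve hk
  have hz' : 13 ≤ z ∨ z ≤ -11 := by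
    rcases (show z = 5 ∨ 13 ≤ z ∨ z ≤ -11 by omega) with rfl | h'
    · norm_num at h12
    · exact h'
  rcases h.ξ_big with hξ | hξ
  · have hb := h.pos_bound hξ
    rcases hz' with h' | h' <;> nlinarith
  have hM : 4 * ((1 + 6) * z + (6 - 1)) ^ 2 ≤ 9 * ((1 - 6) * z - (1 + 6)) ^ 2 := by
    rcases hz' with h' | h' <;> nlinarith
  have hr := h.neg_ratio hξ hk
  set L2 := ((1 + 6) * z + (6 - 1)) ^ 2 with hL2
  set M2 := ((1 - 6) * z - (1 + 6)) ^ 2 with hM2
  have hLp : 0 < L2 := lt_of_le_of_ne (sq_nonneg _) (Ne.symm (pow_ne_zero 2 h.L_ne))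
  have hξs : ξ = -7 ∨ ξ = -15 := by
    have hξ8 := h.ξ_mod
    suffices ¬ ξ ≤ -23 by omega
    intro hc
    have h1 : 12 * (2 - ξ) * (1 - ξ) ^ 2 * L2 ≤ -9 * ξ * (5 - ξ) ^ 2 * L2 := by
      have h3 := mul_le_mul_of_nonneg_left hM (show 0 ≤ 3 * (2 - ξ) * (1 - ξ) ^ 2 from
        mul_nonneg (by omega) (sq_nonneg _))
      linarith [h3, hr]
    have h4 := le_of_mul_le_mul_right h1 hLp
    nlinarith [mul_nonneg (show (0 : ℤ) ≤ -23 - ξ by omega) (show (0 : ℤ) ≤ -ξ by omega),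
      mul_nonneg (mul_nonneg (show (0 : ℤ) ≤ -23 - ξ by omega) (show (0 : ℤ) ≤ -ξ by omega))
        (show (0 : ℤ) ≤ -ξ by omega)]
  have hE : E = -(ξ + 1) - D := by have := h.sum; omega
  have hDE : D ≠ E := fun e => by
    have := (h.neg_bound hξ hk).1
    rw [e] at this
    nlinarith [mul_self_nonneg E]
  have hsq := h.square hDE
  have hD := h.D_big
  have hE3 := h.E_big
  have hid := (h.neg_bound hξ hk).2
  rcases hξs with rfl | rfl
  · have hP : -567 ≤ D * E := by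
      by_contra hc
      push Not at hc
      nlinarith [mul_le_mul_of_nonpos_left (show (4 * L2 : ℤ) ≤ 9 * M2 from hM) (show D * E ≤ 0 by omega),
        mul_lt_mul_of_pos_right hc hLp]
    have hDr : -21 ≤ D ∧ D ≤ 27 := by constructor <;> subst hE <;> nlinarith
    obtain ⟨hD1, hD2⟩ := hDr
    subst hE
    interval_cases D
    all_goals
      first
        | omega
        | (exact absurd hsq (no_sq (by decide +kernel)))
        | (norm_num at hid
           have hz11 : z = -11 ∨ z = -19 := by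
             first
               | (have h5 : (3 * z + 57) * (157 * z + 167) = 0 := by linarith [hid]
                  rcases mul_eq_zero.1 h5 <;> omega)
               | (have h5 : (z + 11) * (29 * z + 31) = 0 := by linarith [hid]
                  rcases mul_eq_zero.1 h5 <;> omega)
           rcases hz11 with e | e <;>
             (subst e
              have ho := h.order
              obtain ⟨i, hi⟩ := h.I_odd
              norm_num at ho hid <;> omega))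
  · have hP : -54 ≤ D * E := by
      by_contra hc
      push Not at hc
      nlinarith [mul_le_mul_of_nonpos_left (show (4 * L2 : ℤ) ≤ 9 * M2 from hM) (show D * E ≤ 0 by omega),
        mul_lt_mul_of_pos_right hc hLp]
    have hDr : -4 ≤ D ∧ D ≤ 18 := by constructor <;> subst hE <;> nlinarith
    obtain ⟨hD1, hD2⟩ := hDr
    subst hE
    interval_cases D <;> first | omega | (exact absurd hsq (no_sq (by decide +kernel))) | nlinarith

theorem case_eight (hz : 5 ≤ z ∨ z ≤ -7) (hj : j = 8) : False := by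
  subst hj
  have h32 := h.parity.2.2.2 rfl
  have hk : (1 - 8) * z - (1 + 8) ≠ 0 := by omega
  have h12 := h.twelve hk
  have hz' : z ≤ -15 := by
    rcases (show 17 ≤ z ∨ z ≤ -15 by omega) with h' | h'
    · exfalso; nlinarith
    · exact h'
  rcases h.ξ_big with hξ | hξ
  · have hb := h.pos_bound hξ
    nlinarith
  have hM : 9 * ((1 + 8) * z + (8 - 1)) ^ 2 ≤ 16 * ((1 - 8) * z - (1 + 8)) ^ 2 := by nlinarith
  have hr := h.neg_ratio hξ hk
  set L2 := ((1 + 8) * z + (8 - 1)) ^ 2 with hL2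
  set M2 := ((1 - 8) * z - (1 + 8)) ^ 2 with hM2
  have hLp : 0 < L2 := lt_of_le_of_ne (sq_nonneg _) (Ne.symm (pow_ne_zero 2 h.L_ne))
  obtain rfl : ξ = -7 := by
    have hξ8 := h.ξ_mod
    suffices ¬ ξ ≤ -15 by omega
    intro hc
    have h1 : 27 * (2 - ξ) * (1 - ξ) ^ 2 * L2 ≤ -16 * ξ * (5 - ξ) ^ 2 * L2 := by
      have h3 := mul_le_mul_of_nonneg_left hM (show 0 ≤ 3 * (2 - ξ) * (1 - ξ) ^ 2 from
        mul_nonneg (by omega) (sq_nonneg _))
      linarith [h3, hr]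
    have h4 := le_of_mul_le_mul_right h1 hLp
    nlinarith [mul_nonneg (show (0 : ℤ) ≤ -15 - ξ by omega) (show (0 : ℤ) ≤ -ξ by omega),
      mul_nonneg (mul_nonneg (show (0 : ℤ) ≤ -15 - ξ by omega) (show (0 : ℤ) ≤ -ξ by omega))
        (show (0 : ℤ) ≤ -ξ by omega)]
  obtain ⟨hP0, hid⟩ := h.neg_bound hξ hk
  have hE : E = -(-7 + 1) - D := by have := h.sum; omega
  have hDE : D ≠ E := fun e => by rw [e] at hP0; nlinarith [mul_self_nonneg E]
  have hsq := h.square hDE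
  have hP : -31 ≤ D * E := by
    by_contra hc
    push Not at hc
    nlinarith [mul_le_mul_of_nonpos_left (show (9 * L2 : ℤ) ≤ 16 * M2 from hM) (show D * E ≤ 0 by omega),
      mul_lt_mul_of_pos_right hc hLp]
  have hD := h.D_big
  have hE3 := h.E_big
  have hDr : -4 ≤ D ∧ D ≤ 10 := by constructor <;> subst hE <;> nlinarith
  obtain ⟨hD1, hD2⟩ := hDr
  subst hE
  interval_cases D <;> first | omega | (exact absurd hsq (no_sq (by decide +kernel)))

/-- The solutions. -/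
theorem solutions : (z = 5 ∧ I = 7) ∨ (z = -3 ∧ ((I = 7 ∧ w₁ = w₂) ∨ (I = 15 ∧ w₁ = w₂) ∨
    (I = 35 ∧ w₁ = 3 * w₂) ∨ (I = 63 ∧ w₁ = 5 * w₂))) := by
  by_cases h3 : z = -3
  · exact Or.inr ⟨h3, h.case_three h3⟩
  have hz : 5 ≤ z ∨ z ≤ -7 := by have := h.z_mod; have := h.z_big; omega
  left
  obtain ⟨c, hc⟩ := h.parity.1
  have hj := h.j_pos
  have hj10 : j < 10 := by
    by_contra hcon
    push Not at hcon
    have h12 := h.twelve (by rcases hz with h' | h' <;> nlinarith)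
    rcases hz with h' | h'
    · nlinarith [mul_nonneg (mul_nonneg (show (0 : ℤ) ≤ j - 8 by omega) (show (0 : ℤ) ≤ z + 1 by omega))
        (show (0 : ℤ) ≤ j by omega), mul_nonneg (show (0 : ℤ) ≤ j - 8 by omega) (show (0 : ℤ) ≤ z + 1 by omega)]
    · have ha : 0 ≤ (j - 10) * (-z - 1) := mul_nonneg (by omega) (by omega)
      nlinarith [mul_nonneg ha (show (0 : ℤ) ≤ -z - 1 by omega), mul_nonneg ha ha,
        mul_nonneg (show (0 : ℤ) ≤ -z - 7 by omega) (show (0 : ℤ) ≤ -z - 1 by omega)]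
  rcases (show j = 2 ∨ j = 4 ∨ j = 6 ∨ j = 8 by omega) with e | e | e | e
  · exact h.case_two hz e
  · exact (h.case_four hz e).elim
  · exact (h.case_six hz e).elim
  · exact (h.case_eight hz e).elim

end Data

end Cfsg.Lib.GWD.MaxArith
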