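import Cfsg.Agent.GWDihedral.Maximal.Spec
import Cfsg.Agent.GWDihedral.Ident.Degrees
import Cfsg.Agent.GWDihedral.Proper.Top
import Cfsg.Agent.FourGroupGW.MaxCent.Index

/-!
Simple groups with dihedral Sylow 2-subgroups: no maximal subgroup over `C(t)` rotates both four-groups.
-/

set_option autoImplicit false
set_option linter.unusedSectionVars false
set_option linter.style.haveILetI false

namespace Cfsg.Lib.GWD

open Subgroup
open Cfsg.Lib.GW (Core)

universe u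

variable {G : Type u} [Group G] [Finite G]

/-- Commutators lie in a normal subgroup of index two. -/
theorem commutator_mem_of_index_two {M : Subgroup G} (K : Subgroup M) (hK : K.index = 2) {a b : G} (ha : a ∈ M)
    (hb : b ∈ M) :
    (⟨a * b * a⁻¹ * b⁻¹, mul_mem (mul_mem (mul_mem ha hb) (inv_mem ha)) (inv_mem hb)⟩ : M) ∈ K := by
  have : (⟨a * b * a⁻¹ * b⁻¹, mul_mem (mul_mem (mul_mem ha hb) (inv_mem ha)) (inv_mem hb)⟩ : M) =
      ⟨a, ha⟩ * ⟨b, hb⟩ * (⟨a, ha⟩ : M)⁻¹ * (⟨b, hb⟩ : M)⁻¹ := rfl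
  rw [this, Subgroup.mul_mem_iff_of_index_two hK, Subgroup.mul_mem_iff_of_index_two hK,
    Subgroup.mul_mem_iff_of_index_two hK, inv_mem_iff, inv_mem_iff]
  tauto

namespace Frame

variable (F : Frame G)

/-- A subgroup containing the Sylow subgroup and rotating both four-groups has no subgroup of index two. -/
theorem index_ne_two {M : Subgroup G} (hS : F.S ≤ M) (h1 : Rot F.four₁ M) (h2 : Rot F.four₂ M)
    (K : Subgroup M) : K.index ≠ 2 := by
  haveI : Fact (Nat.Prime 2) := ⟨Nat.prime_two⟩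
  intro hK
  haveI : K.Normal := Subgroup.normal_of_index_eq_two hK
  have hr : F.r ∈ M := hS F.r_mem_S
  have hs : F.s ∈ M := hS F.s_mem_S
  have ht : F.t ∈ M := hS F.t_mem_S
  -- each rotated four-group lies in `K`
  have key : ∀ (u : G) (hu : u ∈ M), u * u = 1 → (∃ g ∈ M, g * F.t * g⁻¹ = u ∧ g * u * g⁻¹ = F.t * u) →
      (⟨u, hu⟩ : M) ∈ K := by
    rintro u hu huu ⟨g, hg, hgt, hgu⟩
    have h1 : g * u * g⁻¹ * u⁻¹ = F.t := by rw [hgu, mul_inv_cancel_right]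
    have htK : (⟨F.t, ht⟩ : M) ∈ K := by
      have := commutator_mem_of_index_two K hK hg hu
      simp only [h1] at this
      exact this
    have := Subgroup.Normal.conj_mem ‹K.Normal› _ htK ⟨g, hg⟩
    rwa [show (⟨g, hg⟩ : M) * ⟨F.t, ht⟩ * ⟨g, hg⟩⁻¹ = ⟨u, hu⟩ from Subtype.ext hgt] at this
  have hrK : (⟨F.r, hr⟩ : M) ∈ K := key _ hr (Cfsg.Lib.GenDihedral.mul_self_of_two F.r_order) h1.2
  have hrsK : (⟨F.r * F.s, mul_mem hr hs⟩ : M) ∈ K :=
    key _ _ (Cfsg.Lib.GenDihedral.mul_self_of_two F.rs_order) h2.2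
  have hsK : (⟨F.s, hs⟩ : M) ∈ K := by
    have := mul_mem (inv_mem hrK) hrsK
    rwa [show (⟨F.r, hr⟩ : M)⁻¹ * ⟨F.r * F.s, mul_mem hr hs⟩ = ⟨F.s, hs⟩ from
      Subtype.ext (inv_mul_cancel_left F.r F.s)] at this
  -- so `K` contains a Sylow 2-subgroup of `M`
  have hle : F.S.subgroupOf M ≤ K := by
    have : F.S ≤ K.map M.subtype := (closure_le _).2 (by
      rintro x (rfl | rfl)
      · exact ⟨_, hsK, rfl⟩
      · exact ⟨_, hrK, rfl⟩)
    intro x hx
    obtain ⟨y, hy, e⟩ := this (mem_subgroupOf.1 hx)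
    rwa [← (Subtype.ext e : y = x)]
  have hd := index_dvd_of_le hle
  rw [hK] at hd
  have hodd : ¬ 2 ∣ (F.S.subgroupOf M).index := fun h => by
    refine F.sylow.not_dvd_index ?_
    rw [F.coe_sylow]
    exact h.trans (by
      rw [← Subgroup.relIndex_mul_index hS]; exact dvd_mul_right _ _)
  exact hodd hd

/-- The index of such a subgroup is less than five. -/
theorem index_lt_five (hm : Minimal G) {M : Subgroup G} (hM : M ≠ ⊤) (hC : F.C ≤ M)
    (V : Cfsg.Lib.GW.Frame G) (hVt : V.t = F.t) (hR : Rot V M) (hno : ∀ K : Subgroup M, K.index ≠ 2)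
    {w w' : ℕ} (hw : Nat.card V.W = w) (hw' : 0 < w') (hle : w ≤ w')
    (hb : 4 * (Nat.card G : ℚ) * ((w : ℚ) * w') ^ 2 ≤ 45 * (F.m : ℚ) ^ 3 * (w + w') ^ 2) : M.index < 5 := by
  obtain ⟨a, T, Q, h⟩ := hm.topSpec V M hM hR
  have hVC : V.C = F.C := by rw [Cfsg.Lib.GW.Frame.C, hVt]; rfl
  have hVO : V.O = F.O := by rw [Cfsg.Lib.GW.Frame.O, hVC]; rfl
  have hMO : M ⊓ V.O = F.O := by rw [hVO]; exact inf_eq_right.2 (F.O_le.trans hC)
  have hMW : M ⊓ V.W = V.W := inf_eq_right.2 (V.W_le.trans (hVO.le.trans (F.O_le.trans hC)))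
  have ha : a = F.n := by
    rw [← h.two_part]
    haveI : Fact (Nat.Prime 2) := ⟨Nat.prime_two⟩
    refine le_antisymm ?_ ?_
    · have := (Classical.arbitrary (Sylow 2 G)).card_eq_multiplicity
      rw [F.card_sylow] at this
      rw [Nat.pow_right_injective le_rfl this]
      exact (Nat.factorization_le_iff_dvd Nat.card_pos.ne' Nat.card_pos.ne').2 (card_subgroup_dvd_card M) 2
    · refine (Nat.prime_two.pow_dvd_iff_le_factorization Nat.card_pos.ne').1 ?_
      rw [← F.card_S]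
      exact card_dvd_of_le (F.S_le_C.trans hC)
  have hord := h.order
  rw [hMO, hMW, hw, ha] at hord
  -- clear the larger of the two centralisers
  have hb' : Nat.card G * w ^ 2 ≤ 45 * F.m ^ 3 := by
    have hw'q : (0 : ℚ) < w' := Nat.cast_pos.2 hw'
    have hsum : ((w : ℚ) + w') ^ 2 ≤ 4 * (w' : ℚ) ^ 2 := by
      have : (w : ℚ) ≤ w' := Nat.cast_le.2 hle
      nlinarith [Nat.cast_nonneg (α := ℚ) w]
    have h1 : 4 * ((Nat.card G : ℚ) * (w : ℚ) ^ 2) * (w' : ℚ) ^ 2 ≤ 4 * (45 * (F.m : ℚ) ^ 3) * (w' : ℚ) ^ 2 := by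
      calc 4 * ((Nat.card G : ℚ) * (w : ℚ) ^ 2) * (w' : ℚ) ^ 2
          = 4 * (Nat.card G : ℚ) * ((w : ℚ) * w') ^ 2 := by ring
        _ ≤ 45 * (F.m : ℚ) ^ 3 * (w + w') ^ 2 := hb
        _ ≤ 45 * (F.m : ℚ) ^ 3 * (4 * (w' : ℚ) ^ 2) := by gcongr
        _ = _ := by ring
    have h2 := le_of_mul_le_mul_left (le_of_mul_le_mul_right h1 (by positivity)) (by norm_num : (0 : ℚ) < 4)
    exact_mod_cast h2
  by_contra hlt
  push Not at hlt
  set A := 2 ^ F.n with hA
  have h8 : 8 ≤ A := le_trans (by norm_num) (Nat.pow_le_pow_right two_pos F.three_le)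
  have hm3 : 64 * F.m ^ 3 = A ^ 3 * Nat.card F.O ^ 3 := by
    obtain ⟨k, hk⟩ : ∃ k, F.n = k + 2 := ⟨F.n - 2, by have := F.three_le; omega⟩
    rw [hA, Frame.m, hk, Nat.add_sub_cancel, pow_add]; ring
  -- five times the order formula against the bound
  have hkey : 5 * 64 * Q ≤ 45 * (A * T) ^ 2 := by
    have h1 : 5 * 64 * Q * (A * Nat.card F.O ^ 3) ≤ 45 * (A * T) ^ 2 * (A * Nat.card F.O ^ 3) := by
      calc 5 * 64 * Q * (A * Nat.card F.O ^ 3) = 5 * 64 * (A * Nat.card F.O ^ 3 * Q) := by ring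
        _ = 64 * T ^ 2 * (5 * (Nat.card M * w ^ 2)) := by rw [← hord]; ring
        _ ≤ 64 * T ^ 2 * (M.index * (Nat.card M * w ^ 2)) :=
            Nat.mul_le_mul_left _ (Nat.mul_le_mul_right _ hlt)
        _ = T ^ 2 * 64 * (Nat.card G * w ^ 2) := by rw [← M.card_mul_index]; ring
        _ ≤ T ^ 2 * 64 * (45 * F.m ^ 3) := Nat.mul_le_mul_left _ hb'
        _ = 45 * T ^ 2 * (64 * F.m ^ 3) := by ring
        _ = _ := by rw [hm3]; ring
    exact Nat.le_of_mul_le_mul_right h1 (Nat.mul_pos (by omega) (pow_pos Nat.card_pos 3))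
  rcases h.Q_full hno with hQ | ⟨rfl, rfl, ha3⟩
  · rw [ha, ← hA] at hQ
    have hAT : 8 ≤ A * T := le_trans h8 (Nat.le_mul_of_pos_right _ h.T_odd.pos)
    obtain ⟨j, hj⟩ : ∃ j, A * T = j + 8 := ⟨A * T - 8, by omega⟩
    rw [hj] at hQ hkey
    rw [show j + 8 - 1 = j + 7 by omega, show j + 8 - 2 = j + 6 by omega] at hQ
    nlinarith
  · rw [hA, ← ha, ha3] at hkey
    norm_num at hkey

/-- No maximal subgroup over `C` rotates both four-groups. -/
theorem bothRotSpec (hm : Minimal G) : F.BothRotSpec := by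
  intro M hM hC h1 h2
  have hno := F.index_ne_two (F.S_le_C.trans hC) h1 h2
  have hb := (F.bounds hm).upper
  have hlt : M.index < 5 := by
    rcases le_total F.w₁ F.w₂ with h | h
    · exact F.index_lt_five hm hM.1 hC F.four₁ rfl h1 hno rfl F.w₂_pos h hb
    · exact F.index_lt_five hm hM.1 hC F.four₂ rfl h2 hno rfl F.w₁_pos h (by
        rw [show Nat.card F.four₂.W = F.w₂ from rfl, mul_comm (F.w₂ : ℚ) F.w₁, add_comm (F.w₂ : ℚ) F.w₁]; exact hb)
  exact absurd hlt (not_lt.2 (Cfsg.Lib.GW.MaxCent.five_le_index_of_simple hm.simple hm.nonab hM.1))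

end Frame

end Cfsg.Lib.GWD
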