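import Cfsg.Agent.GWDihedral.Tops.Psl
import Cfsg.Agent.GWDihedral.Tops.Small

/-!
The involutions of a top with an involution outside the simple part: there are `q ^ 2`, of which `q (q + ε) / 2`
lie inside.
-/

set_option autoImplicit false
set_option linter.unusedSectionVars false
set_option linter.style.haveILetI false

namespace Cfsg.Lib.GWD.TopCount

open Subgroup Matrix Cfsg.Lib.Classical Cfsg.Lib.Known.AutPSLn Cfsg.Lib.CyclicNorm Cfsg.Lib.GLTwo
open Cfsg.Lib.GenDihedral (IsFour mul_self_of_two inv_of_two)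
open scoped MatrixGroups

universe u

variable {X : Type u} [Group X] [Finite X]

/-- A conjugacy class is counted by the index of the centraliser. -/
theorem card_class (x : X) : Nat.card {y : X // ∃ g : X, g * x * g⁻¹ = y} = (centralizer ({x} : Set X)).index := by
  refine (Nat.card_eq_of_bijective (fun c : X ⧸ centralizer ({x} : Set X) =>
    Quotient.liftOn' c (fun g => (⟨g * x * g⁻¹, g, rfl⟩ : {y : X // ∃ g : X, g * x * g⁻¹ = y}))
      fun a b hab => Subtype.ext ?_) ⟨fun a b h => ?_, ?_⟩).symm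
  · have h := mem_centralizer_singleton_iff.1 (QuotientGroup.leftRel_apply.1 hab)
    calc a * x * a⁻¹ = a * (a⁻¹ * b * x) * (a⁻¹ * b)⁻¹ * a⁻¹ := by rw [h]; group
      _ = b * x * b⁻¹ := by group
  · induction a using QuotientGroup.induction_on with | _ a =>
    induction b using QuotientGroup.induction_on with | _ b =>
    have h' : a * x * a⁻¹ = b * x * b⁻¹ := congrArg Subtype.val h
    refine QuotientGroup.eq.2 (mem_centralizer_singleton_iff.2 ?_)
    calc a⁻¹ * b * x = a⁻¹ * (b * x * b⁻¹) * b := by group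
      _ = x * (a⁻¹ * b) := by rw [← h']; group
  · rintro ⟨y, g, rfl⟩
    exact ⟨(g : X ⧸ centralizer ({x} : Set X)), rfl⟩

/-- What is counted: `z = ε q`. -/
structure Count (L : Subgroup X) (t : X) (z : ℤ) : Prop where
  z_mod : z % 4 = 1
  z_big : 5 ≤ z ∨ z ≤ -3
  three : z = -3 → Nat.card X = 24
  index : 2 * ((centralizer ({t} : Set X)).index : ℤ) = z * (z + 1)
  cent_L : (Nat.card ↥(centralizer ({t} : Set X) ⊓ L) : ℤ) = |z - 1|
  invol : (Nat.card {x : X // orderOf x = 2} : ℤ) = z ^ 2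

variable {F : Type} [Field F] [Fintype F]

local notation "M2" => Matrix (Fin 2) (Fin 2) F
local notation "GL2" => GL (Fin 2) F
local notation "P2" => Matrix.ProjectiveSpecialLinearGroup (Fin 2) F

/-- The trace-zero invertible matrices. -/
def TZ (F : Type) [Field F] : Type := {v : F × F × F // v.1 * v.1 + v.2.1 * v.2.2 ≠ 0}

theorem card_singular : Nat.card {v : F × F × F // v.1 * v.1 + v.2.1 * v.2.2 = 0} = Fintype.card F ^ 2 := by
  classical
  rw [pow_two, ← Fintype.card_prod, ← Nat.card_eq_fintype_card]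
  refine Nat.card_eq_of_bijective (fun v => (if v.1.2.1 = 0 then (v.1.2.2, 0) else (v.1.1, v.1.2.1) : F × F))
    ⟨?_, ?_⟩
  · rintro ⟨⟨a, b, c⟩, h⟩ ⟨⟨a', b', c'⟩, h'⟩ e
    simp only at e h h'
    by_cases hb : b = 0 <;> by_cases hb' : b' = 0 <;> simp [hb, hb'] at e
    · have ha : a = 0 := by simpa [hb] using h
      have ha' : a' = 0 := by simpa [hb'] using h'
      subst hb hb' e ha ha'; rfl
    · exact absurd e.2.symm hb'
    · obtain ⟨rfl, rfl⟩ := e
      have : c = c' := mul_left_cancel₀ hb (by linear_combination h - h')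
      subst this; rfl
  · rintro ⟨x, y⟩
    by_cases hy : y = 0
    · exact ⟨⟨(0, 0, x), by simp⟩, by simp [hy]⟩
    · exact ⟨⟨(x, y, -(x * x) / y), by field_simp; ring⟩, by simp [hy]⟩

theorem card_TZ : Nat.card (TZ F) + Fintype.card F ^ 2 = Fintype.card F ^ 3 := by
  classical
  rw [← card_singular (F := F)]
  show Nat.card {v : F × F × F // _} + _ = _
  rw [add_comm, ← Nat.card_sum, Nat.card_congr (Equiv.sumCompl _), Nat.card_eq_fintype_card, Fintype.card_prod,
    Fintype.card_prod]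
  ring

/-- The matrix of a triple. -/
noncomputable def tzG (v : TZ F) : GL2 :=
  GeneralLinearGroup.mkOfDetNeZero !![v.1.1, v.1.2.1; v.1.2.2, -v.1.1] (by
    rw [det_fin_two_of]; exact fun h => v.2 (by linear_combination -h))

theorem coe_tzG (v : TZ F) : ((tzG v : GL2) : M2) = !![v.1.1, v.1.2.1; v.1.2.2, -v.1.1] := rfl

theorem trace_tzG (v : TZ F) : ((tzG v : GL2) : M2).trace = 0 := by simp [coe_tzG, trace_fin_two]

theorem nonScalar_tzG (hodd : Odd (Fintype.card F)) (v : TZ F) : NonScalar ((tzG v : GL2) : M2) := fun h => by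
  obtain ⟨h1, h2, h3⟩ := h
  simp [coe_tzG] at h1 h2 h3
  have : v.1.1 = 0 := (mul_eq_zero.1 (show (2 : F) * v.1.1 = 0 by linear_combination h3)).resolve_left
    (Linear.two_ne hodd)
  exact v.2 (by rw [this, h1]; ring)

theorem sq_tzG (v : TZ F) : (conjP (tzG v) : MulAut P2) * conjP (tzG v) = 1 := by
  rw [← map_mul]
  refine conjP_scalar (GeneralLinearGroup.mem_center_iff_val_mem_range_scalar.2
    ⟨v.1.1 * v.1.1 + v.1.2.1 * v.1.2.2, ?_⟩)
  rw [scalar_apply, Units.val_mul, coe_tzG]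
  ext i j
  fin_cases i <;> fin_cases j <;> simp [Matrix.mul_apply, Fin.sum_univ_two] <;> ring

theorem ne_one_tzG (hodd : Odd (Fintype.card F)) (v : TZ F) : (conjP (tzG v) : MulAut P2) ≠ 1 := fun h => by
  rw [← map_one (conjP : GL2 →* MulAut P2)] at h
  obtain ⟨c, hc⟩ := conjP_eq_iff h
  exact nonScalar_tzG hodd v (by rw [hc, Units.val_one]; simp)

/-- A normal self-centralising `PSL(2, q)`, `q ≥ 5`, in a group of 2-rank two with an involution outside. -/
theorem count_psl {L : Subgroup X} [L.Normal] (hodd : Odd (Fintype.card F)) (h5 : 5 ≤ Fintype.card F) (e : L ≃* P2)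
    (hC : centralizer (L : Set X) = ⊥) (hr : RankTwo X) {t w : X} (ht : orderOf t = 2) (htL : t ∈ L)
    (hw : orderOf w = 2) (hwL : w ∉ L) : ∃ z : ℤ, Count L t z := by
  classical
  set ψ : X →* MulAut P2 := (MulAut.congr e).toMonoidHom.comp MulAut.conjNormal with hψdef
  have hψL : ∀ (l : X) (hl : l ∈ L), ψ l = MulAut.conj (e ⟨l, hl⟩) := fun l hl => MulEquiv.ext fun m => by
    show e (MulAut.conjNormal l (e.symm m)) = e ⟨l, hl⟩ * m * (e ⟨l, hl⟩)⁻¹
    rw [show MulAut.conjNormal l (e.symm m) = ⟨l, hl⟩ * e.symm m * ⟨l, hl⟩⁻¹ from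
      Subtype.ext (by simp [MulAut.conjNormal_apply]), map_mul, map_mul, map_inv, e.apply_symm_apply]
  have hψi : Function.Injective ψ := by
    rw [injective_iff_map_eq_one]
    intro g hg
    rw [← Subgroup.mem_bot, ← hC]
    refine mem_centralizer_iff.2 fun x hx => ?_
    have h := MulEquiv.ext_iff.1 hg (e ⟨x, hx⟩)
    change e (MulAut.conjNormal g (e.symm (e ⟨x, hx⟩))) = e ⟨x, hx⟩ at h
    rw [e.symm_apply_apply] at h
    have h1 := congrArg Subtype.val (e.injective h)
    rw [MulAut.conjNormal_apply] at h1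
    exact (mul_inv_eq_iff_eq_mul.1 h1).symm
  have hinn : ∀ m, MulAut.conj m ∈ ψ.range := fun m => ⟨(e.symm m : L), by
    rw [hψL _ (e.symm m).2, Subtype.coe_eta, e.apply_symm_apply]⟩
  have hlin : ∀ x : X, orderOf x = 2 → ∃ g : GL2, ψ x = conjP g ∧ NonScalar (g : M2) ∧ (g : M2).trace = 0 := by
    intro x hx
    have h2 : ψ x * ψ x = 1 := by rw [← map_mul, mul_self_of_two hx, map_one]
    obtain ⟨g, hg⟩ := Linear.exists_linear hodd ψ.range hinn (by
      rintro _ ⟨a, rfl⟩ _ ⟨b, rfl⟩ _ ⟨c, rfl⟩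
      simp only [← map_mul, hψi.eq_iff, map_eq_one_iff ψ hψi]
      exact hr a b c) ⟨x, rfl⟩ h2
    refine ⟨g, hg, Linear.lin_facts (hg ▸ h2) fun h => ?_⟩
    rw [← hg, map_eq_one_iff ψ hψi] at h
    rw [h, orderOf_one] at hx
    omega
  obtain ⟨gw, hgw, -, -⟩ := hlin w hw
  have hdw : ¬ IsSquare (GeneralLinearGroup.det gw) := by
    rintro ⟨r, hr'⟩
    obtain ⟨m, hm⟩ := Cfsg.Lib.GenDihedral.inner_of_sq_det (g := gw) ⟨(r : F), congrArg Units.val hr'⟩
    refine hwL ?_
    rw [show w = (e.symm m : L) from hψi (by rw [hgw, hm, hψL _ (e.symm m).2, Subtype.coe_eta, e.apply_symm_apply])]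
    exact (e.symm m).2
  have hall : ∀ g : GL2, (conjP g : MulAut P2) ∈ ψ.range := fun g => by
    by_cases hg : IsSquare (GeneralLinearGroup.det g)
    · obtain ⟨r, hr'⟩ := hg
      obtain ⟨m, hm⟩ := Cfsg.Lib.GenDihedral.inner_of_sq_det (g := g) ⟨(r : F), congrArg Units.val hr'⟩
      exact hm ▸ hinn m
    · obtain ⟨r, hr'⟩ := nonsq_mul hg hdw
      obtain ⟨m, hm⟩ := Cfsg.Lib.GenDihedral.inner_of_sq_det (g := g * gw)
        ⟨(r : F), by rw [Units.val_mul, det_mul]; exact congrArg Units.val hr'⟩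
      refine (Subgroup.mul_mem_cancel_right _ (show (conjP gw : MulAut P2) ∈ ψ.range from ⟨w, hgw⟩)).1 ?_
      rw [← map_mul, hm]
      exact hinn m
  -- the involutions against the trace-zero matrices
  have hinv : ∀ v : TZ F, ∃ x : X, orderOf x = 2 ∧ ψ x = conjP (tzG v) := fun v => by
    obtain ⟨x, hx⟩ := hall (tzG v)
    refine ⟨x, orderOf_eq_prime (hψi ?_) fun h => ne_one_tzG hodd v ?_, hx⟩
    · rw [map_pow, hx, pow_two, sq_tzG, map_one]
    · rw [← hx, h, map_one]
  have hcount : Nat.card {x : X // orderOf x = 2} * Nat.card Fˣ = Nat.card (TZ F) := by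
    choose g hg hns htr using hlin
    rw [← Nat.card_prod]
    have hne : ∀ (x : X) (hx : orderOf x = 2) (c : Fˣ),
        ((c : F) * (g x hx : M2) 0 0) * ((c : F) * (g x hx : M2) 0 0) +
          ((c : F) * (g x hx : M2) 0 1) * ((c : F) * (g x hx : M2) 1 0) ≠ 0 := fun x hx c h => by
      have h11 : (g x hx : M2) 1 1 = -(g x hx : M2) 0 0 :=
        eq_neg_of_add_eq_zero_right (by have := htr x hx; rwa [trace_fin_two] at this)
      refine (GeneralLinearGroup.det (g x hx)).ne_zero ?_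
      show (g x hx : M2).det = 0
      rw [det_fin_two, h11]
      have h4 := (mul_eq_zero.1 (show ((c : F) * c) * (-((g x hx : M2) 0 0 * (g x hx : M2) 0 0) -
        (g x hx : M2) 0 1 * (g x hx : M2) 1 0) = 0 by linear_combination -h)).resolve_left
          (mul_ne_zero c.ne_zero c.ne_zero)
      linear_combination h4
    refine Nat.card_eq_of_bijective (fun p : {x : X // orderOf x = 2} × Fˣ =>
      (⟨((p.2 : F) * (g p.1.1 p.1.2 : M2) 0 0, (p.2 : F) * (g p.1.1 p.1.2 : M2) 0 1,
        (p.2 : F) * (g p.1.1 p.1.2 : M2) 1 0), hne _ p.1.2 p.2⟩ : TZ F)) ⟨?_, ?_⟩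
    · rintro ⟨⟨x, hx⟩, c⟩ ⟨⟨y, hy⟩, d⟩ h
      have h' := congrArg Subtype.val h
      simp only [Prod.mk.injEq] at h'
      obtain ⟨e1, e2, e3⟩ := h'
      have hm : (c : F) • (g x hx : M2) = (d : F) • (g y hy : M2) := by
        have hx11 : (g x hx : M2) 1 1 = -(g x hx : M2) 0 0 :=
          eq_neg_of_add_eq_zero_right (by have := htr x hx; rwa [trace_fin_two] at this)
        have hy11 : (g y hy : M2) 1 1 = -(g y hy : M2) 0 0 :=
          eq_neg_of_add_eq_zero_right (by have := htr y hy; rwa [trace_fin_two] at this)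
        ext i j
        fin_cases i <;> fin_cases j <;> simp [hx11, hy11, e1, e2, e3]
      have hxy : x = y := by
        refine hψi ?_
        rw [hg x hx, hg y hy, show g x hx = dG (c⁻¹ * d) (c⁻¹ * d) * g y hy from Units.ext ?_, map_mul,
          conjP_scalar (scal_mem _), one_mul]
        rw [Units.val_mul, coe_dG, show (!![((c⁻¹ * d : Fˣ) : F), 0; 0, ((c⁻¹ * d : Fˣ) : F)] : M2) =
          ((c⁻¹ * d : Fˣ) : F) • 1 by ext i j; fin_cases i <;> fin_cases j <;> simp, smul_mul_assoc, one_mul,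
          Units.val_mul, ← smul_smul, ← hm, smul_smul, Units.inv_mul, one_smul]
      subst hxy
      refine Prod.ext rfl (Units.ext ?_)
      obtain ⟨i, j, hij⟩ : ∃ i j, (g x hx : M2) i j ≠ 0 := by
        by_contra hcon
        push Not at hcon
        refine (GeneralLinearGroup.det (g x hx)).ne_zero ?_
        show (g x hx : M2).det = 0
        rw [det_fin_two, hcon, hcon, hcon, hcon]; ring
      exact mul_right_cancel₀ hij (congrFun (congrFun hm i) j)
    · intro v
      obtain ⟨x, hx, hψx⟩ := hinv v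
      obtain ⟨c, hc⟩ := conjP_eq_iff (hψx.symm.trans (hg x hx))
      have hc0 : c ≠ 0 := fun h0 => nonScalar_tzG hodd v (by rw [hc, h0]; simp)
      refine ⟨(⟨x, hx⟩, Units.mk0 c hc0), Subtype.ext ?_⟩
      have e0 := congrFun (congrFun hc 0) 0
      have e1 := congrFun (congrFun hc 0) 1
      have e2 := congrFun (congrFun hc 1) 0
      simp [coe_tzG] at e0 e1 e2
      simp [← e0, ← e1, ← e2]
  set q := Fintype.card F with hq
  obtain ⟨hC1, hC3⟩ := PSLFour.card_C (F := F) hodd
  have ho2 : orderOf (e ⟨t, htL⟩) = 2 := by rw [MulEquiv.orderOf_eq, Subgroup.orderOf_mk, ht]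
  have ec : centralizer ({(⟨t, htL⟩ : L)} : Set L) = (centralizer ({e ⟨t, htL⟩} : Set P2)).comap e.toMonoidHom := by
    ext y
    rw [GenDihedral.mem_cent, Subgroup.mem_comap, GenDihedral.mem_cent]
    simp only [MulEquiv.coe_toMonoidHom, ← map_mul, e.injective.eq_iff]
  have hD : TopData L := topData_of_psl hodd e hC hr
  have hidx : (centralizer ({t} : Set X)).index = (centralizer ({e ⟨t, htL⟩} : Set P2)).index := by
    rw [index_cent_eq htL ht hD.conj, ec, index_comap_of_surjective _ e.surjective]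
  have hcL : Nat.card ↥(centralizer ({t} : Set X) ⊓ L) = Nat.card (centralizer ({e ⟨t, htL⟩} : Set P2)) := by
    rw [← Nat.card_congr (subgroupOfEquivOfLe inf_le_right).toEquiv, inf_subgroupOf_right,
      show (centralizer ({t} : Set X)).subgroupOf L = centralizer ({(⟨t, htL⟩ : L)} : Set L) by
        ext y; rw [mem_subgroupOf, GenDihedral.mem_cent, GenDihedral.mem_cent, Subtype.ext_iff]; rfl,
      ec, ← card_map_of_injective (f := e.toMonoidHom) e.injective,
      Subgroup.map_comap_eq_self_of_surjective e.surjective]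
  have hcc := card_cent_psl hodd ho2
  have hmul : Nat.card P2 * 2 = q * (q ^ 2 - 1) := Cfsg.Lib.FourGW.card_P2_mul hodd
  rw [← (centralizer ({e ⟨t, htL⟩} : Set P2)).card_mul_index, hcc, ← hidx] at hmul
  rw [hcc] at hcL
  have hinvol : (Nat.card {x : X // orderOf x = 2} : ℤ) = (q : ℤ) ^ 2 := by
    have hu : (Nat.card Fˣ : ℤ) = (q : ℤ) - 1 := by
      rw [Nat.card_units, Nat.card_eq_fintype_card, ← hq, Nat.cast_sub (by omega)]; simp
    have hT := card_TZ (F := F)
    rw [← hcount, ← hq] at hT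
    have hT' : (Nat.card {x : X // orderOf x = 2} : ℤ) * Nat.card Fˣ + (q : ℤ) ^ 2 = (q : ℤ) ^ 3 := by
      exact_mod_cast hT
    rw [hu] at hT'
    refine mul_right_cancel₀ (show ((q : ℤ) - 1) ≠ 0 by omega) ?_
    linear_combination hT'
  have hmul' : (Nat.card ↥(PSLFour.C (F := F)) : ℤ) * (centralizer ({t} : Set X)).index * 2 =
      (q : ℤ) * ((q : ℤ) ^ 2 - 1) := by
    have := congrArg (Nat.cast : ℕ → ℤ) hmul
    rw [Nat.cast_mul, Nat.cast_mul, Nat.cast_mul, Nat.cast_sub (Nat.one_le_pow _ _ (by omega))] at this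
    simpa using this
  obtain ⟨k, hk⟩ := hodd
  rcases (show q % 4 = 1 ∨ q % 4 = 3 by omega) with h | h
  · refine ⟨(q : ℤ), by omega, by omega, fun h' => absurd h' (by omega), ?_, ?_, hinvol⟩
    · rw [hC1 h, Nat.cast_sub (by omega)] at hmul'
      refine mul_left_cancel₀ (show ((q : ℤ) - 1) ≠ 0 by omega) ?_
      push_cast at hmul'
      linear_combination hmul'
    · rw [hcL, hC1 h, abs_of_nonneg (by omega), Nat.cast_sub (by omega)]; simp [hq]
  · refine ⟨-(q : ℤ), by omega, by omega, fun h' => absurd h' (by omega), ?_, ?_, by rw [hinvol]; ring⟩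
    · rw [hC3 h] at hmul'
      refine mul_left_cancel₀ (show ((q : ℤ) + 1) ≠ 0 by omega) ?_
      push_cast at hmul'
      linear_combination hmul'
    · rw [hcL, hC3 h, abs_of_nonpos (by omega)]; push_cast; ring

end Cfsg.Lib.GWD.TopCount
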