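import Cfsg.Agent.GWDihedral.Maximal.Spec
import Cfsg.Agent.GWDihedral.Maximal.TopCount
import Cfsg.Agent.GWDihedral.Maximal.ArithCases
import Cfsg.Agent.GWDihedral.Ident.Degrees
import Cfsg.Agent.GWDihedral.Proper.Top
import Cfsg.Agent.FourGroupGW.MaxCent.Index

/-!
Simple groups with dihedral Sylow 2-subgroups: the top of a maximal subgroup over `C(t)` rotating only the first
four-group is `PGL(2, q)` or `S₄` up to field automorphisms; its parameters satisfy `MaxArith.Data`.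
-/

set_option autoImplicit false
set_option linter.unusedSectionVars false
set_option linter.style.haveILetI false
set_option maxHeartbeats 800000

namespace Cfsg.Lib.GWD

open Subgroup
open Cfsg.Lib.GenDihedral (mul_self_of_two inv_of_two)
open Cfsg.Lib.GW (Core qmap qmap_eq qmap_eq_one core_le le_normalizer_core card_image)

universe u

variable {G : Type u} [Group G] [Finite G]

/-- A maximal subgroup over `C` rotating the first four-group only. -/
structure Fused (F : Frame G) (M : Subgroup G) : Prop where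
  hm : Minimal G
  max : IsCoatom M
  le : F.C ≤ M
  rot₁ : Rot F.four₁ M
  rot₂ : ¬ Rot F.four₂ M

namespace Fused

variable {F : Frame G} {M : Subgroup G} (h : Fused F M)
include h

theorem U₁ : F.four₁.U ≤ M := h.rot₁.1
theorem U₂ : F.four₂.U ≤ M :=
  (F.four₂.U_le_iff.2 ⟨F.t_mem_S, mul_mem F.r_mem_S F.s_mem_S⟩).trans (F.S_le_C.trans h.le)
theorem S_le : F.S ≤ M := F.S_le_C.trans h.le

/-- The image of `t` in the top. -/
def tq : M ⧸ Cfsg.oddCore M := qmap M ⟨F.t, h.S_le F.t_mem_S⟩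
/-- The image of `r`. -/
def rq : M ⧸ Cfsg.oddCore M := qmap M ⟨F.r, h.S_le F.r_mem_S⟩
/-- The image of `r s`. -/
def wq : M ⧸ Cfsg.oddCore M := qmap M ⟨F.r * F.s, h.S_le (mul_mem F.r_mem_S F.s_mem_S)⟩
/-- The image of the Sylow subgroup. -/
def Sq (h : Fused F M) : Subgroup (M ⧸ Cfsg.oddCore M) := (F.S.subgroupOf M).map (qmap M)

theorem S_inj {x : G} (hx : x ∈ F.S) (hc : x ∈ Core M) : x = 1 := by
  have h0 : F.S ⊓ Core M = ⊥ := inf_eq_bot_of_coprime (by
    rw [F.card_S]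
    exact (Nat.coprime_two_left.2 (Cfsg.Lib.GW.Frame.odd_card_core M)).pow_left _)
  exact mem_bot.1 (h0 ▸ ⟨hx, hc⟩)

theorem card_Sq : Nat.card h.Sq = 2 ^ F.n := by
  have e := card_image (H := M) (S := F.S) h.S_le
  rw [F.card_S, show F.S ⊓ Core M = ⊥ from (eq_bot_iff_forall _).2 fun x hx => h.S_inj hx.1 hx.2, card_bot,
    one_mul] at e
  exact e.symm

theorem exists_sylow : ∃ P : Sylow 2 (M ⧸ Cfsg.oddCore M), (P : Subgroup (M ⧸ Cfsg.oddCore M)) = h.Sq := by
  haveI : Fact (Nat.Prime 2) := ⟨Nat.prime_two⟩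
  refine ⟨(F.sylow.subtype (N := M) (by rw [F.coe_sylow]; exact h.S_le)).mapSurjective
    (QuotientGroup.mk'_surjective (Cfsg.oddCore M)), ?_⟩
  show Subgroup.map _ ((F.sylow.subtype (N := M) _ : Sylow 2 M) : Subgroup M) = _
  rw [Sylow.coe_subtype, F.coe_sylow]
  rfl

/-- An element of `S` whose image is central in the image of `S` is `1` or `t`. -/
theorem central {x : G} (hx : x ∈ F.S) (hc : ∀ y ∈ h.Sq, qmap M ⟨x, h.S_le hx⟩ * y = y * qmap M ⟨x, h.S_le hx⟩) :
    x = 1 ∨ x = F.t := by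
  have hcomm : ∀ y ∈ F.S, x * y = y * x := fun y hy => by
    have h1 := hc _ ⟨⟨y, h.S_le hy⟩, mem_subgroupOf.2 hy, rfl⟩
    rw [← map_mul, ← map_mul, qmap_eq] at h1
    exact inv_mul_eq_one.1 (h.S_inj (mul_mem (inv_mem (mul_mem hx hy)) (mul_mem hy hx)) h1)
  have hno : ∀ v : G, v ∈ F.S → v ∉ zpowers F.s → x = 1 ∨ x = F.t ∨ x = v ∨ x = F.t * v := fun v hv hvs =>
    F.S_cent hv hvs hx (hcomm v hv)
  rcases hno F.r F.r_mem_S F.r_not_mem_zpowers with e | e | e | e
  · exact Or.inl e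
  · exact Or.inr e
  all_goals
    exfalso
    rcases hno (F.r * F.s) (mul_mem F.r_mem_S F.s_mem_S) F.rs_not_mem_zpowers with e' | e' | e' | e'
    all_goals
      refine F.r_not_mem_zpowers ?_
      have ht : F.t ∈ zpowers F.s := pow_mem (mem_zpowers _) _
      have h1 := e.symm.trans e'
      first
        | (rw [h1]; exact one_mem _)
        | (rw [h1]; exact ht)
        | (rw [show F.r = F.t⁻¹ * (F.t * F.r) by group, h1]
           exact mul_mem (inv_mem ht) (by first | exact one_mem _ | exact ht))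
        | exfalso
    all_goals
      -- two different reflections
      have hs : F.s = 1 ∨ F.s = F.t := by
        have ht2 : F.t * F.t = 1 := mul_self_of_two F.t_order
        first
          | exact Or.inl (mul_eq_left.1 h1.symm)
          | exact Or.inl (mul_eq_left.1 (mul_left_cancel h1).symm)
          | (refine Or.inr ?_
             have h2 : F.r * (F.t * F.s) = F.r := by
               rw [← mul_assoc, ← F.r_comm, mul_assoc]
               first
                 | exact h1.symm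
                 | (rw [show F.t * (F.r * F.s) = F.t⁻¹ * (F.r * F.s) by rw [inv_of_two F.t_order], ← h1,
                      inv_mul_cancel_left])
             rw [mul_eq_left, mul_eq_one_iff_inv_eq, inv_of_two F.t_order] at h2
             exact h2.symm)
      have h3 := F.three_le
      have hle := Nat.pow_le_pow_right two_pos (show 2 ≤ F.n - 1 by omega)
      rcases hs with e'' | e''
      · have := F.s_order; rw [e'', orderOf_one] at this; omega
      · have := F.s_order; rw [e'', F.t_order] at this; omega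

theorem tq_order : orderOf h.tq = 2 := (F.four₁.four_q h.U₁).z2
theorem rq_order : orderOf h.rq = 2 := (F.four₁.four_q h.U₁).t2
theorem wq_order : orderOf h.wq = 2 := (F.four₂.four_q h.U₂).t2

section top

variable {L : Subgroup (M ⧸ Cfsg.oddCore M)} (D : TopData L)
include D

theorem inL : h.tq ∈ L ∧ h.rq ∈ L ∧ h.wq ∉ L := by
  obtain ⟨ht, hr⟩ := (rot_iff F.four₁ h.U₁ D).1 h.rot₁
  exact ⟨ht, hr, fun hw => h.rot₂ ((rot_iff F.four₂ h.U₂ D).2 ⟨ht, hw⟩)⟩

/-- In the image of `S` an element lies in `L` or its product with `r s` does. -/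
theorem parity {b : M ⧸ Cfsg.oddCore M} (hb : b ∈ h.Sq) :
    (b ∈ L ∨ b * h.wq ∈ L) ∧ (orderOf b = 2 → b ∉ L → ∃ g : M ⧸ Cfsg.oddCore M, g * h.wq * g⁻¹ = b) := by
  haveI := D.normal
  obtain ⟨htL, hrL, hwL⟩ := h.inL D
  obtain ⟨⟨u, hu⟩, huS, rfl⟩ := hb
  have huS' : u ∈ F.S := mem_subgroupOf.1 huS
  set σ : M ⧸ Cfsg.oddCore M := qmap M ⟨F.s, h.S_le F.s_mem_S⟩ with hσ
  have hw : h.wq = h.rq * σ := by rw [wq, rq, hσ, ← map_mul]; rfl
  have hrel : h.rq * σ * h.rq⁻¹ = σ⁻¹ := by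
    rw [rq, hσ, ← map_inv, ← map_mul, ← map_mul, ← map_inv]
    exact congrArg _ (Subtype.ext F.rel)
  have hr2 : h.rq⁻¹ = h.rq := inv_of_two h.rq_order
  -- `s ^ 2` lies in `L`
  have hσr : σ * h.rq = h.rq * σ⁻¹ := by
    rw [← hrel, show h.rq * (h.rq * σ * h.rq⁻¹) = h.rq * h.rq * σ * h.rq⁻¹ by group,
      mul_self_of_two h.rq_order, one_mul, hr2]
  have hs2 : σ ^ 2 ∈ L := by
    have h1 := mul_mem (Subgroup.Normal.conj_mem inferInstance _ hrL σ) (inv_mem hrL)
    have e : σ * h.rq * σ⁻¹ * h.rq⁻¹ = σ ^ 2 := by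
      calc σ * h.rq * σ⁻¹ * h.rq⁻¹ = (h.rq * σ * h.rq⁻¹)⁻¹ * (h.rq * σ * h.rq⁻¹)⁻¹ := by rw [hσr]; group
        _ = σ ^ 2 := by rw [hrel, inv_inv, pow_two]
    rwa [e] at h1
  have heven : ∀ k : ℤ, σ ^ (2 * k) ∈ L := fun k => by
    rw [_root_.zpow_mul, zpow_two, ← pow_two]; exact zpow_mem hs2 k
  have hconj : ∀ k : ℤ, σ ^ (-k) * h.rq * σ ^ k = h.rq * σ ^ (2 * k) := fun k => by
    have h1 : h.rq * σ ^ k * h.rq⁻¹ = σ ^ (-k) := by rw [← conj_zpow, hrel, inv_zpow, zpow_neg]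
    rw [← h1, two_mul, zpow_add]; group
  rcases F.S_cases huS' with hz | hz
  · obtain ⟨i, hi⟩ := mem_zpowers_iff.1 hz
    have hb' : qmap M ⟨u, hu⟩ = σ ^ i := by
      rw [hσ, ← map_zpow]; exact congrArg _ (Subtype.ext (by simp [hi]))
    rw [hb']
    rcases Int.even_or_odd' i with ⟨k, rfl | rfl⟩
    · exact ⟨Or.inl (heven k), fun _ hn => absurd (heven k) hn⟩
    · refine ⟨Or.inr ?_, fun ho hn => absurd ?_ hn⟩
      · rw [hw, zpow_add, zpow_one, mul_assoc, show σ * (h.rq * σ) = h.rq by rw [← mul_assoc, hσr]; group]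
        exact mul_mem (heven k) hrL
      · -- an involution in the cyclic part is `t`
        have h2 := mul_self_of_two ho
        rw [← zpow_add] at h2
        have h3 : (F.s ^ (2 * k + 1 + (2 * k + 1))) = 1 := by
          refine h.S_inj (zpow_mem F.s_mem_S _) ?_
          rw [hσ, ← map_zpow, qmap_eq_one] at h2
          simpa using h2
        have hd : ((2 ^ (F.n - 1) : ℕ) : ℤ) ∣ 2 * k + 1 + (2 * k + 1) := by
          rw [← F.s_order]; exact orderOf_dvd_iff_zpow_eq_one.2 h3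
        have h4 : (4 : ℤ) ∣ ((2 ^ (F.n - 1) : ℕ) : ℤ) := by
          have h3 := F.three_le
          exact_mod_cast (Nat.pow_dvd_pow 2 (show 2 ≤ F.n - 1 by omega) : 2 ^ 2 ∣ 2 ^ (F.n - 1))
        have := h4.trans hd
        omega
  · obtain ⟨i, hi⟩ := mem_zpowers_iff.1 hz
    have hb' : qmap M ⟨u, hu⟩ = σ ^ i * h.rq := by
      rw [hσ, rq, ← map_zpow, ← map_mul]
      exact congrArg _ (Subtype.ext (by
        simp [hi, mul_assoc, mul_self_of_two F.r_order]))
    have hb2 : qmap M ⟨u, hu⟩ = h.rq * σ ^ (-i) := by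
      rw [hb']
      have h1 : h.rq * σ ^ (-i) * h.rq⁻¹ = σ ^ i := by rw [← conj_zpow, hrel, inv_zpow, zpow_neg, inv_inv]
      rw [← h1]; group
    rw [hb2]
    rcases Int.even_or_odd' (-i) with ⟨k, e | e⟩ <;> rw [e]
    · exact ⟨Or.inl (mul_mem hrL (heven k)), fun _ hn => absurd (mul_mem hrL (heven k)) hn⟩
    · refine ⟨Or.inr ?_, fun _ _ => ⟨σ ^ (-k), ?_⟩⟩
      · rw [hw, zpow_add, zpow_one, show h.rq * (σ ^ (2 * k) * σ) * (h.rq * σ) =
          h.rq * σ ^ (2 * k) * (σ * h.rq) * σ by group, hσr]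
        simpa [mul_assoc] using mul_mem (mul_mem hrL (heven k)) hrL
      · rw [hw, zpow_neg, inv_inv, ← mul_assoc,
          show (σ ^ k)⁻¹ * h.rq * σ * σ ^ k = σ ^ (-k) * h.rq * σ ^ k * σ by group, hconj, zpow_add, zpow_one]
        group

/-- The involutions outside `L` are conjugate to the image of `r s`. -/
theorem outer {x : M ⧸ Cfsg.oddCore M} (hx : orderOf x = 2) (hxL : x ∉ L) :
    ∃ g : M ⧸ Cfsg.oddCore M, g * h.wq * g⁻¹ = x := by
  haveI := D.normal
  haveI : Fact (Nat.Prime 2) := ⟨Nat.prime_two⟩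
  obtain ⟨P, hP⟩ := h.exists_sylow
  obtain ⟨Q, hQ⟩ := (IsPGroup.of_card (n := 1) (by rw [Nat.card_zpowers, hx, pow_one]) :
    IsPGroup 2 (zpowers x)).exists_le_sylow
  obtain ⟨g, hg⟩ := MulAction.exists_smul_eq (M ⧸ Cfsg.oddCore M) Q P
  have hmem : g * x * g⁻¹ ∈ h.Sq := by
    rw [← hP, ← hg]
    exact ⟨x, hQ (mem_zpowers x), rfl⟩
  obtain ⟨g', hg'⟩ := (h.parity D hmem).2 (by rw [← MulAut.conj_apply, MulEquiv.orderOf_eq, hx]) fun hl => hxL (by
    have := Subgroup.Normal.conj_mem inferInstance _ hl g⁻¹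
    rwa [show g⁻¹ * (g * x * g⁻¹) * g⁻¹⁻¹ = x by group] at this)
  exact ⟨g⁻¹ * g', by rw [show g⁻¹ * g' * h.wq * (g⁻¹ * g')⁻¹ = g⁻¹ * (g' * h.wq * g'⁻¹) * g by group, hg']; group⟩

/-- The image of `S` meets `L` in a subgroup of index two. -/
theorem relIndex_L : L.relIndex h.Sq = 2 := by
  obtain ⟨-, -, hwL⟩ := h.inL D
  refine relIndex_eq_two_iff.2 ⟨h.wq, ⟨_, mem_subgroupOf.2 (mul_mem F.r_mem_S F.s_mem_S), rfl⟩, fun b hb => ?_⟩
  rcases (h.parity D hb).1 with h1 | h1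
  · exact Or.inr ⟨h1, fun h2 => hwL ((Subgroup.mul_mem_cancel_left L h1).1 h2)⟩
  · exact Or.inl ⟨h1, fun h2 => hwL ((Subgroup.mul_mem_cancel_left L h2).1 h1)⟩

/-- No outer involution centralises a Sylow 2-subgroup of the top. -/
theorem not_full : ¬ 2 ^ F.n ∣ Nat.card (centralizer ({h.wq} : Set (M ⧸ Cfsg.oddCore M))) := by
  haveI := D.normal
  haveI : Fact (Nat.Prime 2) := ⟨Nat.prime_two⟩
  intro hd
  obtain ⟨htL, -, hwL⟩ := h.inL D
  obtain ⟨P, hP⟩ := h.exists_sylow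
  obtain ⟨K, hK⟩ := Sylow.exists_subgroup_card_pow_prime 2 hd
  let K' : Subgroup (M ⧸ Cfsg.oddCore M) := K.map (Subgroup.subtype _)
  have hK' : Nat.card K' = 2 ^ F.n := by rw [card_map_of_injective (Subgroup.subtype_injective _), hK]
  obtain ⟨Q, hQ⟩ := (IsPGroup.of_card hK' : IsPGroup 2 K').exists_le_sylow
  have hQP : Nat.card (Q : Subgroup (M ⧸ Cfsg.oddCore M)) = Nat.card h.Sq := by
    rw [← hP]; exact Nat.card_congr (Q.equiv P).toEquiv
  have hKQ : K' = Q := eq_of_le_of_card_ge hQ (by rw [hQP, h.card_Sq, hK'])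
  obtain ⟨g, hg⟩ := MulAction.exists_smul_eq (M ⧸ Cfsg.oddCore M) Q P
  have hc : ∀ y ∈ h.Sq, g * h.wq * g⁻¹ * y = y * (g * h.wq * g⁻¹) := by
    intro y hy
    rw [← hP, ← hg] at hy
    obtain ⟨z, hz, rfl⟩ := hy
    rw [← hKQ] at hz
    obtain ⟨z', -, rfl⟩ := hz
    have h1 := mem_centralizer_singleton_iff.1 z'.2
    show g * h.wq * g⁻¹ * (MulAut.conj g (z' : M ⧸ Cfsg.oddCore M)) = MulAut.conj g (z' : _) * _
    rw [MulAut.conj_apply, conj_mul, conj_mul, h1]
  have hmem : g * h.wq * g⁻¹ ∈ h.Sq := by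
    have hle : zpowers (g * h.wq * g⁻¹) ≤ normalizer (h.Sq : Set (M ⧸ Cfsg.oddCore M)) :=
      (zpowers_le.2 (mem_centralizer_iff.2 fun y hy => (hc y hy).symm)).trans (centralizer_le_normalizer _)
    have hp : IsPGroup 2 ↥(zpowers (g * h.wq * g⁻¹) ⊔ h.Sq) := (IsPGroup.of_card (n := 1) (by
      rw [Nat.card_zpowers, ← MulAut.conj_apply, MulEquiv.orderOf_eq, h.wq_order, pow_one])).to_sup_of_normal_right'
      (IsPGroup.of_card h.card_Sq) hle
    rw [← hP] at hp
    have := P.is_maximal' hp le_sup_right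
    rw [hP] at this
    exact this.le (mem_sup_left (mem_zpowers _))
  obtain ⟨⟨u, hu⟩, huS, hue⟩ := hmem
  refine hwL ?_
  have hut : h.tq = g * h.wq * g⁻¹ := by
    rcases h.central (mem_subgroupOf.1 huS) (fun y hy => by rw [hue]; exact hc y hy) with e | e
    · exfalso
      have h1 : g * h.wq * g⁻¹ = 1 := by
        rw [← hue, show (⟨u, hu⟩ : M) = 1 from Subtype.ext e, map_one]
      have := h.wq_order
      rw [conj_eq_one_iff.1 h1, orderOf_one] at this
      omega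
    · rw [← hue, tq]; exact congrArg _ (Subtype.ext e.symm)
  have := Subgroup.Normal.conj_mem inferInstance _ (hut ▸ htL : g * h.wq * g⁻¹ ∈ L) g⁻¹
  rwa [show g⁻¹ * (g * h.wq * g⁻¹) * g⁻¹⁻¹ = h.wq by group] at this

end top

/-- The centraliser of `t` in the top is the image of `C = O S`, `O` has image of odd order. -/
theorem cent_card :
    Nat.card (centralizer ({h.tq} : Set (M ⧸ Cfsg.oddCore M))) =
      2 ^ F.n * Nat.card ↥((F.O.subgroupOf M).map (qmap M)) ∧
    Nat.card F.O = Nat.card ↥(Core M ⊓ centralizer {F.t}) * Nat.card ↥((F.O.subgroupOf M).map (qmap M)) := by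
  have hMC : M ⊓ F.four₁.C = F.C := inf_eq_right.2 h.le
  have hC := card_image (H := M) (S := M ⊓ F.four₁.C) inf_le_left
  rw [F.four₁.map_cent_t h.U₁, hMC] at hC
  have hO := card_image (H := M) (S := F.O) (F.O_le.trans h.le)
  have e1 : F.C ⊓ Core M = Core M ⊓ centralizer {F.t} := inf_comm _ _
  have e2 : F.O ⊓ Core M = Core M ⊓ centralizer {F.t} := by
    refine le_antisymm (le_inf inf_le_right (inf_le_left.trans F.O_le)) fun x hx => ⟨?_, hx.1⟩
    exact F.mem_O.2 ⟨mem_centralizer_singleton_iff.1 hx.2,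
      Cfsg.Lib.GW.Frame.odd_orderOf (Cfsg.Lib.GW.Frame.odd_card_core M) hx.1⟩
  rw [e1] at hC
  rw [e2] at hO
  refine ⟨?_, hO⟩
  have hCO : Nat.card F.C = 2 ^ F.n * Nat.card F.O := by
    obtain ⟨k, hk⟩ : ∃ k, F.n = k + 2 := ⟨F.n - 2, by have := F.three_le; omega⟩
    rw [F.card_C, Frame.m, hk, Nat.add_sub_cancel, pow_add]; ring
  refine Nat.eq_of_mul_eq_mul_left (Nat.card_pos (α := ↥(Core M ⊓ centralizer {F.t}))) ?_
  show _ * Nat.card (centralizer ({F.four₁.tb h.U₁} : Set (M ⧸ Cfsg.oddCore M))) = _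
  rw [← hC, hCO, hO]; ring

/-- What the arithmetic needs from the top. -/
structure Parameters (z : ℤ) (T : ℕ) : Prop where
  z_mod : z % 4 = 1
  z_big : 5 ≤ z ∨ z ≤ -3
  three : z = -3 → (Core M).relIndex M = 24
  Q : 2 * ((centralizer ({h.tq} : Set (M ⧸ Cfsg.oddCore M))).index : ℤ) = z * (z + 1)
  Q' : 2 * ((centralizer ({h.wq} : Set (M ⧸ Cfsg.oddCore M))).index : ℤ) = z * (z - 1)
  T_pos : 0 < T
  torus : (2 : ℤ) ^ (F.n - 1) * T = |z - 1|
  imgs₁ : Nat.card ↥((F.O.subgroupOf M).map (qmap M)) =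
    Nat.card ↥(((M ⊓ F.four₁.W).subgroupOf M).map (qmap M)) * T
  imgs₂ : Nat.card ↥((F.O.subgroupOf M).map (qmap M)) =
    Nat.card ↥(((M ⊓ F.four₂.W).subgroupOf M).map (qmap M)) * T

theorem relIndex_core : (Core M).relIndex M = Nat.card (M ⧸ Cfsg.oddCore M) := by
  rw [Subgroup.relIndex, ← index_eq_card]
  congr 1
  ext x
  rw [mem_subgroupOf]
  exact ⟨fun ⟨y, hy, e⟩ => (Subtype.ext e : y = x) ▸ hy, fun hx => ⟨x, hx, rfl⟩⟩

theorem parameters : ∃ z T, h.Parameters z T := by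
  haveI : Finite (M ⧸ Cfsg.oddCore M) := inferInstance
  classical
  have hn := F.three_le
  obtain ⟨hcard, hOcard⟩ := h.cent_card
  let X := M ⧸ Cfsg.oddCore M
  rcases h.hm.shape M h.max.1 with h2 | ⟨P, hP, hK, hCP, hi⟩ | ⟨L, hN, hT, h4, hCN⟩
  · exact absurd h.rot₁ (not_rot_of_two F.four₁ h2)
  · -- the top is `S₄`
    obtain ⟨L, D, -⟩ := topData_of_klein hK hCP hi
    haveI := D.normal
    obtain ⟨htL, hrL, hwL⟩ := h.inL D
    have hX : Nat.card (M ⧸ Cfsg.oddCore M) = 4 * P.index := by rw [← P.card_mul_index, hK.card_four]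
    have h8 : 2 ^ F.n ∣ 4 * P.index := by rw [← hX, ← h.card_Sq]; exact card_subgroup_dvd_card _
    obtain ⟨hn3, hi6⟩ : F.n = 3 ∧ P.index = 6 := by
      have h8' : 8 ∣ 4 * P.index := (Nat.pow_dvd_pow 2 hn).trans h8
      have hi6 : P.index = 6 := by rcases hi with e | e <;> rw [e] at h8' ⊢; omega
      refine ⟨?_, hi6⟩
      rw [hi6] at h8
      have : 2 ^ F.n ≤ 24 := Nat.le_of_dvd (by norm_num) h8
      by_contra hne
      have h16 : 2 ^ 4 ∣ 24 := (Nat.pow_dvd_pow 2 (show 4 ≤ F.n by omega)).trans h8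
      omega
    rw [hi6] at hX
    -- the centraliser of `t`
    have hCt : Nat.card (centralizer ({h.tq} : Set (M ⧸ Cfsg.oddCore M))) = 8 := by
      have hd := card_subgroup_dvd_card (centralizer ({h.tq} : Set (M ⧸ Cfsg.oddCore M)))
      rw [hcard, hn3, hX] at hd
      rw [hcard, hn3]
      have hO1 : Nat.card ↥((F.O.subgroupOf M).map (qmap M)) ∣ 3 :=
        Nat.dvd_of_mul_dvd_mul_left (show 0 < 8 by norm_num) (by simpa using hd)
      rcases (Nat.dvd_prime Nat.prime_three).1 hO1 with e | e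
      · rw [e]; norm_num
      · exfalso
        have htop : centralizer ({h.tq} : Set (M ⧸ Cfsg.oddCore M)) = ⊤ :=
          eq_top_of_card_eq _ (by rw [hcard, hn3, e, hX]; norm_num)
        obtain ⟨g, hg, hgt, -⟩ := h.rot₁.2
        have h1 : qmap M ⟨g, hg⟩ * h.tq * (qmap M ⟨g, hg⟩)⁻¹ = h.rq := by
          rw [tq, rq, ← map_inv, ← map_mul, ← map_mul]; exact congrArg _ (Subtype.ext hgt)
        have hgC : qmap M ⟨g, hg⟩ ∈ centralizer ({h.tq} : Set (M ⧸ Cfsg.oddCore M)) := by rw [htop]; exact mem_top _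
        rw [mem_centralizer_singleton_iff.1 hgC, mul_inv_cancel_right] at h1
        exact (F.four₁.four_q h.U₁).ne_zt h1
    have hO : Nat.card ↥((F.O.subgroupOf M).map (qmap M)) = 1 := by
      rw [hcard, hn3] at hCt; omega
    have hW : ∀ V : Cfsg.Lib.GW.Frame G, V.O = F.O → Nat.card ↥((F.O.subgroupOf M).map (qmap M)) =
        Nat.card ↥(((M ⊓ V.W).subgroupOf M).map (qmap M)) * 1 := fun V hV => by
      rw [hO, mul_one]
      refine (Nat.dvd_one.1 (hO ▸ card_dvd_of_le (map_mono ?_))).symm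
      exact fun x hx => mem_subgroupOf.2 (hV ▸ V.W_le (mem_subgroupOf.1 hx).2)
    -- the centraliser of `r s`
    set Cw := centralizer ({h.wq} : Set (M ⧸ Cfsg.oddCore M)) with hCw
    have hCw4 : Nat.card Cw = 4 := by
      have h4 : 4 ∣ Nat.card Cw := by
        have hF := F.four₂.four_q h.U₂
        rw [← hF.card]
        refine card_dvd_of_le ?_
        rw [show Cfsg.Lib.GenDihedral.Vg (F.four₂.tb h.U₂) (F.four₂.ub h.U₂) =
          closure ({F.four₂.tb h.U₂, F.four₂.ub h.U₂} : Set (M ⧸ Cfsg.oddCore M)) from rfl, closure_le]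
        rintro x (rfl | rfl)
        · exact mem_centralizer_singleton_iff.2 hF.comm
        · exact mem_centralizer_singleton_iff.2 rfl
      have h24 : Nat.card Cw ∣ 24 := by rw [show 24 = 4 * 6 from rfl, ← hX]; exact card_subgroup_dvd_card _
      have hno8 := h.not_full D
      rw [hn3] at hno8
      have hno12 : Nat.card Cw ≠ 12 := fun e => by
        have hi2 : Cw.index = 2 := by
          have := Cw.card_mul_index; rw [e, hX] at this; omega
        haveI := Subgroup.normal_of_index_eq_two hi2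
        have hcom : ∀ a b : M ⧸ Cfsg.oddCore M, a * b * a⁻¹ * b⁻¹ ∈ Cw := fun a b => by
          rw [Subgroup.mul_mem_iff_of_index_two hi2, Subgroup.mul_mem_iff_of_index_two hi2,
            Subgroup.mul_mem_iff_of_index_two hi2, inv_mem_iff, inv_mem_iff]
          tauto
        have ht' : F.r * F.s * F.r⁻¹ * F.s⁻¹ = F.t := by
          have h4 := pow_orderOf_eq_one F.s
          rw [F.s_order, hn3, show (2 : ℕ) ^ (3 - 1) = 4 from rfl] at h4
          rw [F.rel, Frame.t, hn3, show F.s⁻¹ * F.s⁻¹ = (F.s ^ 4)⁻¹ * F.s ^ 2 by group, h4, inv_one, one_mul]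
          rfl
        have htC : h.tq ∈ Cw := by
          have := hcom (qmap M ⟨F.r, h.S_le F.r_mem_S⟩) (qmap M ⟨F.s, h.S_le F.s_mem_S⟩)
          rw [← map_inv, ← map_inv, ← map_mul, ← map_mul, ← map_mul] at this
          convert this using 1
          exact congrArg _ (Subtype.ext ht'.symm)
        obtain ⟨g, hg, hgt, -⟩ := h.rot₁.2
        have hrC : h.rq ∈ Cw := by
          have := Subgroup.Normal.conj_mem inferInstance _ htC (qmap M ⟨g, hg⟩)
          rw [tq, ← map_inv, ← map_mul, ← map_mul] at this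
          convert this using 1
          exact congrArg _ (Subtype.ext hgt.symm)
        have hc := mem_centralizer_singleton_iff.1 hrC
        rw [rq, wq, ← map_mul, ← map_mul, qmap_eq] at hc
        have hc' := inv_mul_eq_one.1 (h.S_inj (mul_mem (inv_mem (mul_mem F.r_mem_S (mul_mem F.r_mem_S F.s_mem_S)))
          (mul_mem (mul_mem F.r_mem_S F.s_mem_S) F.r_mem_S)) hc)
        have hrel := F.rel
        rw [mul_left_cancel (a := F.r) (show F.r * (F.r * F.s) = F.r * (F.s * F.r) by rw [hc', mul_assoc]),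
          mul_inv_cancel_right] at hrel
        have h2 : F.s ^ 2 = 1 := by rw [pow_two]; exact mul_eq_one_iff_eq_inv.2 hrel
        have := Nat.le_of_dvd two_pos (orderOf_dvd_of_pow_eq_one h2)
        rw [F.s_order, hn3] at this
        omega
      have : Nat.card Cw ≤ 24 := Nat.le_of_dvd (by norm_num) h24
      rcases h4 with ⟨c, hc⟩
      rw [hc] at h24 hno8 hno12 this ⊢
      have : c ≤ 6 := by omega
      interval_cases c <;> norm_num at *
    refine ⟨-3, 1, by norm_num, Or.inr le_rfl, fun _ => by rw [h.relIndex_core, hX], ?_, ?_, one_pos, ?_,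
      hW F.four₁ rfl, hW F.four₂ rfl⟩
    · have := (centralizer ({h.tq} : Set (M ⧸ Cfsg.oddCore M))).card_mul_index
      rw [hCt, hX] at this
      omega
    · have := Cw.card_mul_index
      rw [hCw4, hX] at this
      rw [hCw] at this
      omega
    · rw [hn3]; norm_num
  · rcases hT with ⟨K, i, j, hodd, h5, ⟨e⟩⟩ | ⟨⟨e⟩⟩
    swap
    · obtain ⟨hN', D⟩ := topData_of_alt e hCN (h.hm.rankTwo_q F.four₁ h.U₁)
      subst hN'
      exact absurd (mem_top _) (h.inL D).2.2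
    haveI := hN
    have hr := h.hm.rankTwo_q F.four₁ h.U₁
    have D := topData_of_psl hodd e hCN hr
    have KL := l2Like_of_psl hodd e hCN hr
    obtain ⟨htL, hrL, hwL⟩ := h.inL D
    obtain ⟨z, hz⟩ := TopCount.count_psl hodd h5 e hCN hr h.tq_order htL h.wq_order hwL
    obtain ⟨τ, hτ⟩ := D.torus _ h.tq_order htL
    -- the outer class
    have hQ' : 2 * ((centralizer ({h.wq} : Set X)).index : ℤ) = z * (z - 1) := by
      have hsum : Nat.card {x : X // orderOf x = 2} =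
          (centralizer ({h.tq} : Set X)).index + (centralizer ({h.wq} : Set X)).index := by
        rw [← TopCount.card_class, ← TopCount.card_class, ← Nat.card_sum]
        have hin : ∀ x : X, orderOf x = 2 ∧ x ∈ L ↔ ∃ g : X, g * h.tq * g⁻¹ = x := fun x =>
          ⟨fun ⟨h1, h2⟩ => (D.conj _ _ h.tq_order h1 htL h2).imp fun g hg => hg.2, fun ⟨g, hg⟩ => hg ▸
            ⟨by rw [← MulAut.conj_apply, MulEquiv.orderOf_eq, h.tq_order], D.normal.conj_mem _ htL g⟩⟩
        have hout : ∀ x : X, orderOf x = 2 ∧ x ∉ L ↔ ∃ g : X, g * h.wq * g⁻¹ = x := fun x =>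
          ⟨fun ⟨h1, h2⟩ => h.outer D h1 h2, fun ⟨g, hg⟩ => hg ▸
            ⟨by rw [← MulAut.conj_apply, MulEquiv.orderOf_eq, h.wq_order], fun h' => hwL (by
              have := D.normal.conj_mem _ h' g⁻¹
              rwa [show g⁻¹ * (g * h.wq * g⁻¹) * g⁻¹⁻¹ = h.wq by group] at this)⟩⟩
        refine Nat.card_congr ((Equiv.sumCompl fun x : {x : X // orderOf x = 2} => (x : X) ∈ L).symm.trans
          (Equiv.sumCongr ((Equiv.subtypeSubtypeEquivSubtypeInter (fun x : X => orderOf x = 2) (· ∈ L)).trans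
            (Equiv.subtypeEquivRight hin))
            ((Equiv.subtypeSubtypeEquivSubtypeInter (fun x : X => orderOf x = 2) (· ∉ L)).trans
            (Equiv.subtypeEquivRight hout))))
      have h1 := hz.invol
      rw [hsum, Nat.cast_add] at h1
      linear_combination 2 * h1 - hz.index
    -- the torus is inverted by every involution centralising `t`
    have hτT : ∀ a ∈ zpowers τ, ∀ v : X, orderOf v = 2 → v ≠ h.tq → v * h.tq = h.tq * v → v * a * v⁻¹ = a⁻¹ :=
      fun a ha v hv hne hc => KL.tor_inv h.tq_order hv hne hc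
        (zpowers_le.2 ((KL.mem_tor h.tq_order).2 ⟨hτ.mem, hτ.comm, hτ.odd⟩) ha)
    have himg : ∀ (V : Cfsg.Lib.GW.Frame G) (hU : V.U ≤ M), V.tb hU = h.tq → V.O = F.O →
        Nat.card ↥((F.O.subgroupOf M).map (qmap M)) =
          Nat.card ↥(((M ⊓ V.W).subgroupOf M).map (qmap M)) * orderOf τ := by
      intro V hU htb hVO
      obtain ⟨T, hT, hc⟩ := h.hm.card_imgO V hU D (τ := τ) (htb ▸ hτ.gen) hτ.odd (htb ▸ hτ.comm)
      have hF := V.four_q hU
      rw [show T = zpowers τ from le_antisymm (fun g hg => ((hT g).1 hg).1) fun g hg => (hT g).2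
        ⟨hg, hτT g hg _ hF.t2 (htb ▸ hF.ne_zt.symm) (htb ▸ hF.comm.symm)⟩, Nat.card_zpowers, hVO,
        inf_eq_right.2 (F.O_le.trans h.le)] at hc
      exact hc
    -- the torus against the 2-part of the centraliser in `L`
    have htor : (2 : ℤ) ^ (F.n - 1) * (orderOf τ : ℤ) = |z - 1| := by
      haveI : Fact (Nat.Prime 2) := ⟨Nat.prime_two⟩
      rw [← hz.cent_L]
      set Ct := centralizer ({h.tq} : Set X)
      set O' := (F.O.subgroupOf M).map (qmap M)
      have hOC : O' ≤ Ct := by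
        rintro _ ⟨x, hx, rfl⟩
        rw [mem_centralizer_singleton_iff, tq, ← map_mul, ← map_mul]
        exact congrArg _ (Subtype.ext (F.mem_O.1 (mem_subgroupOf.1 hx)).1)
      have hnorm : Ct ≤ normalizer (O' : Set X) := by
        show centralizer ({F.four₁.tb h.U₁} : Set X) ≤ _
        rw [← F.four₁.map_cent_t h.U₁]
        rintro _ ⟨x, hx, rfl⟩
        refine le_normalizer_map (qmap M) ⟨x, ?_, rfl⟩
        refine mem_normalizer_iff.2 fun y => ?_
        rw [mem_subgroupOf, mem_subgroupOf]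
        exact mem_normalizer_iff.1 (F.C_le_normalizer_O (mem_subgroupOf.1 hx).2) _
      haveI : (O'.subgroupOf Ct).Normal := normal_subgroupOf_of_le_normalizer hnorm
      have hOi : O'.relIndex Ct = 2 ^ F.n := by
        have := (O'.subgroupOf Ct).card_mul_index
        rw [Nat.card_congr (subgroupOfEquivOfLe hOC).toEquiv, hcard, mul_comm (2 ^ F.n)] at this
        exact Nat.eq_of_mul_eq_mul_left Nat.card_pos this
      have hτO : τ ∈ O' := by
        have hτC : τ ∈ Ct := mem_centralizer_singleton_iff.2 hτ.comm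
        have h1 := Subgroup.pow_index_mem (O'.subgroupOf Ct) ⟨τ, hτC⟩
        rw [show (O'.subgroupOf Ct).index = 2 ^ F.n from hOi, mem_subgroupOf, SubmonoidClass.coe_pow] at h1
        obtain ⟨i, hi⟩ := exists_pow_eq_self_of_coprime (n := 2 ^ F.n) (x := τ)
          ((Nat.coprime_two_left.2 hτ.odd).pow_left F.n)
        exact hi ▸ pow_mem h1 i
      have hOL : O' ⊓ L = zpowers τ := le_antisymm (fun a ha => hτ.gen a ha.2 (by
          obtain ⟨⟨y, hy'⟩, hy, rfl⟩ := ha.1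
          exact (F.mem_O.1 (mem_subgroupOf.1 hy)).2.of_dvd_nat
            ((orderOf_map_dvd _ _).trans (Subgroup.orderOf_mk y hy').dvd))
          (mem_centralizer_singleton_iff.1 (hOC ha.1)))
        (zpowers_le.2 ⟨hτO, hτ.mem⟩)
      -- `|C ⊓ L| = T * 2 ^ j`
      have hd : (O' ⊓ L).relIndex (Ct ⊓ L) ∣ 2 ^ F.n := by
        have h1 := Subgroup.relIndex_dvd_index_of_normal (O'.subgroupOf Ct) ((Ct ⊓ L).subgroupOf Ct)
        rw [show (O'.subgroupOf Ct).index = 2 ^ F.n from hOi, relIndex_subgroupOf inf_le_left,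
          ← inf_relIndex_right] at h1
        rwa [show O' ⊓ (Ct ⊓ L) = O' ⊓ L by rw [← inf_assoc, inf_eq_left.2 hOC]] at h1
      obtain ⟨k, -, hk⟩ := (Nat.dvd_prime_pow Nat.prime_two).1 hd
      have hc : Nat.card ↥(Ct ⊓ L) = orderOf τ * 2 ^ k := by
        rw [← Nat.card_zpowers, ← hOL, ← hk, ← relIndex_bot_left, ← relIndex_bot_left (O' ⊓ L),
          relIndex_mul_relIndex ⊥ _ _ bot_le (inf_le_inf_right L hOC)]
      -- the 2-part
      obtain ⟨P, hP⟩ := h.exists_sylow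
      have hSC : h.Sq ≤ Ct := by
        rintro _ ⟨x, hx, rfl⟩
        rw [mem_centralizer_singleton_iff, tq, ← map_mul, ← map_mul]
        exact congrArg _ (Subtype.ext (F.S_comm_t (mem_subgroupOf.1 hx)))
      have h1 : 2 ^ (F.n - 1) ∣ orderOf τ * 2 ^ k := by
        rw [← hc]
        have h2 : Nat.card ↥(h.Sq ⊓ L) * 2 = 2 ^ F.n := by
          have h3 := relIndex_mul_relIndex ⊥ (h.Sq ⊓ L) h.Sq bot_le inf_le_left
          rwa [relIndex_bot_left, relIndex_bot_left, inf_relIndex_left, h.relIndex_L D, h.card_Sq] at h3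
        rw [show F.n = F.n - 1 + 1 by omega, pow_succ] at h2
        rw [← Nat.eq_of_mul_eq_mul_right two_pos h2]
        exact card_dvd_of_le (inf_le_inf_right L hSC)
      have hk1 : F.n - 1 ≤ k := (Nat.pow_dvd_pow_iff_le_right one_lt_two).1
        (((Nat.coprime_two_left.2 hτ.odd).pow_left _).dvd_of_dvd_mul_left h1)
      have hk2 : k < F.n := by
        by_contra hge
        push Not at hge
        have hdL : 2 ^ F.n ∣ Nat.card L := ((Nat.pow_dvd_pow 2 hge).trans (Dvd.intro_left _ hc.symm)).trans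
          (card_dvd_of_le inf_le_right)
        obtain ⟨K', hK'⟩ := Sylow.exists_subgroup_card_pow_prime 2 hdL
        have hK'' : Nat.card ↥(K'.map L.subtype) = 2 ^ F.n := by
          rw [card_map_of_injective L.subtype_injective, hK']
        obtain ⟨Q, hQ⟩ := (IsPGroup.of_card hK'' : IsPGroup 2 ↥(K'.map L.subtype)).exists_le_sylow
        have hKQ : K'.map L.subtype = Q := eq_of_le_of_card_ge hQ (by
          rw [hK'', ← h.card_Sq, ← hP]; exact (Nat.card_congr (Q.equiv P).toEquiv).le)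
        obtain ⟨g, hg⟩ := MulAction.exists_smul_eq X Q P
        have hwS : h.wq ∈ h.Sq := ⟨_, mem_subgroupOf.2 (mul_mem F.r_mem_S F.s_mem_S), rfl⟩
        rw [← hP, ← hg] at hwS
        obtain ⟨y, hy, hye⟩ := hwS
        rw [← hKQ] at hy
        exact hwL (hye ▸ D.normal.conj_mem y (map_subtype_le _ hy) g)
      rw [hc, show k = F.n - 1 by omega]
      push_cast; ring
    exact ⟨z, orderOf τ, hz.z_mod, hz.z_big, fun e' => by rw [h.relIndex_core, hz.three e'], hz.index, hQ',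
      orderOf_pos τ, htor, himg F.four₁ h.U₁ rfl rfl, himg F.four₂ h.U₂ rfl rfl⟩

/-- The relations of `MaxArith.Data`. -/
theorem arith : ∃ z ξ D E j : ℤ, ((z = -3 → (Core M).relIndex M = 24) ∧
    MaxArith.Data z j M.index F.w₁ F.w₂ ξ D E) := by
  obtain ⟨z, T, hz⟩ := h.parameters
  obtain ⟨ξ, D, E, hd⟩ := F.degreeSpec h.hm
  obtain ⟨hcard, hOcard⟩ := h.cent_card
  set X := M ⧸ Cfsg.oddCore M
  set dt := Nat.card ↥(Core M ⊓ centralizer {F.t}) with hdt
  set dw := Nat.card ↥(Core M ⊓ centralizer {F.r * F.s}) with hdw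
  set a₁ := Nat.card ↥(Core M ⊓ centralizer (F.four₁.U : Set G))
  set a₂ := Nat.card ↥(Core M ⊓ centralizer (F.four₂.U : Set G))
  set O' := Nat.card ↥((F.O.subgroupOf M).map (qmap M))
  set W₁ := Nat.card ↥(((M ⊓ F.four₁.W).subgroupOf M).map (qmap M))
  set W₂ := Nat.card ↥(((M ⊓ F.four₂.W).subgroupOf M).map (qmap M))
  have hodd := Cfsg.Lib.GW.Frame.odd_card_core M
  have hf₁ := F.four₁.card_formula hodd (h.U₁.trans (le_normalizer_core M))
  obtain ⟨-, g, hg, hgt, hgu⟩ := h.rot₁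
  rw [← hgu, F.four₁.core_inf_cent_conj h.U₁ hg, ← hgt, F.four₁.core_inf_cent_conj h.U₁ hg] at hf₁
  have hf₂ := F.four₂.card_formula hodd (h.U₂.trans (le_normalizer_core M))
  -- `r s` and `t r s` are conjugate under `S`
  obtain ⟨k, hk⟩ : ∃ k, F.n = k + 3 := ⟨F.n - 3, by have := F.three_le; omega⟩
  have hconj : F.s ^ 2 ^ k * (F.r * F.s) * (F.s ^ 2 ^ k)⁻¹ = F.t * (F.r * F.s) := by
    have ht : F.t = F.s ^ 2 ^ k * F.s ^ 2 ^ k := by
      rw [Frame.t, hk, ← pow_add]; congr 1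
      rw [show k + 3 - 2 = k + 1 by omega, pow_succ]; ring
    have hr : F.r * (F.s ^ 2 ^ k)⁻¹ * F.r⁻¹ = F.s ^ 2 ^ k := by rw [← conj_inv, ← conj_pow, F.rel, inv_pow, inv_inv]
    calc F.s ^ 2 ^ k * (F.r * F.s) * (F.s ^ 2 ^ k)⁻¹
        = F.s ^ 2 ^ k * (F.r * (F.s ^ 2 ^ k)⁻¹ * F.r⁻¹) * F.r * F.s := by group
      _ = F.t * (F.r * F.s) := by rw [hr, ht]; group
  rw [show F.four₂.t * F.four₂.u = F.t * (F.r * F.s) from rfl, ← hconj,
    F.four₁.core_inf_cent_conj h.U₁ (pow_mem (h.S_le F.s_mem_S) _)] at hf₂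
  change Nat.card ↥(Core M) * a₁ ^ 2 = dt * dt * dt at hf₁
  change Nat.card ↥(Core M) * a₂ ^ 2 = dt * dw * dw at hf₂
  -- the two `W`
  have hw : ∀ V : Cfsg.Lib.GW.Frame G, V.U ≤ M → V.O = F.O → Nat.card V.W =
      Nat.card ↥(Core M ⊓ centralizer (V.U : Set G)) * Nat.card ↥(((M ⊓ V.W).subgroupOf M).map (qmap M)) := by
    intro V hU hV
    have hWM : M ⊓ V.W = V.W := inf_eq_right.2 (V.W_le.trans (hV.le.trans (F.O_le.trans h.le)))
    have := card_image (H := M) (S := M ⊓ V.W) inf_le_left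
    rw [show M ⊓ V.W ⊓ Core M = Core M ⊓ centralizer (V.U : Set G) from ?_] at this
    · rw [← this, hWM]
    refine le_antisymm (fun x hx => ⟨hx.2, V.W_le_centralizer_U hx.1.2⟩) fun x hx => ?_
    obtain ⟨hc1, hc2⟩ := V.mem_centralizer_U.1 hx.2
    exact ⟨⟨core_le M hx.1, V.mem_W.2 ⟨(h.hm.mem_O V).2 ⟨hc1, Cfsg.Lib.GW.Frame.odd_orderOf hodd hx.1⟩, hc2⟩⟩,
      hx.1⟩
  have hw₁ : F.w₁ = a₁ * W₁ := hw F.four₁ h.U₁ rfl
  have hw₂ : F.w₂ = a₂ * W₂ := hw F.four₂ h.U₂ rfl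
  have hW12 : W₁ = W₂ := Nat.eq_of_mul_eq_mul_right hz.T_pos (hz.imgs₁.symm.trans hz.imgs₂)
  -- the order of `M`
  have hM : Nat.card M = Nat.card ↥(Core M) * Nat.card X := by
    have := card_image (H := M) (S := M) le_rfl
    rwa [inf_eq_right.2 (core_le M), subgroupOf_self,
      map_top_of_surjective _ (QuotientGroup.mk'_surjective _), card_top] at this
  have hX : Nat.card X = 2 ^ F.n * O' * (centralizer ({h.tq} : Set X)).index := by
    rw [← hcard]; exact (Subgroup.card_mul_index _).symm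
  -- the ratio
  obtain ⟨j, hj⟩ : ∃ j : ℕ, Nat.card F.C = j * (dw * Nat.card (centralizer ({h.wq} : Set X))) := by
    obtain ⟨x, hx⟩ := isConj_iff.1 (h.hm.one_class F.t_order F.rs_order)
    have e : centralizer ({F.r * F.s} : Set G) = F.C.map (MulAut.conj x).toMonoidHom := by
      ext y
      rw [Subgroup.mem_map_equiv, MulAut.conj_symm_apply, mem_centralizer_singleton_iff, F.mem_C, ← hx]
      constructor
      · intro hy
        calc x⁻¹ * y * x * F.t = x⁻¹ * (y * (x * F.t * x⁻¹)) * x := by group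
          _ = F.t * (x⁻¹ * y * x) := by rw [hy]; group
      · intro hy
        calc y * (x * F.t * x⁻¹) = x * (x⁻¹ * y * x * F.t) * x⁻¹ := by group
          _ = x * F.t * x⁻¹ * y := by rw [hy]; group
    -- the frame at `r s`
    let V : Cfsg.Lib.GW.Frame G :=
      { t := F.four₂.u, u := F.four₂.t * F.four₂.u, σ := F.four₂.σ
        t_order := F.four₂.u_order, u_order := F.four₂.v_order
        t_ne_u := fun e => F.four₂.t_ne_one (mul_eq_right.1 e.symm)
        comm := by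
          rw [← mul_assoc, ← F.four₂.comm, mul_assoc]
        σ_t := F.four₂.σ_u
        σ_u := F.four₂.σ_v.trans (by rw [F.four₂.comm, ← mul_assoc, F.four₂.u_sq, one_mul]) }
    have hVU : V.U ≤ M := V.U_le_iff.2 ⟨(F.four₂.U_le_iff.1 h.U₂).2,
      mul_mem (F.four₂.U_le_iff.1 h.U₂).1 (F.four₂.U_le_iff.1 h.U₂).2⟩
    have hVC : V.C = centralizer ({F.r * F.s} : Set G) := rfl
    have hc := card_image (H := M) (S := M ⊓ V.C) inf_le_left
    rw [V.map_cent_t hVU] at hc
    have hd1 : Nat.card ↥(M ⊓ V.C) ∣ Nat.card F.C := by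
      rw [← card_map_of_injective (K := F.C) (f := (MulAut.conj x).toMonoidHom) (MulAut.conj x).injective, ← e, ← hVC]
      exact card_dvd_of_le inf_le_right
    rw [hc, show M ⊓ V.C ⊓ Core M = Core M ⊓ centralizer {F.r * F.s} from ?_] at hd1
    · obtain ⟨j, hj⟩ := hd1
      exact ⟨j, by rw [hj, mul_comm]; rfl⟩
    · rw [hVC, inf_assoc, inf_comm M, inf_comm (centralizer _), inf_assoc, inf_comm (centralizer _),
        ← inf_assoc, inf_eq_left.2 (core_le M)]
  have hCt : Nat.card F.C = 2 ^ F.n * (dt * O') := by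
    rw [← hOcard]
    obtain ⟨i, hi⟩ : ∃ i, F.n = i + 2 := ⟨F.n - 2, by have := F.three_le; omega⟩
    rw [F.card_C, Frame.m, hi, Nat.add_sub_cancel, pow_add]; ring
  -- cast
  have hpos : ∀ {S : Subgroup G}, (0 : ℤ) < (Nat.card S : ℤ) := Nat.cast_pos.2 Nat.card_pos
  have hdtp : (0 : ℤ) < dt := hpos
  have hdwp : (0 : ℤ) < dw := hpos
  have ha₂ : (0 : ℤ) < a₂ := hpos
  have ha₁ : (0 : ℤ) < a₁ := hpos
  have hW : (0 : ℤ) < W₂ := Nat.cast_pos.2 Nat.card_pos
  have hO'p : (0 : ℤ) < O' := Nat.cast_pos.2 Nat.card_pos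
  set Qt := (centralizer ({h.tq} : Set X)).index
  set Qw := (centralizer ({h.wq} : Set X)).index
  have hrel : (dt : ℤ) * a₂ = dw * a₁ := by
    have h3 : ((dt : ℤ) * a₂) ^ 2 * dt = ((dw : ℤ) * a₁) ^ 2 * dt := by
      have e1 : (Nat.card ↥(Core M) : ℤ) * a₁ ^ 2 = dt * dt * dt := by exact_mod_cast hf₁
      have e2 : (Nat.card ↥(Core M) : ℤ) * a₂ ^ 2 = dt * dw * dw := by exact_mod_cast hf₂
      linear_combination (-(a₂ : ℤ) ^ 2) * e1 + (a₁ : ℤ) ^ 2 * e2
    exact (pow_left_inj₀ (by positivity) (by positivity) two_ne_zero).1 (mul_right_cancel₀ hdtp.ne' h3)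
  have hratio : (F.w₁ : ℤ) * (z - 1) = F.w₂ * j * (z + 1) := by
    have e1 : (dt : ℤ) * Qw = j * dw * Qt := by
      have h1 : (Nat.card (centralizer ({h.wq} : Set X)) : ℤ) * Qw = 2 ^ F.n * O' * Qt := by
        exact_mod_cast (Subgroup.card_mul_index _).trans hX
      have h2 : (2 ^ F.n * (dt * O') : ℤ) = j * (dw * Nat.card (centralizer ({h.wq} : Set X))) := by
        exact_mod_cast hCt.symm.trans hj
      refine mul_left_cancel₀ (show (2 : ℤ) ^ F.n * O' ≠ 0 by positivity) ?_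
      linear_combination (Qw : ℤ) * h2 + (j : ℤ) * dw * h1
    have hz0 : z ≠ 0 := by rcases hz.z_big with h' | h' <;> omega
    have e2 : (dt : ℤ) * (z - 1) = j * dw * (z + 1) := by
      refine mul_left_cancel₀ hz0 ?_
      linear_combination 2 * e1 - (dt : ℤ) * hz.Q' + (j : ℤ) * dw * hz.Q
    refine mul_left_cancel₀ hdwp.ne' ?_
    rw [hw₁, hw₂, hW12]
    push_cast
    linear_combination (W₂ : ℤ) * a₂ * e2 - (W₂ : ℤ) * (z - 1) * hrel
  have hI : (Nat.card G : ℤ) = M.index * (Nat.card ↥(Core M) * (2 ^ F.n * O' * Qt)) := by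
    rw [← M.card_mul_index, hM, hX]; push_cast; ring
  -- `|M| w₁² T² = 2 ^ n |O|³ Q`
  have hMo : (Nat.card ↥(Core M) : ℤ) * (2 ^ F.n * O' * Qt) * (F.w₁ : ℤ) ^ 2 * (T : ℤ) ^ 2 =
      2 ^ F.n * (Nat.card F.O : ℤ) ^ 3 * Qt := by
    have e1 : (Nat.card ↥(Core M) : ℤ) * a₁ ^ 2 = dt * dt * dt := by exact_mod_cast hf₁
    have e2 : (O' : ℤ) = W₁ * T := by exact_mod_cast hz.imgs₁
    rw [hw₁, hOcard]
    push_cast
    rw [e2]
    linear_combination (2 ^ F.n * (W₁ : ℤ) ^ 3 * T ^ 3 * Qt) * e1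
  have hz1 : (z - 1) ^ 2 = ((2 : ℤ) ^ (F.n - 1) * T) ^ 2 := by rw [hz.torus, sq_abs]
  obtain ⟨i, hi⟩ : ∃ i, F.n = i + 2 := ⟨F.n - 2, by have := F.three_le; omega⟩
  rw [hi, show i + 2 - 1 = i + 1 by omega] at hz1
  rw [hi] at hMo hI
  have hm' : (F.m : ℤ) = 2 ^ i * Nat.card F.O := by rw [Frame.m, hi, Nat.add_sub_cancel]; push_cast; ring
  have hdne : ∀ x : ℤ, 3 ≤ |x| → x ≠ 0 := fun x hx e => by rw [e, abs_zero] at hx; omega
  have hord : (Nat.card G : ℤ) * (ξ - 1) ^ 2 * ((F.w₁ : ℤ) * F.w₂) ^ 2 =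
      8 * (F.m : ℤ) ^ 3 * ((F.w₁ : ℤ) + F.w₂) ^ 2 * (ξ * (ξ + 1)) := by exact_mod_cast hd.order
  have hsec : (Nat.card G : ℤ) * (ξ * D * E + D * E + ξ * E + ξ * D) * ((F.w₁ : ℤ) * F.w₂) =
      32 * (F.m : ℤ) ^ 3 * (ξ * D * E) := by
    have := hd.second
    have hξ0 : (ξ : ℚ) ≠ 0 := by exact_mod_cast hdne ξ hd.three_le.1
    have hD0 : (D : ℚ) ≠ 0 := by exact_mod_cast hdne D hd.three_le.2.1
    have hE0 : (E : ℚ) ≠ 0 := by exact_mod_cast hdne E hd.three_le.2.2
    field_simp at this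
    have h' : (Nat.card G : ℚ) * (ξ * D * E + D * E + ξ * E + ξ * D) * ((F.w₁ : ℚ) * F.w₂) =
        32 * (F.m : ℚ) ^ 3 * (ξ * D * E) := by linear_combination this
    exact_mod_cast h'
  have hOp : (0 : ℤ) < Nat.card F.O := hpos
  have hw1p : (0 : ℤ) < F.w₁ := by exact_mod_cast F.w₁_pos
  have hw2p : (0 : ℤ) < F.w₂ := by exact_mod_cast F.w₂_pos
  have hTp : (0 : ℤ) < T := by exact_mod_cast hz.T_pos
  refine ⟨z, ξ, D, E, j, hz.three, ?_⟩
  have hj0 : 0 < j := by
    rcases Nat.eq_zero_or_pos j with e | e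
    · rw [e, zero_mul] at hj; exact absurd hj Nat.card_pos.ne'
    · exact e
  have hI7 : Odd M.index ∧ 7 ≤ M.index := by
    haveI : Fact (Nat.Prime 2) := ⟨Nat.prime_two⟩
    have hodd' : Odd M.index := Nat.not_even_iff_odd.1 fun he => F.sylow.not_dvd_index
      (he.two_dvd.trans (index_dvd_of_le (by rw [F.coe_sylow]; exact h.S_le)))
    refine ⟨hodd', ?_⟩
    have h5 := Cfsg.Lib.GW.MaxCent.five_le_index_of_simple h.hm.simple h.hm.nonab h.max.1
    by_contra hlt
    have h55 : M.index = 5 := by obtain ⟨k, hk⟩ := hodd'; omega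
    haveI := h.hm.simple
    have hN : M.normalCore = ⊥ := (IsSimpleGroup.eq_bot_or_eq_top_of_normal _ inferInstance).resolve_right
      fun e => h.max.1 (top_le_iff.1 (e ▸ M.normalCore_le))
    have hinj : Function.Injective (MulAction.toPermHom G (G ⧸ M)) := by
      rw [← MonoidHom.ker_eq_bot_iff, ← Subgroup.normalCore_eq_ker, hN]
    classical
    letI := Fintype.ofFinite (G ⧸ M)
    set π := MulAction.toPermHom G (G ⧸ M)
    have hsign : ∀ g, π g ∈ alternatingGroup (G ⧸ M) := by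
      rcases IsSimpleGroup.eq_bot_or_eq_top_of_normal (Equiv.Perm.sign.comp π).ker inferInstance with e | e
      · exact absurd ⟨⟨fun a b => (MonoidHom.ker_eq_bot_iff _).1 e (by rw [map_mul, map_mul, mul_comm])⟩⟩ h.hm.nonab
      · exact fun g => Equiv.Perm.mem_alternatingGroup.2 (MonoidHom.mem_ker.1 (e ▸ mem_top g :
          g ∈ (Equiv.Perm.sign.comp π).ker))
    haveI : Nontrivial (G ⧸ M) := Finite.one_lt_card_iff_nontrivial.1 (by rw [← index_eq_card, h55]; norm_num)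
    have hd' := card_dvd_of_injective (π.codRestrict (alternatingGroup (G ⧸ M)) hsign) fun a b e =>
      hinj (congrArg Subtype.val e)
    have h60 := two_mul_nat_card_alternatingGroup (α := G ⧸ M)
    rw [Nat.card_perm, ← index_eq_card, h55, show Nat.factorial 5 = 120 from rfl] at h60
    rw [show Nat.card (alternatingGroup (G ⧸ M)) = 60 by omega] at hd'
    have h8 : 8 ∣ 60 := (((Nat.pow_dvd_pow 2 F.three_le).trans
      (F.card_S ▸ card_subgroup_dvd_card _)).trans hd')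
    omega
  refine ⟨hz.z_mod, hz.z_big, Nat.cast_pos.2 hj0, ?_, ?_, hw1p, hw2p, hratio, ?_, ?_, ?_, ?_, ?_, ?_, hd.sum,
    ?_, ?_⟩
  · exact_mod_cast F.four₁.odd_card_W
  · exact_mod_cast F.four₂.odd_card_W
  · exact_mod_cast hI7.1
  · exact_mod_cast hI7.2
  · have := hd.mod_eight; omega
  · have h1 := hd.mod_eight; have h2 := hd.ne_one; omega
  · have := hd.three_le.2.1; rw [le_abs] at this; omega
  · have := hd.three_le.2.2; rw [le_abs] at this; omega
  · -- order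
    rw [hI, hm'] at hord
    refine mul_left_cancel₀ (show (4 : ℤ) * (2 ^ i) * (Nat.card F.O : ℤ) ^ 3 * ((F.w₂ : ℤ) ^ 2) ≠ 0 by positivity) ?_
    have hL : (z - 1) * ((F.w₁ : ℤ) + F.w₂) = F.w₂ * ((1 + j) * z + (j - 1)) := by linear_combination hratio
    have hL2 : (z - 1) ^ 2 * ((F.w₁ : ℤ) + F.w₂) ^ 2 = (F.w₂ : ℤ) ^ 2 * ((1 + j) * z + (j - 1)) ^ 2 := by
      rw [← mul_pow, ← mul_pow, hL]
    have hz' : (z - 1) ^ 2 = 4 * (2 ^ i) ^ 2 * (T : ℤ) ^ 2 := by rw [hz1, pow_succ]; ring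
    have hQ := hz.Q
    push_cast at hMo
    linear_combination (2 * (T : ℤ) ^ 2) * hord - (2 * (M.index : ℤ) * (ξ - 1) ^ 2 * (F.w₂ : ℤ) ^ 2) * hMo -
      (4 * 2 ^ i * (Nat.card F.O : ℤ) ^ 3 * (M.index : ℤ) * (ξ - 1) ^ 2 * (F.w₂ : ℤ) ^ 2) * hQ -
      (4 * 2 ^ i * (Nat.card F.O : ℤ) ^ 3 * ξ * (ξ + 1) * ((F.w₁ : ℤ) + F.w₂) ^ 2) * hz' +
      (4 * 2 ^ i * (Nat.card F.O : ℤ) ^ 3 * ξ * (ξ + 1)) * hL2
  · -- second
    rw [hI, hm'] at hsec
    refine mul_left_cancel₀ (show (4 : ℤ) * (2 ^ i) * (Nat.card F.O : ℤ) ^ 3 * F.w₂ ≠ 0 by positivity) ?_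
    have hz' : (z - 1) ^ 2 = 4 * (2 ^ i) ^ 2 * (T : ℤ) ^ 2 := by rw [hz1, pow_succ]; ring
    have hQ := hz.Q
    push_cast at hMo
    have hz0 : z + 1 ≠ 0 := by rcases hz.z_big with h' | h' <;> omega
    refine mul_left_cancel₀ hz0 ?_
    linear_combination (2 * (T : ℤ) ^ 2 * F.w₁) * hsec -
      (2 * (M.index : ℤ) * F.w₂ * (ξ * D * E + D * E + ξ * E + ξ * D)) * hMo -
      (4 * 2 ^ i * (Nat.card F.O : ℤ) ^ 3 * (M.index : ℤ) * F.w₂ * (ξ * D * E + D * E + ξ * E + ξ * D)) * hQ -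
      (16 * 2 ^ i * (Nat.card F.O : ℤ) ^ 3 * (ξ * D * E) * F.w₁) * hz' +
      (16 * 2 ^ i * (Nat.card F.O : ℤ) ^ 3 * (ξ * D * E) * (z - 1)) * hratio

end Fused

end Cfsg.Lib.GWD
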