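import Cfsg.Agent.FourGroupGW.Basic

/-!
A fixed subgroup of index at most five of an involution acting on a group of odd order is normal.
-/

set_option autoImplicit false
set_option linter.unusedSectionVars false

namespace Cfsg.Lib.GWD

open Subgroup

universe u

variable {G : Type u} [Group G] [Finite G]

/-- The fixed part of an involution centralises the inverted part when that part is small. -/
theorem comm_of_small {K : Subgroup G} (hK : Odd (Nat.card K)) {v : G} {w x : G} (hw : w ∈ K) (hx : x ∈ K)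
    (hfix : v * w * v⁻¹ = w) (hinv : v * x * v⁻¹ = x⁻¹)
    (hsmall : ({y : G | y ∈ K ∧ v * y * v⁻¹ = y⁻¹} : Set G).ncard ≤ 5) : w * x * w⁻¹ = x := by
  classical
  by_contra hne
  set I : Set G := {y : G | y ∈ K ∧ v * y * v⁻¹ = y⁻¹} with hI
  set x₁ := w * x * w⁻¹ with hx₁
  set x₂ := w * x₁ * w⁻¹ with hx₂
  have hodd : ∀ {y : G}, y ∈ K → y * y = 1 → y = 1 := fun {y} hy h =>
    mem_bot.1 (Cfsg.Lib.GenDihedral.mem_of_sq (W := ⊥) (Cfsg.Lib.GW.Frame.odd_orderOf hK hy) (mem_bot.2 h))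
  have hwo := Cfsg.Lib.GW.Frame.odd_orderOf hK hw
  -- what is fixed by the square of `w` is fixed by `w`
  have hsq : ∀ {y : G}, w * (w * y * w⁻¹) * w⁻¹ = y → w * y * w⁻¹ = y := by
    intro y h
    have h2 : Commute (w * w) y := by
      show w * w * y = y * (w * w)
      calc w * w * y = w * (w * y * w⁻¹) * w⁻¹ * (w * w) := by group
        _ = y * (w * w) := by rw [h]
    obtain ⟨k, hk⟩ := hwo
    have e : (w * w) ^ (k + 1) = w := by
      rw [← pow_two, ← pow_mul, show 2 * (k + 1) = orderOf w + 1 by omega, pow_succ, pow_orderOf_eq_one, one_mul]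
    have h3 := h2.pow_left (k + 1)
    rw [e] at h3
    exact mul_inv_eq_iff_eq_mul.2 h3.eq
  have hconjI : ∀ {y : G}, y ∈ I → w * y * w⁻¹ ∈ I := fun {y} hy => by
    refine ⟨mul_mem (mul_mem hw hy.1) (inv_mem hw), ?_⟩
    rw [← conj_mul, ← conj_mul, ← conj_inv, hfix, hy.2]
    group
  have hinvI : ∀ {y : G}, y ∈ I → y⁻¹ ∈ I := fun {y} hy => by
    refine ⟨inv_mem hy.1, ?_⟩
    rw [← conj_inv, hy.2]
  have hxI : x ∈ I := ⟨hx, hinv⟩
  have hx1I : x₁ ∈ I := hconjI hxI
  have hx2I : x₂ ∈ I := hconjI hx1I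
  have hx0 : x ≠ 1 := fun e => hne (by rw [hx₁, e]; simp)
  have hinj : ∀ {a b : G}, w * a * w⁻¹ = w * b * w⁻¹ → a = b := fun {a b} h => (MulAut.conj w).injective h
  have h1x : x₁ ≠ 1 := fun e => hx0 (conj_eq_one_iff.1 e)
  have h2x : x₂ ≠ 1 := fun e => h1x (conj_eq_one_iff.1 e)
  have h01 : x ≠ x₁ := fun e => hne e.symm
  have h01' : x₁ ≠ x⁻¹ := by
    intro e
    have : w * (w * x * w⁻¹) * w⁻¹ = x := by
      rw [← hx₁, e, ← conj_inv, ← hx₁, e, inv_inv]
    exact hne (hsq this)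
  have h02 : x₂ ≠ x := fun e => hne (hsq e)
  have h12 : x₂ ≠ x₁ := fun e => hne (hinj e)
  have h12' : x₂ ≠ x₁⁻¹ := fun e => h01' (hinj (by rw [← hx₂, e, hx₁, conj_inv]))
  have h02' : x₂ ≠ x⁻¹ := by
    intro e
    -- the fourth power fixes `x`
    have h4 : w * (w * (w * (w * x * w⁻¹) * w⁻¹) * w⁻¹) * w⁻¹ = x := by
      rw [← hx₁, ← hx₂, e, ← conj_inv, ← hx₁, ← conj_inv, ← hx₂, e, inv_inv]
    have h2 : w * w * x * (w * w)⁻¹ = x := by
      have hc : Commute ((w * w) * (w * w)) x := by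
        show w * w * (w * w) * x = x * (w * w * (w * w))
        calc w * w * (w * w) * x = w * (w * (w * (w * x * w⁻¹) * w⁻¹) * w⁻¹) * w⁻¹ * (w * w * (w * w)) := by group
          _ = x * (w * w * (w * w)) := by rw [h4]
      have hwwo : Odd (orderOf (w * w)) := Cfsg.Lib.GW.Frame.odd_orderOf hK (mul_mem hw hw)
      obtain ⟨k, hk⟩ := hwwo
      have e' : ((w * w) * (w * w)) ^ (k + 1) = w * w := by
        rw [← pow_two (w * w), ← pow_mul, show 2 * (k + 1) = orderOf (w * w) + 1 by omega, pow_succ,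
          pow_orderOf_eq_one, one_mul]
      have h3 := hc.pow_left (k + 1)
      rw [e'] at h3
      exact mul_inv_eq_iff_eq_mul.2 h3.eq
    exact h02 (by rw [hx₂, hx₁]; calc w * (w * x * w⁻¹) * w⁻¹ = w * w * x * (w * w)⁻¹ := by group
                    _ = x := h2)
  have hxx : x ≠ x⁻¹ := fun e => hx0 (hodd hx (mul_eq_one_iff_eq_inv.2 e))
  have h11 : x₁ ≠ x₁⁻¹ := fun e => h1x (hodd hx1I.1 (mul_eq_one_iff_eq_inv.2 e))
  let A : Finset G := {1, x, x⁻¹, x₁, x₁⁻¹, x₂}
  have hA : A.card = 6 := by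
    have hne1 : ∀ {a : G}, a ≠ 1 → (1 : G) ≠ a⁻¹ := fun {a} h e => h (inv_eq_one.1 e.symm)
    have hinvne : x⁻¹ ≠ x₁⁻¹ := fun e => h01 (inv_injective e)
    have hx1' : x ≠ x₁⁻¹ := fun e => h01' (by rw [e, inv_inv])
    simp only [A]
    rw [Finset.card_insert_of_notMem (by simp [hx0.symm, h1x.symm, h2x.symm, hne1 hx0, hne1 h1x]),
      Finset.card_insert_of_notMem (by simp [hxx, h01, h02.symm, hx1']),
      Finset.card_insert_of_notMem (by simp [h01'.symm, hinvne, h02'.symm]),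
      Finset.card_insert_of_notMem (by simp [h11, h12.symm]),
      Finset.card_insert_of_notMem (by simp [h12'.symm]), Finset.card_singleton]
  have hsub : (A : Set G) ⊆ I := by
    intro y hy
    simp only [A, Finset.coe_insert, Finset.coe_singleton, Set.mem_insert_iff, Set.mem_singleton_iff] at hy
    rcases hy with rfl | rfl | rfl | rfl | rfl | rfl
    exacts [⟨one_mem _, by simp⟩, hxI, hinvI hxI, hx1I, hinvI hx1I, hx2I]
  have := Set.ncard_le_ncard hsub (Set.toFinite _)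
  rw [Set.ncard_coe_finset, hA] at this
  omega

end Cfsg.Lib.GWD
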