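import Cfsg.Agent.GWDihedral.Maximal.Layer
import Cfsg.Agent.GWDihedral.Maximal.Factor
import Cfsg.Agent.GWDihedral.Local.Facts
import Cfsg.Agent.GWDihedral.Proper.Spec

/-!
Simple groups with dihedral Sylow 2-subgroups: a 2-nilpotent maximal subgroup over `C(t)` without 2-core has no
single prime in its Fitting subgroup.
-/

set_option autoImplicit false
set_option linter.unusedSectionVars false
set_option linter.style.haveILetI false

namespace Cfsg.Lib.GWD

open Subgroup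
open Cfsg.Lib.GW (Core core_le le_normalizer_core)
open Cfsg.Lib.Misc.BenderPair (cr cr_le cr_normalizer isPGroup_cr)
open Cfsg.Lib.Coprime (conjMap conjMap_mono)
open Cfsg.Lib.GW.MaxCent (Data mem_conjMap_iff odd_card_of_isPGroup odd_orderOf_of_mem eq_one_of_mul_self exists_inverted_fixed)
open scoped Pointwise

universe u

variable {G : Type u} [Group G] [Finite G] (V : Cfsg.Lib.GW.Frame G)

/-- An invariant subgroup which every involution of the four-group moves. -/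
def AllMoved (E : Subgroup G) : Prop := ∀ s ∈ V.U, s ≠ 1 → ¬ E ≤ centralizer {s}

theorem AllMoved.mono {V : Cfsg.Lib.GW.Frame G} {E E' : Subgroup G} (h : AllMoved V E) (hle : E ≤ E') :
    AllMoved V E' := fun s hs hs1 h' => h s hs hs1 (hle.trans h')

theorem AllMoved.ne_bot {V : Cfsg.Lib.GW.Frame G} {E : Subgroup G} (h : AllMoved V E) : E ≠ ⊥ := fun e =>
  h V.t V.t_mem_U V.t_ne_one (e ▸ bot_le)

theorem mem_core_of_pgroup_nil {H : Subgroup G} (hnil : IsPGroup 2 (H ⧸ Cfsg.oddCore H)) {p : ℕ} [Fact p.Prime]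
    (hp : p ≠ 2) {P : Subgroup G} (hP : IsPGroup p P) (hPH : P ≤ H) : P ≤ Core H := fun _ hx =>
  mem_core_of_nil hnil (hPH hx) (odd_orderOf_of_mem (odd_card_of_isPGroup hp hP) hx)

/-- The normaliser of an all-moved `p`-subgroup rotates no four-group. -/
theorem AllMoved.no_rot (hm : Minimal G) {p : ℕ} [Fact p.Prime] (hp : p ≠ 2)
    (hcf : ∀ W : Cfsg.Lib.GW.Frame G, CoreFixed W p) {E : Subgroup G} (hE : IsPGroup p E)
    (hEU : V.U ≤ normalizer (E : Set G)) (hmov : AllMoved V E) (W : Cfsg.Lib.GW.Frame G) :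
    ¬ Rot W (normalizer (E : Set G)) := by
  intro hR
  haveI : Fact (Nat.Prime 2) := ⟨Nat.prime_two⟩
  set N := normalizer (E : Set G)
  have hN : N ≠ ⊤ := not_normal_pgroup hm hp hE hmov.ne_bot
  have hEN : E ≤ N := le_normalizer
  have hEK : E ≤ Core N := by
    haveI : (E.subgroupOf N).Normal := (normal_subgroupOf_iff_le_normalizer hEN).2 le_rfl
    have hle : E.subgroupOf N ≤ Cfsg.oddCore N := le_sSup ⟨inferInstance, by
      rw [Nat.card_congr (subgroupOfEquivOfLe hEN).toEquiv]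
      exact Nat.coprime_two_right.2 (odd_card_of_isPGroup hp hE)⟩
    have h := map_mono (f := N.subtype) hle
    rwa [map_subgroupOf_eq_of_le hEN] at h
  have hWc : W.t ∈ centralizer (E : Set G) := mem_centralizer_iff.2 fun e he =>
    (mem_centralizer_iff.1 (hcf W N hN hR E hE hEK hR.1 he) W.t W.t_mem_U).symm
  -- conjugate that involution into a Sylow subgroup through `V.U`
  obtain ⟨T, hT⟩ := (V.isPGroup_U.comap_subtype (K := N)).exists_le_sylow
  set w : N := ⟨W.t, hR.1 W.t_mem_U⟩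
  obtain ⟨T', hT'⟩ := (IsPGroup.of_card (G := zpowers w) (p := 2) (n := 1)
    (by rw [Nat.card_zpowers, Subgroup.orderOf_mk, W.t_order, pow_one])).exists_le_sylow
  obtain ⟨g, hg⟩ := MulAction.exists_smul_eq N T' T
  set Tg := (T : Subgroup N).map N.subtype
  have hUT : V.U ≤ Tg := fun x hx => ⟨⟨x, hEU hx⟩, hT (mem_subgroupOf.2 hx), rfl⟩
  have hTN : Tg ≤ N := map_subtype_le _
  have hnc : N ≤ normalizer (centralizer (E : Set G) : Set G) :=
    Cfsg.Lib.Misc.BenderLeads.normalizer_le_normalizer_cent _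
  haveI : ((centralizer (E : Set G)).subgroupOf Tg).Normal := ⟨fun x hx y =>
    mem_subgroupOf.2 ((mem_normalizer_iff.1 (hnc (hTN y.2)) _).1 (mem_subgroupOf.1 hx))⟩
  have hgw : (g : G) * W.t * (g : G)⁻¹ ∈ Tg :=
    ⟨g * w * g⁻¹, by rw [← hg]; exact ⟨w, hT' (mem_zpowers w), rfl⟩, rfl⟩
  obtain ⟨s, hsU, hs1, ⟨hsT, hsc⟩, -⟩ := exists_central V hm (T.2.map _) hUT
    (N := (centralizer (E : Set G)).subgroupOf Tg) (fun e => by
      have h1 : (⟨_, hgw⟩ : Tg) ∈ (⊥ : Subgroup Tg) :=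
        e ▸ mem_subgroupOf.2 ((mem_normalizer_iff.1 (hnc g.2) _).1 hWc)
      exact W.t_ne_one (conj_eq_one_iff.1 (congrArg Subtype.val (mem_bot.1 h1))))
  exact hmov s hsU hs1 fun e he =>
    mem_centralizer_singleton_iff.2 (mem_centralizer_iff.1 (mem_subgroupOf.1 hsc) e he)

/-- So that normaliser is a 2-group modulo its odd core. -/
theorem AllMoved.nil (hm : Minimal G) {p : ℕ} [Fact p.Prime] (hp : p ≠ 2)
    (hcf : ∀ W : Cfsg.Lib.GW.Frame G, CoreFixed W p) {E : Subgroup G} (hE : IsPGroup p E)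
    (hEU : V.U ≤ normalizer (E : Set G)) (hmov : AllMoved V E) :
    IsPGroup 2 (normalizer (E : Set G) ⧸ Cfsg.oddCore (normalizer (E : Set G))) :=
  nil_of V (hm.splitSpec V) (not_normal_pgroup hm hp hE hmov.ne_bot) hEU fun W =>
    hmov.no_rot V hm hp hcf hE hEU W

theorem coprime_solvable_U : Group.IsSolvable V.U := by
  haveI := V.isPGroup_U.isNilpotent; infer_instance

/-- An all-moved invariant `p`-subgroup lies in an invariant Sylow subgroup of `G`. -/
theorem AllMoved.exists_sylow (hm : Minimal G) {p : ℕ} [Fact p.Prime] (hp : p ≠ 2)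
    (hcf : ∀ W : Cfsg.Lib.GW.Frame G, CoreFixed W p) {P : Subgroup G} (hP : IsPGroup p P)
    (hPU : V.U ≤ normalizer (P : Set G)) (hmov : AllMoved V P) :
    ∃ S : Sylow p G, P ≤ (S : Subgroup G) ∧ V.U ≤ normalizer ((S : Subgroup G) : Set G) := by
  obtain ⟨Q, ⟨hQp, hQU, hPQ⟩, hmax⟩ := WellFounded.has_min (wellFounded_gt (α := Subgroup G))
    {Q | IsPGroup p Q ∧ V.U ≤ normalizer (Q : Set G) ∧ P ≤ Q} ⟨P, hP, hPU, le_rfl⟩
  set N := normalizer (Q : Set G)
  have hnil := (hmov.mono hPQ).nil V hm hp hcf hQp hQU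
  have hQK : Q ≤ Core N := mem_core_of_pgroup_nil hnil hp hQp le_normalizer
  have hKU : V.U ≤ normalizer (Core N : Set G) := hQU.trans (le_normalizer_core N)
  obtain ⟨T, hQT, hTU⟩ := Cfsg.Lib.Coprime.exists_invariant_sylow_ge hKU
    (V.coprime_U (Cfsg.Lib.GW.Frame.odd_card_core N)) (Or.inl (coprime_solvable_U V)) p hQK hQp hQU
  set T₀ := (T : Subgroup (Core N)).map (Core N).subtype
  have hTQ : T₀ = Q := by
    by_contra hne
    exact hmax T₀ ⟨T.2.map _, hTU, hPQ.trans hQT⟩ (lt_of_le_of_ne hQT (Ne.symm hne))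
  refine ⟨⟨Q, hQp, fun {R} hR hQR => ?_⟩, hPQ, hQU⟩
  by_contra hne
  have hlt := Cfsg.Lib.GenDihedral.lt_inf_normalizer hR (lt_of_le_of_ne hQR (Ne.symm hne))
  have hRK : R ⊓ N ≤ Core N := mem_core_of_pgroup_nil hnil hp (hR.to_le inf_le_left) inf_le_right
  have hmem : (T : Subgroup (Core N)) ≤ (R ⊓ N).subgroupOf (Core N) := fun x hx => by
    rw [mem_subgroupOf]
    exact hlt.le (hTQ ▸ mem_map_of_mem _ hx)
  have he := T.3 ((hR.to_le inf_le_left).comap_of_injective _ (Core N).subtype_injective) hmem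
  refine hlt.not_ge fun x hx => ?_
  rw [← hTQ]
  exact ⟨⟨x, hRK hx⟩, he ▸ (mem_subgroupOf.2 hx : (⟨x, hRK hx⟩ : Core N) ∈ (R ⊓ N).subgroupOf (Core N)), rfl⟩

/-- Invariant Sylow subgroups with an all-moved intersection have the same `N(ZJ)`. -/
theorem same_zj_of_moved (hm : Minimal G) {p : ℕ} [Fact p.Prime] (hp : p ≠ 2)
    (hcf : ∀ W : Cfsg.Lib.GW.Frame G, CoreFixed W p) {M : Subgroup G}
    (hNZJ : ∀ P : Sylow p G, ∃ g : G,
      normalizer (Cfsg.centerThompsonAOf (P : Subgroup G) : Set G) = conjMap g M)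
    (hcent : ∀ g : G, V.U ≤ conjMap g M → centralizer (V.U : Set G) ≤ conjMap g M)
    (A B : Sylow p G) (hA : V.U ≤ normalizer ((A : Subgroup G) : Set G))
    (hB : V.U ≤ normalizer ((B : Subgroup G) : Set G)) (hAB : AllMoved V ((A : Subgroup G) ⊓ B)) :
    normalizer (Cfsg.centerThompsonAOf (A : Subgroup G) : Set G) =
      normalizer (Cfsg.centerThompsonAOf (B : Subgroup G) : Set G) := by
  by_contra hne₀
  obtain ⟨E, ⟨A, B, hA, hB', rfl, hmov, hne⟩, hmax⟩ := WellFounded.has_min (wellFounded_gt (α := Subgroup G))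
    {E | ∃ A B : Sylow p G, V.U ≤ normalizer ((A : Subgroup G) : Set G) ∧
      V.U ≤ normalizer ((B : Subgroup G) : Set G) ∧ E = (A : Subgroup G) ⊓ B ∧ AllMoved V E ∧
      normalizer (Cfsg.centerThompsonAOf (A : Subgroup G) : Set G) ≠
        normalizer (Cfsg.centerThompsonAOf (B : Subgroup G) : Set G)}
    ⟨_, A, B, hA, hB, rfl, hAB, hne₀⟩
  set E := (A : Subgroup G) ⊓ B
  have hEp : IsPGroup p E := A.2.to_le inf_le_left
  have hEU : V.U ≤ normalizer (E : Set G) := Cfsg.Lib.Coprime.le_normalizer_inf hA hB'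
  set N := normalizer (E : Set G)
  have hnil := hmov.nil V hm hp hcf hEp hEU
  have hne' : (A : Subgroup G) ≠ B := fun e => hne (by rw [e])
  have grow : ∀ X : Sylow p G, E ≤ (X : Subgroup G) → (X : Subgroup G) ≠ E →
      E < (X : Subgroup G) ⊓ N := fun X hX hXE =>
    Cfsg.Lib.GenDihedral.lt_inf_normalizer X.2 (lt_of_le_of_ne hX (Ne.symm hXE))
  have hEA : (A : Subgroup G) ≠ E := fun e => hne' (A.3 B.2 (e.le.trans inf_le_right)).symm
  have hEB : (B : Subgroup G) ≠ E := fun e => hne' (B.3 A.2 (e.le.trans inf_le_left))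
  have hKN : V.U ≤ normalizer (Core N : Set G) := hEU.trans (le_normalizer_core N)
  have hco := V.coprime_U (Cfsg.Lib.GW.Frame.odd_card_core N)
  have ext : ∀ X : Sylow p G, V.U ≤ normalizer ((X : Subgroup G) : Set G) →
      ∃ T : Sylow p (Core N), (X : Subgroup G) ⊓ N ≤ (T : Subgroup (Core N)).map (Core N).subtype ∧
        V.U ≤ normalizer (((T : Subgroup (Core N)).map (Core N).subtype : Subgroup G) : Set G) := fun X hX =>
    Cfsg.Lib.Coprime.exists_invariant_sylow_ge hKN hco (Or.inl (coprime_solvable_U V)) p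
      (mem_core_of_pgroup_nil hnil hp (X.2.to_le inf_le_left) inf_le_right) (X.2.to_le inf_le_left)
      (Cfsg.Lib.Coprime.le_normalizer_inf hX (hEU.trans le_normalizer))
  obtain ⟨T1, hT1, hT1U⟩ := ext A hA
  obtain ⟨T2, hT2, hT2U⟩ := ext B hB'
  obtain ⟨c, hc, hcT⟩ := Cfsg.Lib.Coprime.invariant_sylow_conj hKN hco (Or.inl (coprime_solvable_U V)) p
    T1 T2 hT1U hT2U
  have hT1mov := hmov.mono ((le_inf inf_le_left le_normalizer).trans hT1)
  obtain ⟨X, hTX, hXU⟩ := hT1mov.exists_sylow V hm hp hcf (T1.2.map _) hT1U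
  have same : ∀ Y Z : Sylow p G, V.U ≤ normalizer ((Y : Subgroup G) : Set G) →
      V.U ≤ normalizer ((Z : Subgroup G) : Set G) → E < (Y : Subgroup G) ⊓ Z →
      normalizer (Cfsg.centerThompsonAOf (Y : Subgroup G) : Set G) =
        normalizer (Cfsg.centerThompsonAOf (Z : Subgroup G) : Set G) := fun Y Z hY hZ' hlt => by
    by_contra h
    exact hmax _ ⟨Y, Z, hY, hZ', rfl, hmov.mono hlt.le, h⟩ hlt
  have hAX := same A X hA hXU ((grow A inf_le_left hEA).trans_le (le_inf inf_le_left (hT1.trans hTX)))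
  set X' := (c : G) • X with hX'def
  have hX' : ((X' : Sylow p G) : Subgroup G) = conjMap (c : G) X := rfl
  have hX'U : V.U ≤ normalizer ((X' : Subgroup G) : Set G) := fun a ha => by
    rw [hX', Cfsg.Lib.Coprime.normalizer_conjMap, mem_conjMap_iff]
    rw [show (c : G)⁻¹ * a * (c : G) = a by
      rw [mul_assoc, mem_centralizer_iff.1 hc a ha, inv_mul_cancel_left]]
    exact hXU ha
  have hBX := same B X' hB' hX'U ((grow B inf_le_right hEB).trans_le (le_inf inf_le_left (hT2.trans (by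
    rw [hX', ← hcT, Cfsg.Lib.Coprime.map_subtype_smul]
    exact conjMap_mono hTX))))
  refine hne (hAX.trans (Eq.trans ?_ hBX.symm))
  obtain ⟨g, hg⟩ := hNZJ X
  rw [hX', conjMap, ← Cfsg.Lib.ZJ.centerThompsonAOf_map]
  show _ = normalizer ((conjMap (c : G) (Cfsg.centerThompsonAOf (X : Subgroup G)) : Subgroup G) : Set G)
  rw [Cfsg.Lib.Coprime.normalizer_conjMap, hg]
  symm
  refine Cfsg.Lib.Coprime.conjMap_eq_self (le_normalizer (hcent g ?_ hc))
  rw [← hg]
  intro a ha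
  have hn := hXU ha
  rw [← Cfsg.Lib.Coprime.conjMap_eq_self_iff] at hn ⊢
  show Subgroup.map _ _ = _
  rw [Cfsg.Lib.ZJ.centerThompsonAOf_map]
  show Cfsg.centerThompsonAOf (conjMap a (X : Subgroup G)) = _
  rw [hn]

/-- The one-prime case is impossible. -/
theorem false_of_onePrime (hm : Minimal G) {M : Subgroup G} (D : Data M V.t V.u V.σ)
    (hnil : IsPGroup 2 (M ⧸ Cfsg.oddCore M)) (hnr : ∀ (W : Cfsg.Lib.GW.Frame G) (g : G), ¬ Rot W (conjMap g M))
    (hcent : ∀ g : G, V.U ≤ conjMap g M → centralizer (V.U : Set G) ≤ conjMap g M)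
    {a : G} (hat : a * V.t = V.t * a) (hau : a * V.u * a⁻¹ = V.t * V.u)
    {p : ℕ} (hpp : p.Prime) (hone : ∀ q : ℕ, q.Prime → q ≠ p → cr q M = ⊥) : False := by
  haveI := Fact.mk hpp
  haveI := hm.simple
  obtain ⟨q, hq, v, hv, hvt⟩ := D.exists_moved
  have hqp : q = p := by
    by_contra h
    rw [hone q hq h, mem_bot] at hv
    exact hvt (hv ▸ Commute.one_left _)
  subst hqp
  have hp2 : q ≠ 2 := by
    rintro rfl
    rw [D.two, mem_bot] at hv
    exact hvt (hv ▸ Commute.one_left _)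
  have hRne : cr q M ≠ ⊥ := fun e => by
    rw [e, mem_bot] at hv
    exact hvt (hv ▸ Commute.one_left _)
  have hU : V.U ≤ M := V.U_le_iff.2 ⟨D.t_mem, D.u_mem⟩
  have hRo := odd_card_of_isPGroup hp2 (isPGroup_cr (p := q) M)
  -- an invariant Sylow subgroup over the core
  have hKU : V.U ≤ normalizer (Core M : Set G) := hU.trans (le_normalizer_core M)
  obtain ⟨T, hRT, hTU⟩ := Cfsg.Lib.Coprime.exists_invariant_sylow_ge hKU
    (V.coprime_U (Cfsg.Lib.GW.Frame.odd_card_core M)) (Or.inl (coprime_solvable_U V)) q (cr_le_core hp2 M)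
    (isPGroup_cr M) (hU.trans (cr_normalizer q M))
  set S := (T : Subgroup (Core M)).map (Core M).subtype with hSdef
  have hSp : IsPGroup q S := T.2.map _
  have hSM : S ≤ M := (map_subtype_le _).trans (core_le M)
  let SM : Sylow q M := ⟨S.subgroupOf M, hSp.comap_of_injective _ M.subtype_injective, fun {Q} hQ hle => by
    have h1 : S ≤ Q.map M.subtype := fun x hx => ⟨⟨x, hSM hx⟩, hle (mem_subgroupOf.2 hx), rfl⟩
    have hQK := mem_core_of_pgroup_nil hnil hp2 (hQ.map M.subtype) (map_subtype_le _)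
    have he := T.3 ((hQ.map M.subtype).comap_of_injective _ (Core M).subtype_injective)
      fun x hx => h1 (mem_map_of_mem _ hx)
    refine le_antisymm (fun x hx => mem_subgroupOf.2 ?_) hle
    exact ⟨⟨x, hQK (mem_map_of_mem _ hx)⟩,
      he ▸ (mem_map_of_mem _ hx : (⟨x, hQK (mem_map_of_mem _ hx)⟩ : Core M) ∈
        (Q.map M.subtype).comap (Core M).subtype), rfl⟩⟩
  have hM1 : M ≠ ⊥ := fun e => D.tne (mem_bot.1 (e ▸ D.t_mem))
  obtain ⟨S₀, hS₀, -, hNZ, -⟩ := hm.sylow_of_onePrime D.coatom hM1 D.sol hp2 hRne hone SM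
  rw [show (SM : Subgroup M).map M.subtype = S from map_subgroupOf_eq_of_le hSM] at hS₀
  have hconjZ : ∀ g : G, normalizer (Cfsg.centerThompsonAOf (((g • S₀ : Sylow q G) : Subgroup G)) : Set G) =
      conjMap g M := fun g => by
    show normalizer (Cfsg.centerThompsonAOf (conjMap g (S₀ : Subgroup G)) : Set G) = _
    rw [conjMap, ← Cfsg.Lib.ZJ.centerThompsonAOf_map]
    show normalizer ((conjMap g (Cfsg.centerThompsonAOf (S₀ : Subgroup G)) : Subgroup G) : Set G) = _
    rw [Cfsg.Lib.Coprime.normalizer_conjMap, hNZ]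
  have hNZJ : ∀ P : Sylow q G, ∃ g : G,
      normalizer (Cfsg.centerThompsonAOf (P : Subgroup G) : Set G) = conjMap g M := fun P => by
    obtain ⟨g, hg⟩ := MulAction.exists_smul_eq G S₀ P
    exact ⟨g, by rw [← hg]; exact hconjZ g⟩
  have hcf : ∀ W : Cfsg.Lib.GW.Frame G, CoreFixed W q := fun W =>
    coreFixed_of_noZJ W hm (hm.oddSpec W) hp2 fun P => by
      obtain ⟨g, hg⟩ := hNZJ P
      rw [hg]
      exact hnr W g
  -- two elements of both cores, between them moved by every involution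
  have finish : ∀ (u' τ a' : G) (D' : Data M V.t u' τ), u' ∈ V.U → τ ∈ normalizer (V.U : Set G) →
      (∀ s ∈ V.U, s ≠ 1 → s = V.t ∨ s = u' ∨ s = V.t * u') → a' * V.t = V.t * a' →
      a' * u' * a'⁻¹ = V.t * u' → ∀ d ∈ cr q M, d ≠ 1 → V.t * d * V.t = d⁻¹ → Commute d u' → False := by
    intro u' τ a' D' hu'U hτ hUcases hat' hau' d hdR hd1 hdt hdu
    have hd2 := D'.mem_cr_two hdR hdt hdu
    rw [Cfsg.Lib.GW.MaxCent.cr_conjMap] at hd2
    set S2 := τ • S₀ with hS2def
    have hS2 : ((S2 : Sylow q G) : Subgroup G) = conjMap τ S := by rw [hS2def, ← hS₀]; rfl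
    have hS2U : V.U ≤ normalizer ((S2 : Subgroup G) : Set G) := fun b hb => by
      rw [hS2, Cfsg.Lib.Coprime.normalizer_conjMap, mem_conjMap_iff]
      refine hTU ?_
      have := (mem_normalizer_iff.1 (inv_mem hτ) b).1 hb
      rwa [inv_inv] at this
    -- the second element
    set d₂ := a' * d * a'⁻¹ with hd₂
    have hd₂R : d₂ ∈ cr q M := (mem_normalizer_iff.1 (cr_normalizer q M (D'.mem_of_comm hat')) d).1 hdR
    have hd₂v : Commute d₂ (V.t * u') := by
      show d₂ * (V.t * u') = V.t * u' * d₂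
      rw [← hau', hd₂, _root_.conj_mul, _root_.conj_mul, hdu.eq]
    have hd₂t : V.t * d₂ * V.t = d₂⁻¹ := by
      have e : a' * V.t * a'⁻¹ = V.t := mul_inv_eq_iff_eq_mul.2 hat'
      calc V.t * d₂ * V.t = a' * V.t * a'⁻¹ * (a' * d * a'⁻¹) * (a' * V.t * a'⁻¹) := by rw [hd₂, e]
        _ = a' * (V.t * d * V.t) * a'⁻¹ := by group
        _ = d₂⁻¹ := by rw [hdt, hd₂]; group
    have heR : τ * d₂ * τ⁻¹ ∈ cr q M := by
      have h := D'.swap.mem_cr_two hd₂R hd₂t hd₂v
      rw [Cfsg.Lib.GW.MaxCent.cr_conjMap, mem_conjMap_iff, inv_inv] at h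
      exact h
    have heu : u' * (τ * d₂ * τ⁻¹) * u' = (τ * d₂ * τ⁻¹)⁻¹ := by
      rw [← D'.conj_t, show (τ * V.t * τ⁻¹) * (τ * d₂ * τ⁻¹) * (τ * V.t * τ⁻¹) = τ * (V.t * d₂ * V.t) * τ⁻¹ by group,
        hd₂t]
      group
    have hmov : AllMoved V ((S₀ : Subgroup G) ⊓ (S2 : Subgroup G)) := by
      have hd' : d ∈ (S₀ : Subgroup G) ⊓ (S2 : Subgroup G) :=
        ⟨hS₀ ▸ hRT hdR, hS2 ▸ conjMap_mono hRT hd2⟩
      have he' : τ * d₂ * τ⁻¹ ∈ (S₀ : Subgroup G) ⊓ (S2 : Subgroup G) :=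
        ⟨hS₀ ▸ hRT heR, hS2 ▸ mem_map_of_mem _ (hRT hd₂R)⟩
      have hfix : ∀ {x s : G}, x ∈ cr q M → s * s = 1 → s * x * s = x⁻¹ → x * s = s * x → x = 1 := by
        intro x s hx hss hinv hc
        refine eq_one_of_mul_self (odd_orderOf_of_mem hRo hx) (mul_eq_one_iff_eq_inv.2 ?_)
        rw [← hinv, ← hc, mul_assoc, hss, mul_one]
      intro s hs hs1 hle
      rcases hUcases s hs hs1 with rfl | rfl | rfl
      · exact hd1 (hfix hdR V.t_sq hdt (mem_centralizer_singleton_iff.1 (hle hd')))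
      · exact hd1 (conj_eq_one_iff.1 (show a' * d * a'⁻¹ = 1 from conj_eq_one_iff.1
          (hfix heR D'.uu heu (mem_centralizer_singleton_iff.1 (hle he')))))
      · refine hd1 (hfix hdR ?_ ?_ (mem_centralizer_singleton_iff.1 (hle hd')))
        · rw [mul_assoc, ← mul_assoc u', ← D'.comm, mul_assoc, D'.uu, mul_one, V.t_sq]
        · have h1 : u' * d * u' = d := by rw [← hdu.eq, mul_assoc, D'.uu, mul_one]
          calc V.t * u' * d * (V.t * u') = V.t * u' * d * (u' * V.t) := by rw [← D'.comm]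
            _ = V.t * (u' * d * u') * V.t := by group
            _ = d⁻¹ := by rw [h1, hdt]
    have he := same_zj_of_moved V hm hp2 hcf hNZJ hcent S₀ S2 (by rw [hS₀]; exact hTU) hS2U hmov
    rw [hNZ, hS2def, hconjZ] at he
    have hτM : τ ∈ normalizer (M : Set G) := Cfsg.Lib.Coprime.conjMap_eq_self_iff.1 he.symm
    rw [Cfsg.Lib.BenderSE.Crit2.normalizer_eq_of_coatom D.coatom le_rfl le_normalizer hM1] at hτM
    exact D'.out hτM
  have hcases : ∀ s ∈ V.U, s ≠ 1 → s = V.t ∨ s = V.u ∨ s = V.t * V.u := fun s hs hs1 =>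
    (V.mem_U.1 hs).resolve_left hs1
  obtain ⟨d, hdR, hd1, hdt, hdu⟩ := exists_inverted_fixed hRo V.t_sq V.u_sq V.comm (cr_normalizer q M D.t_mem)
    (cr_normalizer q M D.u_mem) hv hvt
  rcases hdu with h | h
  · exact finish V.u V.σ a D V.u_mem_U V.σ_mem hcases hat hau d hdR hd1 hdt h
  · refine finish (V.t * V.u) V.σ⁻¹ a D.swap (mul_mem V.t_mem_U V.u_mem_U) (inv_mem V.σ_mem) (fun s hs hs1 => ?_)
      hat ?_ d hdR hd1 hdt h
    · rw [← mul_assoc, V.t_sq, one_mul]
      rcases hcases s hs hs1 with e | e | e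
      exacts [Or.inl e, Or.inr (Or.inr e), Or.inr (Or.inl e)]
    · rw [← conj_mul, hau, mul_inv_eq_iff_eq_mul.2 hat]

end Cfsg.Lib.GWD
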