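import Cfsg.Agent.GWDihedral.Maximal.BothRot
import Cfsg.Agent.GWDihedral.Maximal.Odd
import Cfsg.Agent.Blocks.DihedralOdd
import Cfsg.Agent.S0984

/-!
Simple groups with dihedral Sylow 2-subgroups: the maximal subgroups with top `S₄` left by the index arithmetic
lead to `A₇`, and the assembly of the three cases of a maximal subgroup over `C(t)`.
-/

set_option autoImplicit false
set_option linter.unusedSectionVars false
set_option linter.style.haveILetI false

namespace Cfsg.Lib.GWD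

open Subgroup
open Cfsg.Lib.GW (Core)

universe u

variable {G : Type u} [Group G] [Finite G]

namespace Frame

variable (F : Frame G)

theorem σ₂_not_mem_C : F.σ₂ ∉ F.C := fun h => by
  have h1 : F.σ₂ * F.t * F.σ₂⁻¹ = F.t := mul_inv_eq_iff_eq_mul.2 (F.mem_C.1 h)
  rw [show F.σ₂ * F.t * F.σ₂⁻¹ = F.r * F.s from F.σ₂_t] at h1
  exact F.t_ne_rs h1.symm

/-- The rotation of a four-group normalises its fixed part. -/
theorem σ_mem_normalizer_W (V : Cfsg.Lib.GW.Frame G) (hm : Minimal G) :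
    V.σ ∈ normalizer (V.W : Set G) := by
  have hmem : ∀ x, x ∈ V.W ↔ x ∈ centralizer (V.U : Set G) ∧ Odd (orderOf x) := fun x =>
    ⟨fun h => ⟨V.W_le_centralizer_U h, Cfsg.Lib.GW.Frame.odd_orderOf V.odd_card_W h⟩,
      fun ⟨h, ho⟩ => V.mem_W.2 ⟨(hm.mem_O V).2 ⟨(V.mem_centralizer_U.1 h).1, ho⟩, (V.mem_centralizer_U.1 h).2⟩⟩
  refine mem_normalizer_iff.2 fun x => ?_
  rw [hmem, hmem, ← MulEquiv.orderOf_eq (MulAut.conj V.σ) x]
  exact and_congr_left' (mem_normalizer_iff.1 V.σ_mem_centralizer_U x)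

/-- Over `C` the second four-group of the flipped frame is rotated only with the first of the frame. -/
theorem rot_of_rot_flip {M : Subgroup G} (hC : F.C ≤ M) (h : Rot F.flip.four₂ M) : Rot F.four₁ M := by
  obtain ⟨-, g, hg, hgt, hgu⟩ := h
  have hs : F.s ∈ M := hC (F.S_le_C F.s_mem_S)
  have hr : F.r ∈ M := hC (F.S_le_C F.r_mem_S)
  refine ⟨F.four₁.U_le_iff.2 ⟨hC (F.S_le_C F.t_mem_S), hr⟩, F.s * g * F.s⁻¹,
    mul_mem (mul_mem hs hg) (inv_mem hs), ?_⟩
  have hst : F.s * F.t = F.t * F.s := F.S_comm_t F.s_mem_S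
  have h1 : F.s⁻¹ * F.t * F.s = F.t := by rw [mul_assoc, ← hst, inv_mul_cancel_left]
  have h2 : F.s * (F.r * F.s * F.s) * F.s⁻¹ = F.r := by
    have h := F.rel
    rw [mul_inv_eq_iff_eq_mul] at h
    rw [show F.s * (F.r * F.s * F.s) * F.s⁻¹ = F.s * (F.r * F.s) by group, h, mul_inv_cancel_left]
  change g * F.t * g⁻¹ = F.r * F.s * F.s at hgt
  change g * (F.r * F.s * F.s) * g⁻¹ = F.t * (F.r * F.s * F.s) at hgu
  show F.s * g * F.s⁻¹ * F.t * (F.s * g * F.s⁻¹)⁻¹ = F.r ∧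
    F.s * g * F.s⁻¹ * F.r * (F.s * g * F.s⁻¹)⁻¹ = F.t * F.r
  constructor
  · rw [show F.s * g * F.s⁻¹ * F.t * (F.s * g * F.s⁻¹)⁻¹ = F.s * (g * (F.s⁻¹ * F.t * F.s) * g⁻¹) * F.s⁻¹ by group,
      h1, hgt, h2]
  · nth_rewrite 1 [← h2]
    rw [show F.s * g * F.s⁻¹ * (F.s * (F.r * F.s * F.s) * F.s⁻¹) * (F.s * g * F.s⁻¹)⁻¹ =
      F.s * (g * (F.r * F.s * F.s) * g⁻¹) * F.s⁻¹ by group, hgu, ← conj_mul, h2,
      mul_inv_eq_iff_eq_mul.2 hst]

/-- With top `S₄` centralised by the four-group the odd core is `O`. -/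
theorem core_eq_O (hm : Minimal G) {M : Subgroup G} (hC : F.C ≤ M) (hne : M ≠ F.C)
    (h24 : (Core M).relIndex M = 24) (hcen : F.four₁.U ≤ centralizer (Core M : Set G)) : Core M = F.O := by
  have hle : Core M ≤ F.O := fun x hx => F.mem_O.2
    ⟨mem_centralizer_iff.1 (hcen F.four₁.t_mem_U) x hx,
      Cfsg.Lib.GW.Frame.odd_orderOf (Cfsg.Lib.GW.Frame.odd_card_core M) hx⟩
  refine Subgroup.eq_of_le_of_card_ge hle ?_
  have hM : Nat.card M = 24 * Nat.card (Core M) := by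
    rw [← h24, ← relIndex_bot_left, ← relIndex_bot_left (Core M),
      ← relIndex_mul_relIndex ⊥ (Core M) M bot_le (Cfsg.Lib.GW.core_le M), mul_comm]
  obtain ⟨k, hk⟩ : ∃ k, F.n = k + 3 := ⟨F.n - 3, by have := F.three_le; omega⟩
  have hCc : Nat.card F.C = 2 ^ (k + 3) * Nat.card F.O := by
    rw [F.card_C, Frame.m, hk, show k + 3 - 2 = k + 1 by omega]; ring
  have h8 : 8 * Nat.card F.O ∣ 24 * Nat.card (Core M) := by
    rw [← hM]
    refine dvd_trans ?_ (card_dvd_of_le hC)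
    rw [hCc, pow_add]
    exact ⟨2 ^ k, by ring⟩
  rw [show 24 * Nat.card (Core M) = 8 * (3 * Nat.card (Core M)) by ring,
    Nat.mul_dvd_mul_iff_left (by norm_num)] at h8
  obtain ⟨a, ha⟩ := h8
  obtain ⟨b, hb⟩ := card_dvd_of_le hle
  have hpos : 0 < Nat.card (Core M) := Nat.card_pos
  have hab : b * a = 3 := by
    rw [hb] at ha
    exact Nat.eq_of_mul_eq_mul_left hpos (by rw [← mul_assoc, ← ha, mul_comm])
  rcases (Nat.dvd_prime Nat.prime_three).1 ⟨a, hab.symm⟩ with rfl | rfl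
  · rw [hb, mul_one]
  exfalso
  refine hne (Subgroup.eq_of_le_of_card_ge hC ?_).symm
  rw [hM, hCc, hb, pow_add]
  have := Nat.one_le_two_pow (n := k)
  calc 24 * Nat.card (Core M) = 1 * (2 ^ 3 * (Nat.card (Core M) * 3)) := by ring
    _ ≤ 2 ^ k * (2 ^ 3 * (Nat.card (Core M) * 3)) := Nat.mul_le_mul_right _ this
    _ = _ := by ring

/-- With a fixed part of index at most five, `C` normalises `W₂`. -/
theorem C_le_normalizer_W₂ (hc : F.four₁.U ≤ centralizer (F.O : Set G))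
    (h5 : ∃ k : ℕ, k ≤ 5 ∧ Nat.card F.O = k * F.w₂) : F.C ≤ normalizer (F.four₂.W : Set G) := by
  obtain ⟨k, hk5, hk⟩ := h5
  have hv2 : (F.r * F.s) * (F.r * F.s) = 1 := Cfsg.Lib.GenDihedral.mul_self_of_two F.rs_order
  have hvN : F.r * F.s ∈ normalizer (F.O : Set G) :=
    F.C_le_normalizer_O (F.S_le_C (mul_mem F.r_mem_S F.s_mem_S))
  have hsmall : ({y : G | y ∈ F.O ∧ (F.r * F.s) * y * (F.r * F.s)⁻¹ = y⁻¹} : Set G).ncard ≤ 5 := by
    have h := Cfsg.Lib.Dihedral.card_inverted_mul_card_fixed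
      (L := F.O) (fun y hy => fun h2 => by
        have := Cfsg.Lib.GW.Frame.odd_orderOf F.odd_card_O hy
        exact Nat.not_even_iff_odd.2 this (even_iff_two_dvd.2 h2)) (r := F.r * F.s)
      ⟨fun y hy => (mem_normalizer_iff.1 hvN y).1 hy, fun y _ => by
        rw [inv_eq_of_mul_eq_one_right hv2,
          show F.r * F.s * (F.r * F.s * y * (F.r * F.s)) * (F.r * F.s) =
            (F.r * F.s * (F.r * F.s)) * y * (F.r * F.s * (F.r * F.s)) by group, hv2, one_mul, mul_one]⟩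
    have hf : Nat.card (Cfsg.Lib.Dihedral.fixed F.O (F.r * F.s)) = F.w₂ := rfl
    rw [hf, hk] at h
    rw [← Nat.card_coe_set_eq]
    refine le_trans (le_of_eq ?_) hk5
    exact Nat.eq_of_mul_eq_mul_right F.w₂_pos h
  have hO : F.O ≤ normalizer (F.four₂.W : Set G) := by
    intro x hx
    obtain ⟨a, ha, b, hb, hfix, hinv, rfl⟩ :=
      Cfsg.Lib.GW.Frame.exists_fixed_mul_inverted F.odd_card_O hv2 hvN hx
    refine mul_mem (le_normalizer (F.four₂.mem_W.2 ⟨ha, (mul_inv_eq_iff_eq_mul.1 hfix).symm⟩)) ?_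
    refine centralizer_le_normalizer _ (mem_centralizer_iff.2 fun w hw => ?_)
    exact mul_inv_eq_iff_eq_mul.1 (comm_of_small F.odd_card_O (F.four₂.W_le hw) hb
      (mul_inv_eq_iff_eq_mul.2 (F.four₂.mem_W.1 hw).2.symm) hinv hsmall)
  have hcomm : ∀ u ∈ ({F.r, F.r * F.s} : Set G), u ∈ centralizer (F.four₂.W : Set G) := by
    rintro u (rfl | rfl) <;> refine mem_centralizer_iff.2 fun w hw => ?_
    · exact mem_centralizer_iff.1 (hc F.four₁.u_mem_U) w (F.four₂.W_le hw)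
    · exact (F.four₂.mem_W.1 hw).2
  have hS : F.S ≤ centralizer (F.four₂.W : Set G) := (closure_le _).2 (by
    rintro u (rfl | rfl)
    · have := mul_mem (inv_mem (hcomm F.r (by simp))) (hcomm (F.r * F.s) (by simp))
      rwa [inv_mul_cancel_left] at this
    · exact hcomm F.r (by simp))
  rw [F.C_eq]
  exact sup_le hO (hS.trans (centralizer_le_normalizer _))

/-- The endgames of the top `S₄`. -/
theorem sfour_end (hm : Minimal G) (hspec : F.flip.OneRotSpec) {M : Subgroup G} (hM : IsCoatom M)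
    (hC : F.C ≤ M) (h1 : Rot F.four₁ M) (h2 : ¬ Rot F.four₂ M)
    (hW : F.four₁.W ≠ ⊥ ∨ F.four₂.W ≠ ⊥) (h : F.SFourLeft M) : IsDihType G := by
  haveI := hm.simple
  obtain ⟨h24, hcen, hcases⟩ := h
  have hne : M ≠ F.C := by
    rintro rfl
    obtain ⟨-, g, hg, hgt, -⟩ := h1
    rw [show g * F.four₁.t * g⁻¹ = F.t from mul_inv_eq_iff_eq_mul.2 (F.mem_C.1 hg)] at hgt
    exact F.t_ne_r hgt
  have hD := F.core_eq_O hm hC hne h24 hcen
  have hcO : F.four₁.U ≤ centralizer (F.O : Set G) := hD ▸ hcen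
  have hW1 : F.four₁.W = F.O := le_antisymm F.four₁.W_le fun x hx =>
    F.four₁.mem_W.2 ⟨hx, mem_centralizer_iff.1 (hcO F.four₁.u_mem_U) x hx⟩
  have ho : F.w₁ = Nat.card F.O := by rw [Frame.w₁, hW1]
  have hMc : Nat.card M = 24 * Nat.card F.O := by
    rw [← hD, ← h24, ← relIndex_bot_left, ← relIndex_bot_left (Core M),
      ← relIndex_mul_relIndex ⊥ (Core M) M bot_le (Cfsg.Lib.GW.core_le M), mul_comm]
  have hMN : M ≤ normalizer (F.O : Set G) := hD ▸ Cfsg.Lib.GW.le_normalizer_core M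
  -- a normalised non-trivial subgroup does not have a normaliser beyond `M`
  have hprop : ∀ X : Subgroup G, X ≠ ⊥ → X ≤ F.O → normalizer (X : Set G) ≠ ⊤ := by
    intro X hX hXO h
    haveI : X.Normal := normalizer_eq_top_iff.1 h
    rcases hm.simple.eq_bot_or_eq_top_of_normal X inferInstance with h' | h'
    · exact hX h'
    · have := F.odd_card_O
      rw [show F.O = ⊤ from top_le_iff.1 (h' ▸ hXO), card_top] at this
      exact Nat.not_even_iff_odd.2 this (even_iff_two_dvd.2 (F.t_order ▸ orderOf_dvd_natCard F.t))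
  by_cases hW2 : F.four₂.W = ⊥
  · have hw2 : F.w₂ = 1 := by rw [Frame.w₂, hW2, card_bot]
    have hO1 : F.O ≠ ⊥ := fun e => (hW.resolve_right (not_not.2 hW2)) (by rw [hW1, e])
    rw [ho, hw2] at hcases
    have hGc := M.card_mul_index
    rw [hMc] at hGc
    rcases hcases with ⟨-, e⟩ | ⟨hi, e⟩ | ⟨hi, e⟩
    · exact absurd (Subgroup.eq_bot_of_card_eq _ e) hO1
    · refine Or.inr (Cfsg.Agent.S0984.result ?_)
      rw [← hGc, e, hi]
    · exfalso
      haveI : Fact (Nat.Prime 5) := ⟨by norm_num⟩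
      rw [e, hi] at hGc
      rw [mul_one] at e
      have hfac : (Nat.card G).factorization 5 = 1 := by
        rw [← hGc, show 24 * (5 * 1) * 63 = 5 ^ 1 * 1512 from rfl,
          Nat.factorization_mul (by norm_num) (by norm_num), Finsupp.add_apply,
          Nat.Prime.factorization_pow (by norm_num), Nat.factorization_eq_zero_of_not_dvd (by norm_num)]
        simp
      obtain ⟨P, hP⟩ : ∃ P : Sylow 5 G, (P : Subgroup G) = F.O :=
        ⟨Sylow.ofCard F.O (by rw [e, hfac, pow_one]), Sylow.coe_ofCard _ _⟩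
      have hMeq : normalizer ((P : Subgroup G) : Set G) = M := by
        rw [hP]
        exact (hM.le_iff_eq (hprop _ hO1 le_rfl)).1 hMN
      have hn := card_sylow_modEq_one 5 G
      rw [P.card_eq_index_normalizer, show normalizer (P : Set G) = M from hMeq, hi] at hn
      exact absurd hn (by decide)
  · have hk : ∃ k : ℕ, k ≤ 5 ∧ Nat.card F.O = k * F.w₂ := by
      rw [← ho]
      rcases hcases with ⟨-, e⟩ | ⟨-, e⟩ | ⟨-, e⟩
      exacts [⟨1, by norm_num, by rw [e, one_mul]⟩, ⟨3, by norm_num, e⟩, ⟨5, le_rfl, e⟩]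
    have hCN := F.C_le_normalizer_W₂ hcO hk
    obtain ⟨M', hM', hNM'⟩ := Cfsg.Lib.OddLocal.Uniqueness.exists_coatom_ge
      (hprop _ hW2 (F.four₂.W_le))
    have hC' : F.C ≤ M' := hCN.trans hNM'
    have hσ : F.σ₂ ∈ M' := hNM' (σ_mem_normalizer_W F.four₂ hm)
    have hR2 : Rot F.four₂ M' := by
      refine ⟨F.four₂.U_le_iff.2 ⟨hC' (F.S_le_C F.t_mem_S), hC' (F.S_le_C (mul_mem F.r_mem_S F.s_mem_S))⟩,
        F.σ₂, hσ, F.four₂.σ_t, F.four₂.σ_u⟩
    have hR1 : ¬ Rot F.four₁ M' := fun h => F.bothRotSpec hm M' hM' hC' h hR2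
    rcases hspec (Or.inl hW2) M' hM' hC' hR2 (fun h => hR1 (F.rot_of_rot_flip hC' h)) with hd | ⟨h24', hcen', -⟩
    · exact hd
    exfalso
    have hne' : M' ≠ F.flip.C := fun e => F.σ₂_not_mem_C (by rw [e] at hσ; exact hσ)
    have hD' := F.flip.core_eq_O hm hC' hne' h24' hcen'
    rw [hD'] at hcen'
    have hW2O : F.four₂.W = F.O := le_antisymm F.four₂.W_le fun x hx =>
      F.four₂.mem_W.2 ⟨hx, mem_centralizer_iff.1 (hcen' F.four₂.u_mem_U) x hx⟩
    have ho2 : F.w₂ = Nat.card F.O := by rw [Frame.w₂, hW2O]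
    -- so `O` is normal in `M` and in `M'`, hence in `G`
    have hMN' : F.O ≠ ⊥ := hW2O ▸ hW2
    have hMeq := (hM.le_iff_eq (hprop _ hMN' le_rfl)).1 hMN
    have hM'N : M' ≤ normalizer (F.O : Set G) := by
      rw [show F.O = Core M' from hD'.symm]; exact Cfsg.Lib.GW.le_normalizer_core M'
    exact h2 ⟨F.four₂.U_le_iff.2 ⟨hC (F.S_le_C F.t_mem_S), hC (F.S_le_C (mul_mem F.r_mem_S F.s_mem_S))⟩,
      F.σ₂, by rw [← hMeq]; exact hM'N hσ, F.four₂.σ_t, F.four₂.σ_u⟩

/-- The three cases give the maximality of `C`. -/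
theorem maximal_of_cases (hm : Minimal G) (hN : F.NoRotSpec) (h1 : F.OneRotSpec) (h2 : F.flip.OneRotSpec)
    (h3 : F.flip.flip.OneRotSpec) : F.Maximal := by
  intro hW
  haveI := hm.simple
  by_cases hd : IsDihType G
  · exact Or.inl hd
  refine Or.inr ?_
  have hCt : F.C ≠ ⊤ := by
    intro e
    have hz : F.t ∈ center G := mem_center_iff.2 fun x => F.mem_C.1 (e ▸ mem_top x)
    rcases IsSimpleGroup.eq_bot_or_eq_top_of_normal (center G) inferInstance with h | h
    · rw [h, mem_bot] at hz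
      have := F.t_order
      rw [hz, orderOf_one] at this
      omega
    · exact hm.nonab ⟨⟨fun a b => mem_center_iff.1 (h ▸ mem_top b) a⟩⟩
  obtain ⟨M, hM, hCM⟩ := Cfsg.Lib.OddLocal.Uniqueness.exists_coatom_ge hCt
  by_cases hR1 : Rot F.four₁ M
  · have hR2 := F.bothRotSpec hm M hM hCM hR1
    rcases h1 hW M hM hCM hR1 hR2 with h | h
    · exact absurd h hd
    · exact absurd (F.sfour_end hm h2 hM hCM hR1 hR2 hW h) hd
  by_cases hR2 : Rot F.four₂ M
  · have hR2' : ¬ Rot F.flip.four₂ M := fun h => hR1 (F.rot_of_rot_flip hCM h)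
    have hWf : F.flip.four₁.W ≠ ⊥ ∨ F.flip.four₂.W ≠ ⊥ := by
      rcases hW with h | h
      · refine Or.inr fun e => h (eq_bot_iff.2 fun w hw => mem_bot.2 ?_)
        have hst : F.s * F.t = F.t * F.s := F.S_comm_t F.s_mem_S
        have hwt := F.four₁.mem_centralizer_U.1 (F.four₁.W_le_centralizer_U hw)
        have hw' : F.s⁻¹ * w * F.s ∈ F.flip.four₂.W := by
          refine F.flip.four₂.mem_W.2 ⟨?_, ?_⟩
          · have := (mem_normalizer_iff.1 (F.C_le_normalizer_O (inv_mem (F.S_le_C F.s_mem_S))) w).1 hw.1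
            rwa [inv_inv] at this
          · show F.s⁻¹ * w * F.s * (F.r * F.s * F.s) = F.r * F.s * F.s * (F.s⁻¹ * w * F.s)
            have hrr : F.s⁻¹ * F.r * F.s = F.r * F.s * F.s := by
              have := F.rel
              rw [mul_inv_eq_iff_eq_mul] at this
              rw [← this]
            rw [← hrr]
            calc F.s⁻¹ * w * F.s * (F.s⁻¹ * F.r * F.s) = F.s⁻¹ * (w * F.r) * F.s := by group
              _ = F.s⁻¹ * (F.r * w) * F.s := by rw [show w * F.r = F.r * w from hwt.2]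
              _ = _ := by group
        rw [e, mem_bot] at hw'
        exact conj_eq_one_iff.1 (show F.s⁻¹ * w * F.s⁻¹⁻¹ = 1 by rw [inv_inv]; exact hw')
      · exact Or.inl h
    rcases h2 hWf M hM hCM hR2 hR2' with h | h
    · exact absurd h hd
    · exact absurd (F.flip.sfour_end hm h3 hM hCM hR2 hR2' hWf h) hd
  exact hN M hM hCM hR1 hR2 ▸ hM

end Frame

end Cfsg.Lib.GWD
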